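import Cfsg.Agent.Lib.Small.AbS
import Cfsg.Agent.Lib.Gsm.Main
import Cfsg.Agent.Lib.BS.Bro

/-! Groups in which the intersection of two Sylow 2-subgroups is central in both. -/

set_option autoImplicit false
set_option linter.unusedSectionVars false

namespace Cfsg.Lib.JTW.Cen
open Subgroup Cfsg.Lib.Core Cfsg.Lib.BG1 Cfsg.Lib.Invol Cfsg.Lib.Layer Cfsg.Lib.Gold
open Cfsg.Lib.Amalg hiding le_cent_symm op_top
open scoped commutatorElement

universe u

/-- central Sylow intersections -/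
def CI (G : Type*) [Group G] : Prop :=
  ∀ S T : Subgroup G, Syl 2 S ⊤ → Syl 2 T ⊤ → S ≠ T → S ⊓ T ≤ 𝐂(S)

variable {G : Type u} [Group G] [Finite G] {S T B D H K L R : Subgroup G} {g s x : G}

theorem CI.sub (h : CI G) (H : Subgroup G) : CI H := fun S T hS hT hne x hx y hy => by
  obtain ⟨S', h1, h2⟩ := exists_syl_ge (H := ⊤) (hS.isPGroup.map H.subtype) le_top
  obtain ⟨T', h3, h4⟩ := exists_syl_ge (H := ⊤) (hT.isPGroup.map H.subtype) le_top
  have h5 : S' ≠ T' := fun e => hne (by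
    have a := hS.eq_of_le (S'.subgroupOf H) (map_le_iff_le_comap.1 h2) le_top (Amalg.isPGroup_subgroupOf h1.isPGroup H)
    have b := hT.eq_of_le (T'.subgroupOf H) (map_le_iff_le_comap.1 h4) le_top (Amalg.isPGroup_subgroupOf h3.isPGroup H)
    rw [← a, ← b, e])
  exact Subtype.ext (h S' T' h1 h3 h5 ⟨h2 ⟨x, hx.1, rfl⟩, h4 ⟨x, hx.2, rfl⟩⟩ y (h2 ⟨y, hy, rfl⟩))

theorem exists_syl_map {X : Type*} [Group X] {f : G →* X} (hf : Function.Surjective f) {P : Subgroup X}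
    (hP : Syl 2 P ⊤) (hD : IsPGroup 2 D) (h : D.map f ≤ P) : ∃ S, Syl 2 S ⊤ ∧ D ≤ S ∧ S.map f = P := by
  have : Finite X := Finite.of_surjective f hf
  obtain ⟨S, h1, h2⟩ := exists_syl_ge hD (map_le_iff_le_comap.1 h)
  have h3 := h1.map f
  rw [map_comap_eq_self_of_surjective hf] at h3
  have h4 := h3.eq_of_isPGroup hP.isPGroup
  obtain ⟨S', h5, h6⟩ := exists_syl_ge (H := ⊤) h1.isPGroup le_top
  exact ⟨S', h5, h2.trans h6, hP.eq_of_le _ (h4.ge.trans (map_mono h6)) le_top (h5.isPGroup.map f)⟩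

theorem CI.quot (h : CI G) {X : Type*} [Group X] {f : G →* X} (hf : Function.Surjective f) : CI X := by
  intro P Q hP hQ hne x hx
  obtain ⟨S, h1, -, rfl⟩ := exists_syl_map hf hP IsPGroup.of_bot (by simp)
  obtain ⟨y, hy, rfl⟩ := hx.1
  obtain ⟨T, h2, h3, rfl⟩ := exists_syl_map hf hQ (h1.isPGroup.to_le (zpowers_le.2 hy))
    (by rw [MonoidHom.map_zpowers, zpowers_le]; exact hx.2)
  rintro _ ⟨z, hz, rfl⟩
  rw [← map_mul, ← map_mul, h S T h1 h2 (fun e => hne (e ▸ rfl)) ⟨hy, h3 (mem_zpowers y)⟩ z hz]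

theorem CI.mem_norm (h : CI G) (hS : Syl 2 S ⊤) (hx : x ∈ S) (h1 : x ∉ 𝐂(S)) (hg : g * x * g⁻¹ ∈ S) : g ∈ 𝐍(S) := by
  by_contra h2
  refine h1 (h S (cj g⁻¹ S) hS (hS.conj_top _) (fun e => h2 ?_) ⟨hx, mem_cj.2 (by simpa using hg)⟩)
  exact (inv_mem_iff).1 (cj_eq_self_iff.1 e.symm)

theorem CI.sc (h : CI G) (hS : Syl 2 S ⊤) (hx : x ∈ S) (h1 : x ∈ 𝐂(S)) (hg : g * x * g⁻¹ ∈ S) :
    g * x * g⁻¹ ∈ 𝐂(S) := by
  by_cases e : S = cj g S
  · rw [e, ← cj_centralizer]; exact conj_mem_cj g h1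
  · exact h S _ hS (hS.conj_top g) e ⟨hg, conj_mem_cj g hx⟩

theorem solvable_of_syl (hR : Syl 2 R L) (hn : L ≤ 𝐍(R)) : Group.IsSolvable L := by
  have h1 : (R.subgroupOf L).Normal := (normal_subgroupOf_iff_le_normalizer hR.le).2 hn
  have := solvable_of_pgroup Nat.prime_two (Amalg.isPGroup_subgroupOf hR.isPGroup L)
  have := FT.odd_order_solvable (L ⧸ R.subgroupOf L) (Nat.odd_iff.2 (Nat.two_dvd_ne_zero.1 hR.not_dvd_relIndex))
  exact isSolvable_of_normal_of_quotient (R.subgroupOf L)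

theorem CI.star (h : CI G) (hS : Syl 2 S ⊤) (hL : ¬ Group.IsSolvable L) (hx : x ∈ S) (h1 : x ∈ 𝐂(L)) : x ∈ 𝐂(S) := by
  by_contra h2
  refine hL (solvable_of_le (fun g hg => h.mem_norm hS hx h2 ?_)
    (solvable_of_syl (hS.of_le le_normalizer le_top) le_rfl))
  rwa [h1 g hg, mul_inv_cancel_right]

theorem comp_ns (hL : IsComponent L) : ¬ Group.IsSolvable L := IsQuasisimple.not_isSolvable hL.2

/-- if `S` centralizes its intersection with a component then `S` is abelian -/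
theorem CI.comm_of_comp (h : CI G) (hO : pPrimeCore 2 G = ⊥) (hS : Syl 2 S ⊤) (hL : IsComponent L)
    (h1 : S ⊓ L ≤ 𝐂(S)) : S ≤ 𝐂(S) := fun s hs => by
  have hR := hS.inf_subnormal_top hL.1
  have h2 : s ∈ 𝐍(L) := by
    refine cj_eq_self_iff.1 (by_contra fun e => comp_ns hL (solvable_of_syl hR (le_norm_of_le_cent
      (BG1.le_cent_symm fun x hx => ?_))))
    refine comm_eq_bot_iff.1 (IsComponent.commutator_eq_bot_of_ne (IsComponent.cj hL s) hL e) ?_
    have := conj_mem_cj s hx.2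
    rwa [h1 hx s hs, mul_inv_cancel_right] at this
  obtain ⟨k, hk⟩ := isPGroup_iff_mem.1 hS.isPGroup s hs
  obtain ⟨r, hr, h3⟩ := exists_inner_cent hR (PGrp.isMulCommutative_iff_forall.2 fun x hx y hy => h1 hy x hx.1)
    (le_bot_iff.1 ((piCoreOf_le_piCore_of_isSubnormal hL.1).trans
      ((pPrimeCore_eq_piCore Nat.prime_two).symm.trans hO).le)) h2 (fun y hy => (h1 hy s hs).symm) hk
  simpa using mul_mem (h.star hS (comp_ns hL) (mul_mem hs hr.1) h3) (inv_mem (h1 hr))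

/-- the structure of `F*(G)` -/
theorem CI.fstar (h : CI G) (hO : pPrimeCore 2 G = ⊥) (hg : pElementClosure 2 (⊤ : Subgroup G) = ⊤) (hS : Syl 2 S ⊤)
    (hn : ¬ S.Normal) (hc : ¬ S ≤ 𝐂(S)) :
    IsPGroup 2 (center G) ∧ ∃ L : Subgroup G, IsComponent L ∧ L.Normal ∧ 𝐂(L) = center G ∧ ¬ S ⊓ L ≤ 𝐂(S) := by
  have h1 : pCore 2 G ≤ center G := by
    rw [← centralizer_top, ← hg]
    refine BG1.le_cent_symm (pec_le_of_syl fun P hP => BG1.le_cent_symm ?_)
    obtain ⟨g, hg⟩ : ∃ g, cj g P ≠ P := by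
      by_contra! e
      obtain ⟨k, -, rfl⟩ := hP.exists_conj hS
      exact hn ((e k).symm ▸ normal_of_cj e)
    exact (le_inf hP.pCore_le (hP.conj_top g).pCore_le).trans (h _ _ hP (hP.conj_top g) hg.symm)
  have h2 : center G ≤ pCore 2 G := center_le_fit.trans (fit_eq_pCore hO).le
  have h3 : layer G ≠ ⊥ := fun e => hn (by
    have h4 := (centralizer_pCore_le_iff (p := 2)).2 ⟨hO, e⟩
    have h5 : ⊤ ≤ S := (BG1.le_cent_symm (h1.trans centralizer_top.ge)).trans (h4.trans hS.pCore_le)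
    rw [top_le_iff.1 h5]; infer_instance)
  obtain ⟨L, hL⟩ := exists_component_of_layer_ne_bot h3
  have h4 : layer G = L := le_antisymm (layer_le fun K hK => by_contra fun h5 => hc (h.comm_of_comp hO hS hK
    fun x hx => h.star hS (comp_ns hL) hx.1 (comm_eq_bot_iff.1 (IsComponent.commutator_eq_bot_of_ne hK hL
      fun e => h5 e.le) hx.2))) (IsComponent.le_layer hL)
  refine ⟨(isPGroup_pCore 2 G).to_le h2, L, hL, h4 ▸ layer_normal, le_antisymm ?_ (center_le_centralizer _),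
    fun h5 => hc (h.comm_of_comp hO hS hL h5)⟩
  refine (le_fit_of_commutator_eq_bot (h4.symm ▸ comm_eq_bot_iff.2 le_rfl) (comm_eq_bot_iff'.2 ?_)).trans
    ((fit_eq_pCore hO).le.trans h1)
  exact ((fit_eq_pCore hO).le.trans h1).trans (center_le_centralizer _)

open Cfsg.Lib.BS in
/-- a simple group with a strongly embedded subgroup is generated by two Sylow 2-subgroups -/
theorem sup_eq_top [IsSimpleGroup G] (hH : IsStronglyEmbedded H) (hS : Syl 2 S ⊤) (hT : Syl 2 T ⊤) (hne : S ≠ T) :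
    S ⊔ T = ⊤ := by
  obtain ⟨Q, t, h, hf, h2⟩ := bro.simple hH
  obtain ⟨P, rfl⟩ := h.sylow_eq hf h2
  obtain ⟨k, -, rfl⟩ := (syl_top P).exists_conj hS
  obtain ⟨g, -, e⟩ := (syl_top P).exists_conj (hT.conj_top k⁻¹)
  obtain rfl : T = cj k (cj g (P : Subgroup G)) := by rw [e, cj_cj_inv]
  rw [← cj_sup, cj_eq_top_iff]
  have a : ∀ g ∉ H, ∃ y ∈ (P : Subgroup G), cj g (P : Subgroup G) = cj y (cj t (P : Subgroup G)) := fun g hg => by
    obtain ⟨y, hy, x, hx, rfl⟩ := h.exists_QtH hg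
    exact ⟨y, hy, by rw [cj_mul, cj_mul, cj_of_mem_normalizer (h.norm hx)]⟩
  obtain ⟨y, hy, e⟩ := a g fun hg => hne (by rw [cj_of_mem_normalizer (h.norm hg)])
  have b : cj t (P : Subgroup G) ≤ (P : Subgroup G) ⊔ cj g (P : Subgroup G) := by
    rw [← cj_inv_cj y (cj t _), ← e]
    exact cj_le_of_le_of_mem le_sup_right (mem_sup_left (inv_mem hy))
  have c : normalClosure ((P : Subgroup G) : Set G) ≤ (P : Subgroup G) ⊔ cj g (P : Subgroup G) := by
    rw [normalClosure_eq_iSup_cj]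
    refine iSup_le fun g' => ?_
    by_cases hg : g' ∈ H
    · rw [cj_of_mem_normalizer (h.norm hg)]; exact le_sup_left
    · obtain ⟨y, hy, e⟩ := a g' hg
      exact e ▸ cj_le_of_le_of_mem b (mem_sup_left hy)
  rcases (normalClosure_normal (s := ((P : Subgroup G) : Set G))).eq_bot_or_eq_top with e | e
  · exact absurd (le_bot_iff.1 (le_normalClosure.trans e.le)) h.Q_ne_bot
  · exact top_le_iff.1 (e.ge.trans c)

/-- trivial intersections in the almost simple quotient -/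
theorem ti [K.Normal] (hK : IsSimpleGroup K) (hK' : ¬ IsMulCommutative K) (hC : 𝐂(K) = ⊥) (hS : Syl 2 S ⊤)
    (hB : B ≤ S) (hB' : B ≤ 𝐂(S)) (hsc : ∀ x ∈ B, ∀ g, g * x * g⁻¹ ∈ S → g * x * g⁻¹ ∈ B)
    (hi : ∀ g ∉ 𝐍(S), S ⊓ cj g S ≤ B) (hR : ¬ S ⊓ K ≤ B) (hg : g ∉ 𝐍(S)) : S ⊓ cj g S = ⊥ := by
  have hR1 := hS.inf_normal_top K
  have hnK : ∀ g, ∀ k ∈ K, g * k * g⁻¹ ∈ K := fun g k hk => Normal.conj_mem ‹_› k hk g
  refine eq_bot_iff.2 fun x hx => hC.le ?_
  have hxB := hi g hg hx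
  by_cases h0 : B ⊓ K = ⊥
  · have hz : zpowers x ≤ 𝐂(S ⊓ K) := zpowers_le.2 fun y hy => hB' hxB y hy.1
    have hT := syl_sup hR1 (hS.isPGroup.to_le (zpowers_le.2 hx.1)) le_normalizer_of_normal (le_norm_of_le_cent hz)
    have a : ∀ k ∈ K, k * x * k⁻¹ * x⁻¹ ∈ K := fun k hk => by
      simpa [mul_assoc] using mul_mem hk (hnK x _ (inv_mem hk))
    intro k hk
    have h1 := zstar_amb hT (mem_sup_right (mem_zpowers x)) (fun y hy h1 => ?_) (mem_sup_left hk)
    · have h2 := piCoreOf_inf_le' (le_sup_left : K ≤ K ⊔ zpowers x) ⟨h1, a k hk⟩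
      rw [piCoreOf, ← pPrimeCore_eq_piCore Nat.prime_two, show pPrimeCore 2 K = ⊥ from core_of_simple hK',
        Subgroup.map_bot, mem_bot, mul_inv_eq_one, mul_inv_eq_iff_eq_mul] at h2
      exact h2
    · obtain ⟨k, hk, _, ⟨i, rfl⟩, rfl⟩ := mem_sup_of_normal_left.1 hy
      have e : k * x ^ i * x * (k * x ^ i)⁻¹ = k * x * k⁻¹ := by group
      simp only at h1 ⊢
      rw [e] at h1 ⊢
      have h2 : k * x * k⁻¹ * x⁻¹ ∈ B ⊓ K := ⟨B.mul_mem (hsc x hxB k (sup_le inf_le_left (zpowers_le.2 hx.1) h1))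
        (B.inv_mem hxB), a k hk⟩
      rwa [h0, mem_bot, mul_inv_eq_one] at h2
  have hR2 : Syl 2 ((S ⊓ K).subgroupOf K) ⊤ := hR1.subgroupOf_top
  rcases Gsm.goldschmidt hR2 (A := B.subgroupOf K) (fun e => h0 (disjoint_iff.1 (subgroupOf_eq_bot.1 e)))
    (comm_subgroupOf (PGrp.isMulCommutative_iff_forall.2 fun x hx y hy => hB' hy x (hB hx)) K)
    ⟨fun y hy => ⟨hB hy, y.2⟩, fun y hy k hk => hsc y hy k hk.1⟩ with hc | ⟨H, hH⟩
  · have gd := Wal.gd_of_comm hK' hR2 hc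
    obtain ⟨b, hb, b1⟩ := (bot_or_exists_ne_one _).resolve_left h0
    refine absurd (fun r hr => by_contra fun h1 => ?_) hR
    have two : ∀ r ∈ S, ∀ hr : r ∈ K, r ≠ 1 → orderOf (⟨r, hr⟩ : K) = 2 := fun r h1 h2 h3 =>
      two_of_sq ((sq _).trans (gd.el _ ((isPGroup_iff_mem.1 hS.isPGroup r h1).imp fun k hk => Subtype.ext hk)))
        fun e => h3 (congrArg Subtype.val e)
    obtain ⟨k, hk⟩ := isConj_iff.1 (gd.one _ _ (two b (hB hb.1) hb.2 b1) (two r hr.1 hr.2 fun e => h1 (e ▸ one_mem _)))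
    have e : (k : G) * b * (k : G)⁻¹ = r := congrArg Subtype.val hk
    exact h1 (e ▸ hsc b hb.1 k (e ▸ hr.1))
  · have h1 := sup_eq_top hH hR2 ((hS.conj_top g).inf_normal_top K).subgroupOf_top fun e => hR fun r hr =>
      hi g hg ⟨hr.1, (e.le (show (⟨r, hr.2⟩ : K) ∈ _ from hr)).1⟩
    have h2 : x ∈ 𝐂(cj g S) := by
      rw [← cj_centralizer, mem_cj]
      exact hB' (hi g⁻¹ (fun e => hg (inv_mem_iff.1 e)) ⟨mem_cj.1 hx.2, by simpa using conj_mem_cj g⁻¹ hx.1⟩)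
    intro k hk
    have h3 : ⊤ ≤ 𝐂[x].subgroupOf K := h1.ge.trans (sup_le (fun y hy => Invol.mem_cent.2 (hB' hxB y hy.1))
      (fun y hy => Invol.mem_cent.2 (h2 y hy.1)))
    exact Invol.mem_cent.1 (h3 (mem_top ⟨k, hk⟩))

/-- `S / Z(S)` is not generated by two elements -/
def NG {X : Type*} [Group X] (S : Subgroup X) : Prop := ∀ a ∈ S, ∀ b ∈ S, ¬ S ≤ closure {a, b} ⊔ S ⊓ 𝐂(S)

theorem le_of_odd_index [K.Normal] (hK : Odd K.index) (hD : IsPGroup 2 D) : D ≤ K := by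
  obtain ⟨k, hk⟩ := IsPGroup.iff_card.1 hD
  exact le_of_coprime_card_index (hk ▸ (Nat.coprime_two_left.2 hK).pow_left k)

open Cfsg.Lib.BS in
theorem ng_of_ro {t : G} (h : RO H S t) (h2 : R2 (⊤ : Subgroup G)) (hG : Good H S t) (hc : ¬ S ≤ 𝐂(S)) : NG S := by
  intro a ha b hb h1
  have h3 : ⁅a, b⁆ ∈ Q0g S := by
    have e : ⁅a, b⁆ = a * a * (a⁻¹ * b * (a⁻¹ * b)) * (b⁻¹ * b⁻¹) := by rw [commutatorElement_def]; group
    have q : ∀ x ∈ S, x * x ∈ Q0g S := fun x hx => mem_Q0g_of (mul_mem hx hx) (hG.four x hx)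
    exact e ▸ mul_mem (mul_mem (q a ha) (q _ (mul_mem (inv_mem ha) hb))) (q _ (inv_mem hb))
  have h4 : closure {a, b} ≤ S := (closure_le _).2 (by rintro _ (rfl | rfl) <;> assumption)
  have h5 : S ≤ 𝐍(zpowers ⁅a, b⁆) := le_norm_of_le_cent (BG1.le_cent_symm (zpowers_le.2 fun y hy =>
    (h.commute_Q0 h2 h3 hy).symm))
  have h6 : ⁅S, S⁆ ≤ zpowers ⁅a, b⁆ := by
    refine (commutator_sup_central_le (comm_eq_bot_iff.2 (inf_le_right.trans (centralizer_le h4)))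
      (comm_eq_bot_iff.2 (inf_le_right.trans (centralizer_le inf_le_left))) h1).trans
      (comm_closure_le (fun x hx k hk => ?_) fun x hx => h5 (h4 (subset_closure hx)))
    induction hk using closure_induction with
    | mem y hy =>
      rcases hx with rfl | rfl <;> rcases hy with rfl | rfl
      · simp
      · exact mem_zpowers _
      · rw [← inv_mem_iff, commutatorElement_inv]; exact mem_zpowers _
      · simp
    | one => simp
    | mul k l hk _ h6 h7 =>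
      have e : ⁅x, k * l⁆ = ⁅x, k⁆ * (k * ⁅x, l⁆ * k⁻¹) := by simp only [commutatorElement_def]; group
      exact e ▸ mul_mem h6 ((mem_normalizer_iff.1 (h5 (h4 hk)) _).1 h7)
    | inv k hk h6 =>
      have e : ⁅x, k⁻¹⁆ = k⁻¹ * ⁅x, k⁆⁻¹ * k⁻¹⁻¹ := by simp only [commutatorElement_def]; group
      exact e ▸ (mem_normalizer_iff.1 (h5 (h4 (inv_mem hk))) _).1 (inv_mem h6)
  by_cases e : ⁅a, b⁆ = 1
  · exact hc (comm_eq_bot_iff.1 (le_bot_iff.1 (h6.trans (by simp [e]))))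
  have c2 : orderOf ⁅a, b⁆ = 2 := two_of_sq ((sq _).trans ((h.mem_Q0 h2).1 h3).2) e
  have key : ∀ u ∈ S, orderOf u = 2 → u = ⁅a, b⁆ := fun u hu u2 => by
    obtain ⟨k, hk, -, rfl⟩ := h.exists_K c2 (h.le (Q0g_le _ h3)) u2 (h.le hu)
    have := h6 ((mem_normalizer_iff.1 (norm_comm h.norm h.norm hk.1) _).1 (commutator_mem_commutator ha hb))
    exact eq_of_mem_zpowers this (mem_zpowers _) u2 c2
  obtain ⟨x, hx, y, hy, x2, y2, e, -⟩ := h.r2_Q h2
  exact e ((key x hx x2).trans (key y hy y2).symm)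

open Cfsg.Lib.BS in
/-- the central quotient is a Bender group -/
theorem CI.bender (h : CI G) (hO : pPrimeCore 2 G = ⊥) (hg : pElementClosure 2 (⊤ : Subgroup G) = ⊤) (hS : Syl 2 S ⊤)
    (hn : ¬ S.Normal) (hc : ¬ S ≤ 𝐂(S)) {Y : Type u} [Group Y] {f : G →* Y} (hf : Function.Surjective f)
    (hk : f.ker = center G) : IsPGroup 2 (center G) ∧ IsSimpleGroup Y ∧ ¬ IsMulCommutative Y ∧ Bender Y ∧
      (IsL2e Y ∨ NG (S.map f)) := by
  have : Finite Y := Finite.of_surjective f hf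
  obtain ⟨h1, L, hL, hLn, h2, h3⟩ := h.fstar hO hg hS hn hc
  have hZ : center G ≤ S := hS.le_of_normal h1 le_top le_normalizer_of_normal
  have mem : ∀ {x}, f x ∈ S.map f → x ∈ S := fun hx =>
    (comap_map_eq_self (hk.le.trans hZ)).le (mem_comap.2 hx)
  have : (L.map f).Normal := hLn.map f hf
  have hC : 𝐂(L.map f) = ⊥ := eq_bot_iff.2 fun y hy => by
    obtain ⟨x, rfl⟩ := hf y
    refine hk.ge (h2.le (zpowers_le.1 (comm_eq_bot_iff'.1 (commutator_eq_bot_of_perfect (IsComponent.commutator_self hL)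
      (comm_eq_bot_iff.2 (le_trans ?_ (hk.le.trans h2.ge)))))))
    rw [← Subgroup.map_eq_bot_iff, map_commutator, MonoidHom.map_zpowers, comm_eq_bot_iff, zpowers_le]
    exact hy
  have hq : IsQuasisimple (L.map f) := IsQuasisimple.map hL.2 f fun e =>
    IsQuasisimple.not_le_centralizer hL.2 (((Subgroup.map_eq_bot_iff _).1 e).trans (hk.le.trans h2.ge))
  have hK : IsSimpleGroup (L.map f) := IsQuasisimple.isSimpleGroup hq (by
    rw [← map_eq_bot_iff_of_injective _ (L.map f).subtype_injective, Core.map_subtype_center, hC, inf_bot_eq])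
  have hK' := IsQuasisimple.not_isMulCommutative hq
  have hS' := hS.map_top hf
  have ht : ∀ g ∉ 𝐍(S.map f), S.map f ⊓ cj g (S.map f) = ⊥ := fun g hg => by
    refine ti (B := (S ⊓ 𝐂(S)).map f) hK hK' hC hS' (map_mono inf_le_left) ?_ ?_ ?_ ?_ hg
    · rintro _ ⟨x, hx, rfl⟩ _ ⟨y, hy, rfl⟩
      rw [← map_mul, ← map_mul, hx.2 y hy]
    · rintro _ ⟨x, hx, rfl⟩ g hg
      obtain ⟨g, rfl⟩ := hf g
      rw [← map_inv, ← map_mul, ← map_mul] at hg ⊢
      exact ⟨_, ⟨mem hg, h.sc hS hx.1 hx.2 (mem hg)⟩, rfl⟩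
    · rintro g hg _ ⟨⟨x, hx, rfl⟩, h4⟩
      obtain ⟨g, rfl⟩ := hf g
      rw [← map_cj] at h4
      refine ⟨x, ⟨hx, h _ _ hS (hS.conj_top g) (fun e => hg (cj_eq_self_iff.1 (by rw [← map_cj, ← e]))) ⟨hx, ?_⟩⟩, rfl⟩
      exact (comap_map_eq_self (hk.le.trans (cj_normal g (center G) ▸ cj_mono g hZ))).le (mem_comap.2 h4)
    · refine fun h4 => h3 fun x hx => ?_
      obtain ⟨y, hy, e⟩ := h4 ⟨mem_map_of_mem f hx.1, mem_map_of_mem f hx.2⟩
      have h5 : y⁻¹ * x ∈ center G := hk.le (by rw [MonoidHom.mem_ker, map_mul, map_inv, e, inv_mul_cancel])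
      simpa using mul_mem hy.2 (center_le_centralizer _ h5)
  have h0 : S.map f ≠ ⊥ := fun e => hc (((Subgroup.map_eq_bot_iff _).1 e).trans (hk.le.trans (center_le_centralizer _)))
  have hse : IsStronglyEmbedded 𝐍(S.map f) := spe_two_iff.1 (spe_of_syl le_top (fun e => hn (by
      have := normalizer_eq_top_iff.1 e
      rw [← comap_map_eq_self (hk.le.trans hZ)]; infer_instance)) hS' h0 fun A h4 h5 g hg => by_contra fun h6 =>
    h5 (le_bot_iff.1 ((le_inf h4 (cj_of_mem_normalizer hg.2 ▸ cj_mono g h4)).trans (ht g h6).le)))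
  have hO' : oddCore Y = ⊥ := le_bot_iff.1 ((comm_eq_bot_iff.1 (le_bot_iff.1 ((commutator_le_inf _ _).trans ?_))).trans hC.le)
  · obtain ⟨Q, t, hr, h5, h6, h7⟩ := ro_of_se hse hO'
    obtain rfl : Q = S.map f := hS'.eq_of_le _ (hr.le_Q_of_isPGroup hS'.isPGroup le_normalizer) le_top h7.two
    obtain ⟨b1, b2, b3, -⟩ := hr.bender h6 h5
    have e : normalClosure ({t} : Set Y) = ⊤ := by
      rw [eq_top_iff, ← map_top_of_surjective f hf, ← hg, map_le_iff_le_comap]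
      exact pec_le_of_syl fun P hP => map_le_iff_le_comap.1 (le_of_odd_index b3 (hP.isPGroup.map f))
    have e' : normalClosure ({t} : Set Y) ≃* Y := (MulEquiv.subgroupCongr e).trans topEquiv
    have hY : IsSimpleGroup Y := e'.symm.isSimpleGroup
    have hY' : ¬ IsMulCommutative Y := fun h => hK' (comm_of_le (B := ⊤) inferInstance le_top)
    exact ⟨h1, hY, hY', hr.bender_simple, (em _).imp (fun h => (l2e_of_se hY' hS'
      (le_centralizer_iff_isMulCommutative.1 h) hse le_normalizer).2.2.2) (ng_of_ro hr h5 h7)⟩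
  · have h4 := (inferInstance : ((oddCore Y).subgroupOf (L.map f)).Normal).eq_bot_or_eq_top
    refine (disjoint_iff.1 (subgroupOf_eq_bot.1 (h4.resolve_right fun e => ?_))).le
    exact IsQuasisimple.not_le_of_isSolvable hq (FT.solvable_of_not_two_dvd _
      (not_dvd_card_pPrimeCore Nat.prime_two)) (subgroupOf_eq_top.1 e)

/-- a Sylow 2-subgroup with `S / Z(S)` not generated by two elements centralizes the odd order subgroups it normalizes -/
theorem CI.le_cent (h : CI G) (hS : Syl 2 S ⊤) (hG : NG S) (hD : ¬ 2 ∣ Nat.card D) (hn : S ≤ 𝐍(D)) : D ≤ 𝐂(S) := by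
  induction hm : Nat.card D using Nat.strong_induction_on generalizing D with
  | _ m ih =>
  have a : ∀ s ∈ S, s ∉ 𝐂(S) → ∀ d ∈ D, d * s = s * d → d ∈ 𝐂(S) := fun s hs h1 d hd e y hy => by
    have h2 := h.mem_norm hS hs h1 (g := d) (by rwa [e, mul_inv_cancel_right])
    have h3 : d * y * d⁻¹ * y⁻¹ ∈ S ⊓ D := ⟨S.mul_mem ((mem_normalizer_iff.1 h2 y).1 hy) (S.inv_mem hy), by
      simpa [mul_assoc] using mul_mem hd ((mem_normalizer_iff.1 (hn hy) _).1 (inv_mem hd))⟩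
    rw [isPGroup_eq_bot_of_not_dvd hS.isPGroup.to_inf_left inf_le_right hD, mem_bot, mul_inv_eq_one,
      mul_inv_eq_iff_eq_mul] at h3
    exact h3.symm
  let φ : S →* MulAut D := D.normalizerMonoidHom.comp (inclusion hn)
  have hφ : ∀ (s : S) (d : D), (φ s d : G) = s * d * (s : G)⁻¹ := fun _ _ => rfl
  by_cases hk : ∃ s : S, φ s = 1 ∧ (s : G) ∉ 𝐂(S)
  · obtain ⟨s, h1, h2⟩ := hk
    refine fun d hd => a s s.2 h2 d hd ?_
    have := hφ s ⟨d, hd⟩
    rw [h1, eq_mul_inv_iff_mul_eq] at this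
    exact this
  have hP : IsPGroup 2 φ.range := hS.isPGroup.of_surjective _ φ.rangeRestrict_surjective
  have gen : ∀ a b : S, ¬ φ.range ≤ closure {φ a, φ b} := fun a b e => hG a a.2 b b.2 fun s hs => by
    have h1 := e ⟨⟨s, hs⟩, rfl⟩
    rw [← Set.image_pair, ← MonoidHom.map_closure] at h1
    obtain ⟨y, hy, e⟩ := h1
    have h2 : ((y⁻¹ * ⟨s, hs⟩ : S) : G) ∈ 𝐂(S) := by_contra fun h2 => hk ⟨_, by rw [map_mul, map_inv, e, inv_mul_cancel], h2⟩
    have h3 : (y : G) ∈ closure {(a : G), (b : G)} := by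
      have := mem_map_of_mem S.subtype hy
      rwa [MonoidHom.map_closure, Set.image_pair] at this
    simpa using mul_mem_sup h3 (mem_inf.2 ⟨(y⁻¹ * ⟨s, hs⟩ : S).2, h2⟩)
  obtain ⟨α, hα, β, hβ, α2, β2, hne, hc⟩ : BS.R2 φ.range := by
    by_contra h2
    have hU : Block.UniqInv φ.range := fun s t hs ht hc => by_contra fun e =>
      h2 ⟨s, s.2, t, t.2, (orderOf_coe s).trans hs, (orderOf_coe t).trans ht, fun e' => e (Subtype.ext e'),
        congrArg Subtype.val hc⟩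
    rcases Block.isCyclic_or_quatData' hP (fun s hs t ht s2 t2 => congrArg Subtype.val (hU.eq_of_mem
      (hP.to_subgroup ⊤) (mem_top ⟨s, hs⟩) (mem_top ⟨t, ht⟩) ((orderOf_coe _).symm.trans s2)
        ((orderOf_coe _).symm.trans t2))) with hc | ⟨x, y, n, hq⟩
    · obtain ⟨⟨_, x, rfl⟩, hx⟩ := hc.exists_generator
      refine gen x x fun y hy => ?_
      obtain ⟨i, hi⟩ := hx ⟨y, hy⟩
      obtain rfl : φ x ^ i = y := congrArg Subtype.val hi
      exact zpow_mem (subset_closure (by simp)) i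
    · obtain ⟨x, rfl⟩ := (hq.mem x).2 ⟨1, Or.inl (by simp)⟩
      obtain ⟨y, rfl⟩ := (hq.mem y).2 ⟨0, Or.inr (by simp)⟩
      exact gen y x hq.eq_closure.le
  have hB : closure {α, β} ≤ φ.range := (closure_le _).2 (by rintro _ (rfl | rfl) <;> assumption)
  have : IsMulCommutative (closure {α, β}) := isMulCommutative_closure (by
    rintro _ (rfl | rfl) _ (rfl | rfl) <;> first | rfl | exact hc | exact hc.symm)
  obtain ⟨k, hk'⟩ := IsPGroup.iff_card.1 (hP.to_le hB)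
  have h1 := Coprime.act_le_of_forall_fixed_le (φ := MonoidHom.id _) (B := closure {α, β}) (H := ⊤)
    (L := 𝐂(S).subgroupOf D) (fun h1 => hne (eq_of_isCyclic h1 (subset_closure (by simp)) (subset_closure (by simp)) α2 β2))
    (fun _ _ _ _ => mem_top _) (by
      rw [hk', card_top]; exact (Nat.prime_two.coprime_iff_not_dvd.2 hD).pow_left k) fun b hb b1 x _ e => ?_
  · exact fun d hd => h1 (mem_top ⟨d, hd⟩)
  obtain ⟨s, rfl⟩ := hB hb
  have e' : (x : G) * s = s * x := by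
    have := hφ s x
    rwa [show φ s x = x from e, eq_mul_inv_iff_mul_eq] at this
  by_cases h2 : (s : G) ∈ 𝐂(S)
  · refine ih _ (hm ▸ card_lt_of_lt' (lt_of_le_of_ne (inf_le_left : D ⊓ 𝐂[(s : G)] ≤ D) fun e => b1 ?_))
      (fun h3 => hD (h3.trans (card_dvd_of_le inf_le_left))) (BS.norm_inf hn (le_trans
        (fun y hy => Invol.mem_cent.2 (h2 y hy)) le_normalizer)) rfl ⟨x.2, Invol.mem_cent.2 e'⟩
    ext d
    rw [hφ, ← (Invol.mem_cent.1 (e.ge d.2).2).eq, mul_inv_cancel_right]; rfl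
  · exact a s s.2 h2 x x.2 e'

end Cfsg.Lib.JTW.Cen
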