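import Cfsg.Agent.Lib.U3.Even
import Cfsg.Agent.Lib.Twist.MuA
import Cfsg.Agent.Lib.Twist.ReeMult
import Cfsg.Agent.Lib.Coprime.Four
import Cfsg.Agent.Lib.Amalg.Ops

/-! The Schur multiplier of `SU₃(2ⁿ)`, `n ≥ 2`, is trivial. -/

set_option autoImplicit false
set_option linter.unusedSectionVars false

namespace Cfsg.Lib.JTW.Cen
open Subgroup Cfsg.Lib.Forms Cfsg.Lib.U3 Cfsg.Lib.Chev Cfsg.Lib.Twist
open scoped commutatorElement

variable {F : Type*} [Field F] {σ : F →+* F} {q n : ℕ} (h : IsConj σ q) {E : Type*} [Group E]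

/-- the weight of the torus on `U / Z(U)` -/
def kk (σ : F →+* F) (c : Fˣ) : Fˣ := Units.map σ c * Units.map σ c * c⁻¹

theorem kk_val (c : Fˣ) : (kk σ c : F) = σ c * σ c / c := by simp [kk, div_eq_mul_inv]

theorem dd_conj (c : Fˣ) (x : Heis h) : dd h c * nn h x * (dd h c)⁻¹ = nn h (Heis.dil h (kk σ c) x) := by
  rw [mul_inv_eq_iff_eq_mul]
  refine su_ext fun u => ?_
  have := (map_ne_zero σ).2 c.ne_zero
  have := c.ne_zero
  rw [su_mul_apply, su_mul_apply, dd_apply, nn_apply, nn_apply, dd_apply]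
  ext i; fin_cases i <;> simp [kk_val, h.σσ] <;> field_simp

theorem dd_inj : Function.Injective (dd h) := (injective_iff_map_eq_one _).2 fun c e => by
  have := congrFun (dd_apply h c ![0, 0, 1]) 2
  rw [e] at this
  exact Units.ext (by simpa using this.symm)

include h in
theorem exists_pair (hn : 2 ≤ n) (hq : q = 2 ^ n) :
    ∃ c c' : Fˣ, (kk σ c : F) + kk σ c' = 1 ∧ (kk σ c : F)⁻¹ + (kk σ c' : F)⁻¹ ≠ 1 := by
  have := h.finite
  have h2 := two_eq_zero h hq
  have key : ∀ p : F → Prop, 4 < Nat.card {x // p x} → ∃ v, p v ∧ v ^ 4 ≠ v := fun p hp => by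
    by_contra! e
    have h1 : Nat.card {x : F // x ^ 4 = x} ≤ 4 := by
      classical
      have := Fintype.ofFinite F
      rw [Nat.card_eq_fintype_card, Fintype.card_subtype]
      have h3 := FiniteField.X_pow_card_sub_X_ne_zero F (p := 4) (by norm_num)
      refine le_trans (Polynomial.card_le_degree_of_subset_roots (p := Polynomial.X ^ 4 - Polynomial.X) fun x hx => ?_)
        (FiniteField.X_pow_card_sub_X_natDegree_eq F (by norm_num)).le
      simpa [h3, sub_eq_zero] using hx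
    exact absurd (Nat.card_le_card_of_injective (fun x : {x // p x} => (⟨x, e x x.2⟩ : {x : F // x ^ 4 = x}))
      fun x y e => Subtype.ext (Subtype.mk.inj e)) (by omega)
  obtain ⟨v, hv, c, c', e, e'⟩ : ∃ v : F, v ^ 4 ≠ v ∧ ∃ c c' : Fˣ, (kk σ c : F) = v ∧ (kk σ c' : F) = 1 + v := by
    have a : ∀ v : F, v ^ 4 ≠ v → v ≠ 0 ∧ 1 + v ≠ 0 := fun v hv => ⟨fun e => hv (by simp [e]), fun e => hv (by
      obtain rfl : v = 1 := by linear_combination e - h2
      simp)⟩
    rcases hn.eq_or_lt with rfl | hn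
    · obtain ⟨v, -, hv⟩ := key (fun _ => True) (by
        rw [Nat.card_congr (Equiv.subtypeUnivEquiv fun _ => trivial), h.card, hq]; norm_num)
      have b : ∀ v : F, v ≠ 0 → ∃ c : Fˣ, (kk σ c : F) = v := fun v h0 => ⟨Units.mk0 v h0 ^ 13, by
        have := Fintype.ofFinite F
        have h1 : v ^ 15 = 1 := by
          simpa [← Nat.card_eq_fintype_card, h.card, hq] using FiniteField.pow_card_sub_one_eq_one v h0
        rw [kk_val, h.apply, hq, div_eq_iff (Units.ne_zero _)]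
        simp only [Units.val_pow_eq_pow_val, Units.val_mk0]
        linear_combination (v ^ 14 * (v ^ 75 + v ^ 60 + v ^ 45 + v ^ 30 + v ^ 15 + 1)) * h1⟩
      obtain ⟨c, e⟩ := b v (a v hv).1
      obtain ⟨c', e'⟩ := b _ (a v hv).2
      exact ⟨v, hv, c, c', e, e'⟩
    · obtain ⟨v, h1, hv⟩ := key (fun x => σ x = x) (by
        rw [h.card_fixed, hq]; exact Nat.pow_lt_pow_right (a := 2) (by omega) hn)
      have b : ∀ v : F, σ v = v → v ≠ 0 → ∃ c : Fˣ, (kk σ c : F) = v := fun v h1 h0 =>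
        ⟨Units.mk0 v h0, by simp [kk_val, h1, h0]⟩
      obtain ⟨c, e⟩ := b v h1 (a v hv).1
      obtain ⟨c', e'⟩ := b _ (by simp [h1]) (a v hv).2
      exact ⟨v, hv, c, c', e, e'⟩
  refine ⟨c, c', by rw [e, e']; linear_combination v * h2, fun h3 => hv ?_⟩
  have h4 := e ▸ (kk σ c).ne_zero
  have h5 := e' ▸ (kk σ c').ne_zero
  rw [e, e'] at h3
  field_simp at h3
  linear_combination (v ^ 2 + v) * h3 + (v ^ 4 - v ^ 2 - v) * h2

include h in
theorem exists_norm_one (hn : 2 ≤ n) (hq : q = 2 ^ n) : ∃ c : Fˣ, (c : F) * σ c = 1 ∧ (kk σ c : F) ≠ 1 := by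
  have := h.finite
  by_contra! e
  have h1 := Nat.card_le_card_of_injective (fun x : {x : F // x * σ x = 1} => (⟨x, by
    have h0 : x.1 ≠ 0 := left_ne_zero_of_mul_eq_one x.2
    have h2 := e (Units.mk0 x h0) x.2
    rw [kk_val, div_eq_one_iff_eq (Units.ne_zero _), Units.val_mk0] at h2
    linear_combination (-x.1 ^ 2) * h2 + (x.1 * σ x + 1) * x.2⟩ : {x : F // x ^ 3 = 1}))
      fun x y e => Subtype.ext (Subtype.mk.inj e)
  rw [h.card_norm_one, card_pow_eq_one 3 (by norm_num)] at h1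
  have := Nat.gcd_le_right (Nat.card F - 1) (show 0 < 3 by norm_num)
  have := Nat.pow_le_pow_right (n := 2) (by omega) hn
  omega

theorem comm_U (hn : 2 ≤ n) (hq : q = 2 ^ n) {π : E →* SU3 h} (hπ : CExt π) :
    ∀ z ∈ ⁅(nn h).range.comap π, (nn h).range.comap π⁆, π z = 1 → z = 1 := by
  have := h.finite
  have h2 := two_eq_zero h hq
  let A : ℕ → Subgroup E := fun k =>
    (if k = 0 then (nn h).range else if k = 1 then (center (Heis h)).map (nn h) else ⊥).comap π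
  let c : ℕ → E → F := fun k g => (π g).1.1 ![1, 0, 0] (if k = 0 then 1 else 2)
  have c0 : ∀ g x, π g = nn h x → c 0 g = x.a := fun g x e => by simp [c, e, nn_apply]
  have c1 : ∀ g x, π g = nn h x → c 1 g = x.b := fun g x e => by simp [c, e, nn_apply]
  have m0 : ∀ g, g ∈ A 0 ↔ ∃ x, π g = nn h x := fun g => exists_congr fun x => eq_comm
  have m1 : ∀ g, g ∈ A 1 ↔ ∃ x, x.a = 0 ∧ π g = nn h x := fun g => exists_congr fun x =>
    and_congr Heis.mem_center eq_comm
  have m2 : ∀ k g, g ∈ A (k + 2) ↔ π g = 1 := fun k g => Iff.rfl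
  have cj : ∀ (d : Fˣ) g x, π g = nn h x → π (hπ.sec (dd h d) * g * (hπ.sec (dd h d))⁻¹) = nn h (Heis.dil h (kk σ d) x) :=
    fun d g x e => by rw [map_mul, map_mul, map_inv, hπ.map_sec, e, dd_conj]
  have hH : ∀ d, hπ.sec (dd h d) ∈ (dd h).range.comap π := fun d => ⟨d, (hπ.map_sec _).symm⟩
  have s0 : ∀ d : Fˣ, Scl (A 0) (c 0) (hπ.sec (dd h d)) (kk σ d) := fun d g hg => by
    obtain ⟨x, e⟩ := (m0 g).1 hg
    rw [c0 _ _ (cj d g x e), c0 _ _ e]; rfl
  have s1 : ∀ d : Fˣ, Scl (A 1) (c 1) (hπ.sec (dd h d)) (d * σ d) := fun d g hg => by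
    obtain ⟨x, -, e⟩ := (m1 g).1 hg
    have := (map_ne_zero σ).2 d.ne_zero
    rw [c1 _ _ (cj d g x e), c1 _ _ e, Heis.dil_b, kk_val]
    simp only [map_div₀, map_mul, h.σσ]
    field_simp
  have cm : ∀ u ∈ A 1, ∀ a ∈ A 1, ⁅u, a⁆ = 1 := fun u hu a ha => by
    obtain ⟨x, x0, e⟩ := (m1 u).1 hu
    obtain ⟨y, y0, e'⟩ := (m1 a).1 ha
    have h3 : commutator (Heis h) ≤ (hπ.cmSub (nn h x)).comap (nn h) := commutator_le.2 fun b _ c _ => by
      have k : ∀ b, nn h x * nn h b = nn h b * nn h x := fun b => by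
        rw [← map_mul, ← map_mul, mem_center_iff.1 (Heis.mem_center.2 x0)]
      rw [mem_comap, map_commutatorElement]
      exact hπ.cm_comm (k b) (k c)
    exact commutatorElement_eq_one_iff_mul_comm.2 (h3 (Heis.commutator_eq.ge (Heis.mem_center.2 y0)) u a e e')
  have hF : Fil π.ker ((dd h).range.comap π) A c 2 := by
    refine ⟨hπ.cent, rfl, fun k hk => ?_, fun k u hu a ha => ?_, ?_⟩
    · obtain rfl | rfl : k = 0 ∨ k = 1 := by omega
      · refine ⟨fun g hg => ((m1 g).1 hg).elim fun x e => (m0 g).2 ⟨x, e.2⟩, fun a ha b hb => ?_, fun a ha => ?_,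
          fun g ⟨d, e⟩ a ha => ?_⟩
        · obtain ⟨x, e⟩ := (m0 a).1 ha
          obtain ⟨y, e'⟩ := (m0 b).1 hb
          rw [c0 _ _ e, c0 _ _ e', c0 _ (x * y) (by rw [map_mul, map_mul, e, e'])]; rfl
        · obtain ⟨x, e⟩ := (m0 a).1 ha
          rw [c0 _ _ e, m1]
          exact ⟨fun h => ⟨x, h, e⟩, fun ⟨y, h1, h2⟩ => nn_injective h (e.symm.trans h2) ▸ h1⟩
        · obtain ⟨x, e'⟩ := (m0 a).1 ha
          exact (m0 _).2 ⟨_, by rw [map_mul, map_mul, map_inv, ← e, e', dd_conj]⟩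
      · refine ⟨fun g hg => (m1 g).2 ⟨1, rfl, by rw [map_one]; exact hg⟩, fun a ha b hb => ?_, fun a ha => ?_,
          fun g ⟨d, e⟩ a ha => ?_⟩
        · obtain ⟨x, x0, e⟩ := (m1 a).1 ha
          obtain ⟨y, y0, e'⟩ := (m1 b).1 hb
          rw [c1 _ _ e, c1 _ _ e', c1 _ (x * y) (by rw [map_mul, map_mul, e, e'])]; simp [y0]
        · obtain ⟨x, -, e⟩ := (m1 a).1 ha
          rw [c1 _ _ e, m2 0, e]
          exact ⟨fun h => by rw [Heis.eq_one_of_b h, map_one], fun h1 => by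
            rw [nn_injective h (h1.trans (map_one _).symm)]; rfl⟩
        · obtain ⟨x, x0, e'⟩ := (m1 a).1 ha
          exact (m1 _).2 ⟨Heis.dil h (kk σ d) x, by simp [x0], by rw [map_mul, map_mul, map_inv, ← e, e', dd_conj]⟩
    · obtain ⟨x, e⟩ := (m0 u).1 hu
      obtain _ | _ | k := k
      · obtain ⟨y, e'⟩ := (m0 a).1 ha
        exact (m1 _).2 ⟨⁅x, y⁆, Heis.commutator_a x y, by rw [map_commutatorElement, map_commutatorElement, e, e']⟩
      · obtain ⟨y, y0, e'⟩ := (m1 a).1 ha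
        rw [m2 0, map_commutatorElement, e, e', ← map_commutatorElement, commutatorElement_eq_one_iff_mul_comm.2
          (mem_center_iff.1 (Heis.mem_center.2 y0) x), map_one]
      · rw [m2 (k + 1), map_commutatorElement, (m2 k a).1 ha, commutatorElement_one_right]
    · rintro g ⟨d, e⟩ g' ⟨d', e'⟩
      rw [MonoidHom.mem_ker, map_commutatorElement, ← e, ← e', ← map_commutatorElement,
        commutatorElement_eq_one_iff_mul_comm.2 (mul_comm _ _), map_one]
  refine hF.descend le_rfl two_pos hF.lf_bot (fun k hk j hj => ?_) fun k hk h0 => ?_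
  · obtain ⟨rfl, rfl⟩ | ⟨rfl, rfl⟩ | ⟨rfl, rfl⟩ : j = 0 ∧ k = 0 ∨ j = 0 ∧ k = 1 ∨ j = 1 ∧ k = 1 := by omega
    · obtain ⟨d, d', e, e'⟩ := exists_pair h hn hq
      exact .inr (.inl ⟨_, hH d, _, hH d', _, _, _, _, s0 d, s0 d', e, s0 d, s0 d', Units.ne_zero _, Units.ne_zero _, e'⟩)
    · obtain ⟨d, e, e'⟩ := exists_norm_one h hn hq
      exact .inl ⟨_, hH d, _, e', .inr ⟨s0 d, e ▸ s1 d⟩⟩
    · exact .inr (.inr fun u hu a ha => ⟨u, hu, a, ha, rfl, rfl, cm u hu a ha⟩)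
  · obtain rfl : k = 1 := by omega
    obtain ⟨a, a1, a0, a2⟩ := h.exists_fixed_ne (by
      have := Nat.pow_le_pow_right (n := 2) (by omega) hn
      omega)
    refine ⟨_, hH (Units.mk0 a a0), _, fun e => a2 ?_, s1 _⟩
    rw [Units.val_mk0, a1] at e
    have : (a - 1) ^ 2 = 0 := by linear_combination e + (1 - a) * h2
    exact sub_eq_zero.1 (pow_eq_zero_iff two_ne_zero |>.1 this)

theorem isCyclic_of_not_dvd {p : ℕ} (hp : p.Prime) (h2 : p ≠ 2) (h3 : ¬ p ∣ q) (h4 : ¬ p ∣ q ^ 2 - 1)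
    {P : Subgroup (SU3 h)} (hP : IsPGroup p P) : IsCyclic P := by
  have := h.finite
  have := Fact.mk hp
  have : Finite (SU3 h) := Nat.finite_of_card_ne_zero (by
    have := h.two_le
    have : 1 < q ^ 2 := Nat.one_lt_pow two_ne_zero (by omega)
    rw [card_SU3]; exact Nat.mul_ne_zero (by positivity) (Nat.mul_ne_zero (by positivity) (by omega)))
  refine Coprime.isCyclic_of_no_nc hp h2 hP fun B _ hB => ?_
  have := hB.comm
  let φ : SU3 h →* MulAut (Multiplicative (Fin 3 → F)) := MonoidHom.mk' (fun g => AddEquiv.toMultiplicative g.1.1.toAddEquiv)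
    fun _ _ => rfl
  obtain ⟨k, hk⟩ := IsPGroup.iff_card.1 hB.pgroup
  have hV : Nat.card (Fin 3 → F) = (q ^ 2) ^ 3 := by simp [Nat.card_fun, h.card]
  have h5 := Coprime.act_le_of_forall_fixed_le (φ := φ) (H := ⊤) (L := ⊥) hB.nc (fun _ _ _ _ => mem_top _) (by
    rw [hk, card_top, Nat.card_congr Multiplicative.toAdd, hV]
    exact (((hp.coprime_iff_not_dvd.2 h3).pow_right 2).pow_right 3).pow_left k) fun b hb b1 x _ e => by_contra fun x1 => ?_
  · have h6 : (Multiplicative.ofAdd fun _ => (1 : F)) = (1 : Multiplicative (Fin 3 → F)) := mem_bot.1 (h5 (mem_top _))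
    exact one_ne_zero (congrFun h6 0)
  let W : Submodule F (Fin 3 → F) := LinearMap.eqLocus b.1.1.toLinearMap LinearMap.id
  have w0 : W ≠ ⊥ := fun e' => x1 (by
    have : x.toAdd ∈ W := e
    rw [e'] at this
    exact this)
  have w1 : W ≠ ⊤ := fun e' => b1 (su_ext fun u => (e'.ge (Submodule.mem_top (x := u)) : u ∈ W))
  have w2 : Module.finrank F W = 1 ∨ Module.finrank F W = 2 := by
    have := Submodule.finrank_lt w1
    have := mt Submodule.finrank_eq_zero.1 w0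
    rw [finrank_three] at *
    omega
  let _ : MulAction (zpowers b) (Fin 3 → F) := MulAction.compHom _ (((aH h).isom.subtype.comp (SU3 h).subtype).comp
    (zpowers b).subtype)
  have w3 := (hB.pgroup.to_le (zpowers_le.2 hb)).card_modEq_card_fixedPoints (Fin 3 → F)
  have w4 : Nat.card (MulAction.fixedPoints (zpowers b) (Fin 3 → F)) = Nat.card W :=
    Nat.card_congr (Equiv.subtypeEquivRight fun u => ⟨fun h => h ⟨b, mem_zpowers b⟩, fun (hu : b.1.1 u = u) g => by
      have : zpowers b ≤ (MulAction.stabilizer _ u).comap ((aH h).isom.subtype.comp (SU3 h).subtype) := zpowers_le.2 hu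
      exact this g.2⟩)
  rw [w4, hV, Module.natCard_eq_pow_finrank (K := F) (V := W), h.card, ← ZMod.natCast_eq_natCast_iff] at w3
  have w5 := (hB.ord hp hb b1) ▸ orderOf_dvd_natCard b
  rw [card_SU3, ← ZMod.natCast_eq_zero_iff] at w5
  have q1 : 1 ≤ q ^ 2 := Nat.one_le_pow _ _ (by have := h.two_le; omega)
  rw [← ZMod.natCast_eq_zero_iff] at h3 h4
  push_cast [q1] at h4 w3 w5
  generalize (q : ZMod p) = a at *
  have w6 : a ^ 3 + 1 = 0 := by simpa [h3, h4] using w5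
  rcases w2 with e | e <;> rw [e] at w3
  · exact h4 (by linear_combination -w3 + (a ^ 3 - 1) * w6)
  · exact h4 (mul_left_cancel₀ (pow_ne_zero 4 h3) (by linear_combination w3))

/-- commutators in a cyclic extension of an abelian group -/
theorem exists_comm {T : Subgroup E} (hT : ∀ a ∈ T, ∀ b ∈ T, a * b = b * a) {s : E}
    (hs : s ∈ normalizer (T : Set E)) {z : E} (hz : z ∈ ⁅T ⊔ zpowers s, T ⊔ zpowers s⁆) : ∃ t ∈ T, ⁅t, s⁆ = z := by
  have a : ∀ t ∈ T, s * t * s⁻¹ ∈ T := fun t ht => (mem_normalizer_iff.1 hs t).1 ht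
  let W : Subgroup E := ⟨⟨⟨{z | ∃ t ∈ T, ⁅t, s⁆ = z}, by
    rintro _ _ ⟨t, ht, rfl⟩ ⟨u, hu, rfl⟩
    refine ⟨t * u, mul_mem ht hu, ?_⟩
    have e := hT _ (a _ (inv_mem ht)) _ (mul_mem hu (a _ (inv_mem hu)))
    simp only [commutatorElement_def]
    calc _ = t * (u * (s * u⁻¹ * s⁻¹) * (s * t⁻¹ * s⁻¹)) := by group
      _ = _ := by rw [← e]; group⟩, ⟨1, one_mem _, by simp⟩⟩, by
    rintro _ ⟨t, ht, rfl⟩
    refine ⟨t⁻¹, inv_mem ht, ?_⟩
    have e := hT _ (inv_mem ht) _ (a _ ht)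
    simp only [commutatorElement_def]
    calc _ = t⁻¹ * (s * t * s⁻¹) := by group
      _ = _ := by rw [e]; group⟩
  have b : W ≤ T := by
    rintro _ ⟨t, ht, rfl⟩
    simpa [commutatorElement_def, mul_assoc] using mul_mem ht (a _ (inv_mem ht))
  have c : T ≤ normalizer (W : Set E) := (show T ≤ centralizer (W : Set E) from fun t ht w hw => hT _ (b hw) _ ht).trans
    (centralizer_le_normalizer _)
  have d : zpowers s ≤ normalizer (W : Set E) := zpowers_le.2 (mem_normalizer_iff.2 fun w => ⟨by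
    rintro ⟨t, ht, rfl⟩
    exact ⟨_, a t ht, by simp only [commutatorElement_def]; group⟩, by
    rintro ⟨t, ht, e⟩
    refine ⟨s⁻¹ * t * s⁻¹⁻¹, (mem_normalizer_iff.1 (inv_mem hs) t).1 ht, ?_⟩
    rw [show w = s⁻¹ * ⁅t, s⁆ * s by rw [e]; group]
    simp only [commutatorElement_def]; group⟩)
  have e : ⁅zpowers s, T⁆ ≤ W := zpowers_eq_closure s ▸ Amalg.comm_closure_le (by
    rintro _ rfl t ht
    rw [← inv_mem_iff, commutatorElement_inv]; exact ⟨t, ht, rfl⟩) (by rintro _ rfl; exact d (mem_zpowers _))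
  refine Amalg.comm_sup_le (Amalg.comm_sup_le' (commutator_le.2 fun x hx y hy => ?_) ((commutator_comm _ _).le.trans e) c d)
    (Amalg.comm_sup_le' e (commutator_le.2 fun x hx y hy => ?_) c d) c d hz
  · rw [commutatorElement_eq_one_iff_mul_comm.2 (hT x hx y hy)]; exact one_mem _
  · obtain ⟨i, rfl⟩ := hx
    obtain ⟨j, rfl⟩ := hy
    rw [commutatorElement_eq_one_iff_mul_comm.2 (zpow_mul_comm s i j)]; exact one_mem _

section Torus
open Matrix

/-- an element of `SU₃` given by its matrix -/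
def mk3 (M : Matrix (Fin 3) (Fin 3) F) (hd : M.det = 1) (hM : ∀ u v : Fin 3 → F,
    ∑ i, (M *ᵥ u) i * σ ((M *ᵥ v) i) = ∑ i, u i * σ (v i)) : SU 3 F q :=
  ⟨⟨M, hd⟩, fun u v => by simp only [hermForm, ← h.apply]; exact hM u v⟩

/-- the matrix -/
def mat (g : SU 3 F q) : Matrix (Fin 3) (Fin 3) F := g.1.1

theorem mat_ext {g k : SU 3 F q} (e : mat g = mat k) : g = k := Subtype.ext (Subtype.ext e)
theorem mat_mul (g k : SU 3 F q) : mat (g * k) = mat g * mat k := rfl
theorem mat_one : mat (1 : SU 3 F q) = 1 := rfl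
theorem mat_mk3 (M : Matrix (Fin 3) (Fin 3) F) (hd hM) : mat (mk3 h M hd hM) = M := rfl

/-- the elements of norm one -/
def mu (σ : F →+* F) : Subgroup Fˣ := (MonoidHom.id Fˣ * Units.map σ.toMonoidHom).ker

theorem mu_rel (a : mu σ) : (a.1 : F) * σ a.1 = 1 := congrArg Units.val a.2

include h in
theorem card_mu : Nat.card (mu σ) = q + 1 := h.card_norm_one ▸ Nat.card_congr
  ⟨fun a => ⟨a.1, mu_rel a⟩, fun a => ⟨Units.mk0 a (left_ne_zero_of_mul_eq_one a.2), Units.ext a.2⟩,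
    fun _ => Subtype.ext (Units.ext rfl), fun _ => rfl⟩

/-- the diagonal torus -/
def tau : mu σ × mu σ →* SU 3 F q := MonoidHom.mk' (fun a =>
  mk3 h !![a.1.1, 0, 0; 0, a.2.1, 0; 0, 0, ((a.1 * a.2)⁻¹ : mu σ).1] (by simp [det_fin_three, mul_assoc]) fun u v => by
    simp only [mulVec, dotProduct, Fin.sum_univ_three, of_apply, cons_val, zero_mul, add_zero, zero_add, map_mul]
    linear_combination u 0 * σ (v 0) * mu_rel a.1 + u 1 * σ (v 1) * mu_rel a.2 + u 2 * σ (v 2) * mu_rel (a.1 * a.2)⁻¹)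
  fun a b => mat_ext (by simp [mat_mul, mat_mk3]; ring)

/-- a 3-cycle -/
def s3 : SU 3 F q := mk3 h !![0, 0, 1; 1, 0, 0; 0, 1, 0] (by simp [det_fin_three]) fun u v => by
  simp [mulVec, dotProduct, Fin.sum_univ_three]; ring

/-- a transposition -/
def w3 : SU 3 F q := mk3 h !![0, 1, 0; 1, 0, 0; 0, 0, -1] (by simp [det_fin_three]) fun u v => by
  simp [mulVec, dotProduct, Fin.sum_univ_three]; ring

theorem tau_inj : Function.Injective (tau h) := fun _ _ e =>
  Prod.ext (Subtype.ext (Units.ext (congrArg (fun g : SU 3 F q => g.1.1 0 0) e)))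
    (Subtype.ext (Units.ext (congrArg (fun g : SU 3 F q => g.1.1 1 1) e)))

theorem s3_tau (a b : mu σ) : s3 h * tau h (a, b) = tau h ((a * b)⁻¹, a) * s3 h := 
  mat_ext (by simp [s3, tau, mat_mul, mat_mk3])

theorem w3_tau (a b : mu σ) : w3 h * tau h (a, b) = tau h (b, a) * w3 h := 
  mat_ext (by simp [w3, tau, mat_mul, mat_mk3, mul_comm])

theorem s3_pow : s3 h ^ 3 = 1 := 
  mat_ext (by simp [s3, pow_succ, mat_mul, mat_mk3, mat_one, one_fin_three])

theorem s3_not_mem : s3 h ∉ (tau h).range := fun ⟨a, e⟩ => by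
  simpa [s3, tau, mat_mk3] using congrArg (fun g : SU 3 F q => mat g 1 0) e

theorem tau_center {a : mu σ} (ha : (a * a)⁻¹ = a) : tau h (a, a) ∈ center (SU 3 F q) :=
  mem_center_iff.2 fun g => mat_ext (by
    have e : mat (tau h (a, a)) = scalar (Fin 3) (a.1 : F) := by
      simp only [tau, mat_mk3, MonoidHom.mk'_apply, ha]
      ext i j; fin_cases i <;> fin_cases j <;> simp
    rw [mat_mul, mat_mul, e]; exact (scalar_commute _ (fun _ => Commute.all _ _) _).symm)

theorem s3_norm : s3 h ∈ normalizer ((tau h).range : Set (SU 3 F q)) := mem_normalizer_iff.2 fun g => ⟨by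
  rintro ⟨⟨a, b⟩, rfl⟩
  exact ⟨_, by rw [s3_tau, mul_inv_cancel_right]⟩, by
  rintro ⟨⟨a, b⟩, e⟩
  refine ⟨(b, (a * b)⁻¹), mul_left_cancel (a := s3 h) ?_⟩
  rw [s3_tau, ← mul_inv_cancel_right (s3 h * g) (s3 h)⁻¹, ← e]; simp [mul_comm]⟩

include h in
theorem su_perfect (hq : q ≠ 2) : Group.IsPerfect (SU 3 F q) := by
  obtain ⟨f⟩ := nonempty_su h
  have : Group.IsPerfect (SU3 h) := ⟨Herm.commutator_eq_top (aH_nondeg h) finrank_three.ge fun e => hq e.2⟩
  exact Group.IsPerfect.ofSurjective (f := f.symm.toMonoidHom) f.symm.surjective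

theorem comm_T (hq : q ≠ 2) {π : E →* SU 3 F q} (hπ : CExt π) (h2 : ∀ z, π z = 1 → z * z = 1 → z = 1) :
    ∀ z ∈ ⁅((tau h).range ⊔ zpowers (s3 h)).comap π, ((tau h).range ⊔ zpowers (s3 h)).comap π⁆, π z = 1 → z = 1 := by
  have := h.finite
  obtain ⟨ζ, hζ⟩ := IsCyclic.exists_generator (α := mu σ)
  have c : ∀ a b, tau h a * tau h b = tau h b * tau h a := fun a b => by rw [← map_mul, ← map_mul, mul_comm]
  have h3 : Cm π (tau h (ζ, 1)) (tau h (1, ζ)) := hπ.cm_iff.2 (h2 _ (hπ.map_br_of_comm (c _ _)) (by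
    have := hπ.br_conj (c (ζ, 1) (1, ζ)) (w3 h)
    rw [w3_tau, w3_tau, mul_inv_cancel_right, mul_inv_cancel_right, hπ.br_symm] at this
    nth_rw 1 [← this]; exact inv_mul_cancel _))
  have gen : ∀ K : Subgroup (SU 3 F q), tau h (ζ, 1) ∈ K → tau h (1, ζ) ∈ K → ∀ a, tau h a ∈ K := fun K h1 h2 ⟨a, b⟩ => by
    obtain ⟨i, rfl⟩ := hζ a
    obtain ⟨j, rfl⟩ := hζ b
    have := mul_mem (zpow_mem h1 i) (zpow_mem h2 j)
    rwa [← map_zpow, ← map_zpow, ← map_mul, Prod.pow_mk, Prod.pow_mk, Prod.mk_mul_mk, _root_.one_zpow, _root_.one_zpow, mul_one,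
      one_mul] at this
  have h4 : ∀ a b, Cm π (tau h a) (tau h b) := fun a => gen (hπ.cmSub _)
    (Cm.symm (gen (hπ.cmSub _) (hπ.cm_self _) h3 a)) (Cm.symm (gen (hπ.cmSub _) h3.symm (hπ.cm_self _) a))
  have h5 : ((tau h).range ⊔ zpowers (s3 h)).comap π = (tau h).range.comap π ⊔ zpowers (hπ.sec (s3 h)) := by
    rw [← comap_map_eq_self (f := π) (H := _ ⊔ zpowers _) (le_sup_of_le_left (ker_le_comap _ _)), Subgroup.map_sup,
      map_comap_eq_self_of_surjective hπ.surj, MonoidHom.map_zpowers, hπ.map_sec]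
  intro z hz e
  rw [h5] at hz
  obtain ⟨t, ⟨⟨a, b⟩, ht⟩, rfl⟩ := exists_comm (by
    rintro a ⟨x, e⟩ b ⟨y, e'⟩
    exact h4 x y a b e.symm e'.symm) (le_normalizer_comap π (by rw [mem_comap, hπ.map_sec]; exact s3_norm h)) hz
  rw [map_commutatorElement, hπ.map_sec, ← ht, commutatorElement_eq_one_iff_mul_comm, s3_tau, mul_left_inj] at e
  obtain ⟨e1, rfl⟩ := Prod.mk.inj (tau_inj h e)
  have h6 := (su_perfect h hq).commutator_eq_top
  have h7 : commutator (SU 3 F q) ≤ hπ.cmSub (tau h (b, b)) := commutator_le.2 fun x _ y _ =>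
    hπ.cm_comm (mem_center_iff.1 (tau_center h e1.symm) x).symm (mem_center_iff.1 (tau_center h e1.symm) y).symm
  exact commutatorElement_eq_one_iff_mul_comm.2 (h7 (h6.ge (mem_top _)) _ _ ht.symm (hπ.map_sec _))

end Torus

include h in
/-- The Schur multiplier of `SU₃(2ⁿ)` is trivial. -/
theorem su_mult (hn : 2 ≤ n) (hq : q = 2 ^ n) : HasCyclicSchurMultiplier (SU 3 F q) 1 := by
  have := h.finite
  obtain ⟨f⟩ := nonempty_su h
  have q4 : 4 ≤ q := hq ▸ Nat.pow_le_pow_right (n := 2) (by omega) hn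
  have q2 : 2 ∣ q := hq ▸ dvd_pow_self 2 (by omega)
  have hc := card_SU3 h
  refine Mult.mult_congr_left (Mult.mult_one_iff.2 fun Γ _ _ π hπ => ?_) f.symm
  have h1 := CExt.of_ker_le hπ.1 hπ.2.1
  have iU : (nn h).range.index = (q ^ 3 + 1) * (q ^ 2 - 1) := by
    have := (nn h).range.card_mul_index
    rw [← Nat.card_congr (MonoidHom.ofInjective (nn_injective h)).toEquiv, Heis.card, hc] at this
    exact Nat.eq_of_mul_eq_mul_left (by positivity) this
  have oU : ¬ 2 ∣ (nn h).range.index := by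
    obtain ⟨k, rfl⟩ := q2
    have : 1 ≤ (2 * k) ^ 2 := Nat.one_le_pow _ _ (by omega)
    rw [iU, Nat.prime_two.dvd_mul, mul_pow, mul_pow] at *
    omega
  refine ker_eq_bot_of_local hπ fun p hp => ?_
  have := Fact.mk hp
  rcases eq_or_ne p 2 with rfl | h2
  · exact ⟨_, oU, comm_U h hn hq h1⟩
  have h3 : ¬ p ∣ q := fun e => h2 ((Nat.prime_dvd_prime_iff_eq hp Nat.prime_two).1 (hp.dvd_of_dvd_pow (hq ▸ e)))
  have cyc : ∀ P : Subgroup (SU3 h), IsCyclic P → ∀ z ∈ ⁅P.comap π, P.comap π⁆, π z = 1 → z = 1 := fun P hP =>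
    comm_comap_of_cm fun x hx y hy => by
      obtain ⟨g, hg⟩ := hP.exists_generator
      obtain ⟨i, rfl⟩ : x ∈ zpowers (g : SU3 h) := let ⟨i, e⟩ := hg ⟨x, hx⟩; ⟨i, congrArg Subtype.val e⟩
      obtain ⟨j, rfl⟩ : y ∈ zpowers (g : SU3 h) := let ⟨i, e⟩ := hg ⟨y, hy⟩; ⟨i, congrArg Subtype.val e⟩
      exact (h1.cmSub _).zpow_mem (Cm.symm ((h1.cmSub _).zpow_mem (h1.cm_self _) i)) j
  obtain ⟨r, rfl⟩ : ∃ r, q = r + 1 := ⟨q - 1, by omega⟩
  have e2 : (r + 1) ^ 2 - 1 = (r + 1 + 1) * r := by rw [Nat.sub_eq_iff_eq_add (Nat.one_le_pow _ _ (by omega))]; ring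
  have two : (2 : ZMod p) ≠ 0 := fun e => h2 ((Nat.prime_dvd_prime_iff_eq hp Nat.prime_two).1
    ((ZMod.natCast_eq_zero_iff 2 p).1 e))
  by_cases h4 : p ∣ r + 1 + 1
  · have h5 := Mult.equiv_comp_stem hπ f.symm
    refine ⟨((tau h).range ⊔ zpowers (s3 h)).comap f.symm.toMonoidHom, ?_, fun z hz e =>
      comm_T h (by omega) (CExt.of_ker_le h5.1 h5.2.1) (fun z e e' => ?_) z hz (by simp [e])⟩
    · have o3 : orderOf (s3 h) = 3 := orderOf_eq_prime (s3_pow h) fun e => s3_not_mem h (e ▸ one_mem _)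
      have h6 := ((tau h).range ⊔ zpowers (s3 h)).card_mul_index
      rw [Coprime.card_sup_of_disjoint' (zpowers_le.2 (s3_norm h)) (by
        have : Fact (Nat.card (zpowers (s3 h))).Prime := ⟨by rw [Nat.card_zpowers, o3]; exact Nat.prime_three⟩
        exact disjoint_iff.1 (subgroupOf_eq_bot.1 (((tau h).range.subgroupOf _).eq_bot_or_eq_top_of_prime_card.resolve_right
          fun e => s3_not_mem h (subgroupOf_eq_top.1 e (mem_zpowers _))))), Nat.card_congr f.toEquiv, hc, Nat.card_zpowers, o3,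
        ← Nat.card_congr (MonoidHom.ofInjective (tau_inj h)).toEquiv, Nat.card_prod, card_mu h, e2] at h6
      rw [index_comap_of_surjective _ f.symm.surjective]
      rintro ⟨k, hk⟩
      have h7 : 3 * (p * k) = (r + 1) ^ 3 * ((r * r + r + 1) * r) :=
        Nat.eq_of_mul_eq_mul_left (n := (r + 1 + 1) * (r + 1 + 1)) (by positivity) (by rw [← hk]; linear_combination h6)
      have h8 := congrArg (Nat.cast : ℕ → ZMod p) h7
      have h9 := (ZMod.natCast_eq_zero_iff _ _).2 h4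
      push_cast at h8 h9
      rw [ZMod.natCast_self, show (r : ZMod p) = -2 by linear_combination h9] at h8
      obtain rfl : p = 3 := (Nat.prime_dvd_prime_iff_eq hp Nat.prime_three).1 ((ZMod.natCast_eq_zero_iff 3 p).1
        (mul_left_cancel₀ two (by push_cast; linear_combination -h8)))
      obtain ⟨i, rfl⟩ : ∃ i, r = 3 * i + 1 := ⟨r / 3, by omega⟩
      have h10 : 3 * k = (3 * i + 2) ^ 3 * ((3 * i * i + 3 * i + 1) * (3 * i + 1)) :=
        Nat.eq_of_mul_eq_mul_left (n := 3) (by norm_num) (by linear_combination h7)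
      ring_nf at h10
      omega
    · have e3 : π z = 1 := by simpa using e
      have h6 := comm_U h hn hq h1 _ (Mult.pow_index_mem_commutator (hπ.2.1 e3) (hπ.2.2 e3)) (by rw [map_pow, e3, one_pow])
      rw [index_comap_of_surjective _ hπ.1] at h6
      exact orderOf_eq_one_iff.1 (Nat.eq_one_of_dvd_coprimes (Nat.prime_two.coprime_iff_not_dvd.2 oU)
        (orderOf_dvd_of_pow_eq_one ((sq z).trans e')) (orderOf_dvd_of_pow_eq_one h6))
  by_cases h5 : p ∣ r
  · refine ⟨(dd h).range, fun e => ?_, cyc _ (isCyclic_of_surjective _ (dd h).rangeRestrict_surjective)⟩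
    have h6 := (dd h).range.card_mul_index
    rw [← Nat.card_congr (MonoidHom.ofInjective (dd_inj h)).toEquiv, Nat.card_units, h.card, hc, ← mul_assoc,
      mul_comm (_ * _)] at h6
    rw [Nat.eq_of_mul_eq_mul_left (by rw [e2]; exact Nat.mul_pos (by omega) (by omega)) h6,
      ← ZMod.natCast_eq_zero_iff] at e
    rw [← ZMod.natCast_eq_zero_iff] at h5
    push_cast at e
    exact two (by rw [h5] at e; linear_combination e)
  obtain ⟨P⟩ : Nonempty (Sylow p (SU3 h)) := inferInstance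
  exact ⟨P, P.not_dvd_index, cyc _ (isCyclic_of_not_dvd h hp h2 h3 (by rw [e2, hp.dvd_mul]; tauto) P.2)⟩

end Cfsg.Lib.JTW.Cen
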