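import Cfsg.Agent.Lib.JTW.Cen1
import Cfsg.Agent.Lib.JTW.Cen2
import Cfsg.Agent.Lib.BN.SzMult
import Cfsg.Agent.Lib.Mult.Prod
import Cfsg.Agent.Lib.Linear.PSL2Small
import Cfsg.Agent.S2111
import Cfsg.Agent.S2117

/-! Central Sylow intersections: the covering groups. -/

set_option autoImplicit false
set_option linter.unusedSectionVars false

namespace Cfsg.Lib.JTW.Cen
open Subgroup Cfsg.Lib.Core Cfsg.Lib.BG1 Cfsg.Lib.Invol Cfsg.Lib.Layer Cfsg.Lib.Gold Cfsg.Lib.Chev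
open Cfsg.Lib.Amalg hiding le_cent_symm op_top
open scoped commutatorElement

variable {G : Type*} [Group G] [Finite G] {Y : Type*} [Group Y] {S : Subgroup G} {π : G →* Y}

theorem cover {Γ : Type*} [Group Γ] [Finite Γ] (hΓ : Group.IsPerfect Γ) (hm : HasCyclicSchurMultiplier Γ 1) {θ : Γ →* Y}
    (hθ : Function.Surjective θ) {p : ℕ} (hp : p.Prime) (hk : Nat.card θ.ker ∣ p) (h : IsStemExtension π) :
    (Nonempty (G ≃* Γ) ∨ π.ker = ⊥) ∧ ∀ x ∈ π.ker, x ^ p = 1 := by
  obtain ⟨η, e⟩ := Mult.lift_of_mult_one hΓ hm θ (fun q => h.1 _) h.2.1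
  have h1 := Mult.surjective_of_lift h e hθ
  have h2 : ∀ x ∈ π.ker, ∃ y ∈ θ.ker, η y = x := fun x hx => (h1 x).imp fun y hy => ⟨by subst e hy; exact hx, hy⟩
  refine ⟨?_, fun x hx => ?_⟩
  · have h3 : η.ker ≤ θ.ker := e ▸ fun x (hx : η x = 1) => show π (η x) = 1 by rw [hx, map_one]
    rcases (Nat.dvd_prime hp).1 ((card_dvd_of_le h3).trans hk) with h4 | h4
    · exact .inl ⟨(MulEquiv.ofBijective η ⟨(MonoidHom.ker_eq_bot_iff η).1 (card_eq_one.1 h4), h1⟩).symm⟩
    · refine .inr (eq_bot_iff.2 fun x hx => ?_)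
      obtain ⟨y, hy, rfl⟩ := h2 x hx
      exact (eq_of_le_of_card_ge h3 (h4 ▸ Nat.le_of_dvd hp.pos hk)).ge hy
  · obtain ⟨y, hy, rfl⟩ := h2 x hx
    rw [← map_pow, orderOf_dvd_iff_pow_eq_one.1 ((orderOf_dvd_natCard _ hy).trans hk), map_one]

theorem split [IsSimpleGroup Y] (hY : ¬ IsMulCommutative Y) (hg : pElementClosure 2 (⊤ : Subgroup G) = ⊤)
    (h1 : Function.Surjective π) (h2 : π.ker ≤ center G) :
    pCore 2 G ≤ π.ker ∧ pCore 2 G ⊔ commutator G = ⊤ ∧ IsStemExtension (π.comp (commutator G).subtype) ∧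
      Group.IsPerfect (commutator G) ∧ (π.comp (commutator G).subtype).ker = center (commutator G) := by
  have : Finite Y := Finite.of_surjective π h1
  have hq := isQuasisimple_of_isSimpleGroup hY
  have h3 := BN.stem_commutator (CExt.of_ker_le h1 h2) (IsQuasisimple.commutator_eq_top hq)
  have h4 : pCore 2 G ≤ π.ker := (Subgroup.map_eq_bot_iff _).1 (((pCore_normal 2 G).map π h1).eq_bot_or_eq_top.resolve_right
    fun e => IsQuasisimple.not_le_of_isSolvable (isQuasisimple_top_iff.2 hq)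
      (solvable_of_pgroup Nat.prime_two ((isPGroup_pCore 2 G).map π)) e.ge)
  refine ⟨h4, ?_, h3, Mult.perfect_of_stem h3 hq.1, le_antisymm h3.2.1 fun x hx => ?_⟩
  · obtain ⟨S, hS⟩ := exists_syl 2 (⊤ : Subgroup G)
    have h5 : pCore 2 G ⊔ commutator G ⊔ π.ker = ⊤ := eq_top_iff.2 fun x _ => by
      obtain ⟨y, e⟩ := h3.1 (π x)
      have : (y : G)⁻¹ * x ∈ π.ker := by rw [MonoidHom.mem_ker, map_mul, map_inv, ← e]; simp
      simpa using mul_mem_sup (mem_sup_right (S := pCore 2 G) y.2) this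
    have h6 := (hS.inf_normal_top π.ker).not_dvd_relIndex_of_le (H := pCore 2 G ⊔ commutator G) (le_sup_of_le_left
      (le_pCore (hN := Mult.normal_of_le_center (inf_le_right.trans h2)) hS.isPGroup.to_inf_left))
    rw [← relIndex_sup_left, h5, relIndex_top_right] at h6
    rw [eq_top_iff, ← hg]
    exact pec_le_of_syl fun P hP => le_of_odd_index (Nat.odd_iff.2 (Nat.two_dvd_ne_zero.1 h6)) hP.isPGroup
  · refine (center_of_simple hY).le (mem_center_iff.2 fun y => ?_)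
    obtain ⟨y, rfl⟩ := h3.1 y
    rw [← map_mul, ← map_mul, mem_center_iff.1 hx]

/-- a central extension by a group of odd order -/
theorem comap_center_le (hg : pElementClosure 2 (⊤ : Subgroup G) = ⊤) (h1 : ¬ 2 ∣ Nat.card π.ker) (h2 : π.ker ≤ center G) :
    (center Y).comap π ≤ center G := fun z hz => by
  have : pElementClosure 2 (⊤ : Subgroup G) ≤ 𝐂[z] := pec_le_iff.2 fun g _ ⟨k, hk⟩ => by
    have h3 : g * z * g⁻¹ * z⁻¹ ∈ π.ker := by
      simp [MonoidHom.mem_ker, mem_center_iff.1 hz (π g)]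
    have h4 : ∀ n : ℕ, g ^ n * z * (g ^ n)⁻¹ = (g * z * g⁻¹ * z⁻¹) ^ n * z := fun n => by
      induction n with
      | zero => simp
      | succ n ih =>
        have e := mem_center_iff.1 (h2 (pow_mem h3 n)) g
        calc _ = g * (g ^ n * z * (g ^ n)⁻¹) * g⁻¹ := by group
          _ = _ := by rw [ih, ← mul_assoc, e, pow_succ]; group
    have h5 := h4 (2 ^ k)
    rw [hk, one_mul, inv_one, mul_one, right_eq_mul] at h5
    have h6 := orderOf_eq_one_iff.1 (Nat.eq_one_of_dvd_coprimes ((Nat.prime_two.coprime_iff_not_dvd.2 h1).pow_left k)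
      (orderOf_dvd_of_pow_eq_one h5) (orderOf_dvd_natCard _ h3))
    rw [mul_inv_eq_one, mul_inv_eq_iff_eq_mul] at h6
    exact Invol.mem_cent.2 h6
  exact mem_center_iff.2 fun g => Invol.mem_cent.1 (this (hg.ge (mem_top g)))

theorem NG.of_map (hS : NG (S.map π)) : NG S := fun a ha b hb h => hS _ (mem_map_of_mem π ha) _ (mem_map_of_mem π hb) (by
  refine (map_mono h).trans ?_
  rw [Subgroup.map_sup, MonoidHom.map_closure, Set.image_pair]
  refine sup_le_sup_left ?_ _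
  rintro _ ⟨x, hx, rfl⟩
  refine ⟨mem_map_of_mem π hx.1, ?_⟩
  rintro _ ⟨y, hy, rfl⟩
  rw [← map_mul, ← map_mul, hx.2 y hy])

theorem sl25 (h : IsL2e Y) (hπ : IsStemExtension π) (h0 : π.ker ≠ ⊥) :
    Nonempty (G ≃* Matrix.SpecialLinearGroup (Fin 2) (ZMod 5)) := by
  obtain ⟨F, _, _, ⟨n, h1, h2⟩, ⟨e⟩⟩ := h
  have := Fact.mk Nat.prime_five
  have := BS.charP_two_of_card h2
  by_cases h4 : Fintype.card F = 4
  · obtain ⟨e1⟩ := Linear.psl2_four_equiv (F := F) (Nat.card_eq_fintype_card.trans h4)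
    obtain ⟨e2⟩ := Linear.psl2_five_equiv (F := ZMod 5) (Nat.card_zmod 5)
    refine (cover (Linear.sl_fin_isPerfect fun _ => by simp) (Agent.S2117.result (by simp) (by simp))
      Known.pmk_surjective Nat.prime_two ?_ (Mult.equiv_comp_stem hπ ((e.trans e1).trans e2.symm))).1.resolve_right
      fun e => h0 (eq_bot_iff.2 fun x hx => e.le (by simp [MonoidHom.mem_ker.1 hx]))
    have : (Known.pmk (ZMod 5)).ker ≤ zpowers (-1) := fun x hx => by
      rcases Known.pmk_eq_one_iff'.1 hx with rfl | rfl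
      exacts [one_mem _, mem_zpowers _]
    exact (card_dvd_of_le this).trans (by rw [Nat.card_zpowers]; exact orderOf_dvd_of_pow_eq_one (by simp))
  · have h5 := Mult.ker_eq_bot_of_mult_one (Agent.S2117.result h4 fun e => by
      have : 2 ∣ Fintype.card F := h2 ▸ dvd_pow_self 2 (by omega)
      omega) (Mult.equiv_comp_stem hπ (e.trans (Known.pmkEquiv CharTwo.two_eq_zero).symm))
    exact absurd (eq_bot_iff.2 fun x hx => h5.le (by simp [MonoidHom.mem_ker.1 hx])) h0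

theorem equiv_of_ker (hπ : IsStemExtension π) (h0 : π.ker = ⊥) : Nonempty (G ≃* Y) :=
  ⟨MulEquiv.ofBijective π ⟨(MonoidHom.ker_eq_bot_iff π).1 h0, hπ.1⟩⟩

theorem su_cover {F : Type*} [Field F] [Fintype F] {n : ℕ} (hn : 2 ≤ n) (hF : Fintype.card F = (2 ^ n) ^ 2)
    (e : Y ≃* PSU 3 F (2 ^ n)) (hπ : IsStemExtension π) :
    (Nonempty (G ≃* PSU 3 F (2 ^ n)) ∨ Nonempty (G ≃* SU 3 F (2 ^ n))) ∧ ∀ x ∈ π.ker, x ^ 3 = 1 := by
  have h := Forms.isConj_frob (Nat.card_eq_fintype_card.trans hF)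
  obtain ⟨f⟩ := U3.nonempty_su h
  have h1 := Mult.equiv_comp_stem hπ e
  obtain ⟨h2, h3⟩ := cover (su_perfect h (by
      have := Nat.pow_le_pow_right (n := 2) (by omega) hn
      omega)) (su_mult h hn rfl) (QuotientGroup.mk'_surjective _) Nat.prime_three (by
    rw [QuotientGroup.ker_mk', Nat.card_congr (centerCongr f).toEquiv, U3.card_center_SU3]
    exact Nat.gcd_dvd_left _ _) h1
  exact ⟨h2.symm.imp_left (equiv_of_ker h1), fun x hx => h3 x (by simp [MonoidHom.mem_ker.1 hx])⟩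

end Cfsg.Lib.JTW.Cen
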