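import Cfsg.Agent.Lib.JTW.Cor
import Cfsg.Agent.Lib.GW.Final
import Cfsg.Agent.Lib.Fus.SmallE

/-! Simple groups whose order is not divisible by 16; groups of order dividing `|J₁|`. -/

set_option autoImplicit false
set_option linter.unusedSectionVars false

namespace Cfsg.Lib.JTW
open Subgroup Cfsg.Lib.Core Cfsg.Lib.BG1 Cfsg.Lib.Invol Cfsg.Lib.Wal Cfsg.Lib.Linear Cfsg.Lib.Gold
open Cfsg.Lib.Amalg hiding le_cent_symm op_top

universe u

variable {G : Type u} [Group G] [Finite G] {x y : G}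

theorem eight [IsSimpleGroup G] (hG : ¬ IsMulCommutative G) (S : Sylow 2 G) (h : ¬ 16 ∣ Nat.card G) :
    GW.Known G ∨ IsL2e G ∨ Spor.IsoJ1 G ∨ ReeC (S : Subgroup G) := by
  by_cases hc : IsMulCommutative (S : Subgroup G)
  · exact (abel hG (syl_top S) hc).imp_left fun ⟨F, _, _, h1, h2, e⟩ =>
      Or.inl ⟨F, _, _, Nat.odd_iff.2 (by omega), by omega, e⟩
  obtain ⟨n, hn⟩ := S.isPGroup'.exists_card_eq
  have h1 : n = 3 := le_antisymm (by_contra fun e => h ((pow_dvd_pow 2 (show 4 ≤ n by omega)).trans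
    (hn ▸ card_subgroup_dvd_card _))) (by_contra fun e => hc (by
      rcases (by omega : n = 0 ∨ n = 1 ∨ n = 2) with rfl | rfl | rfl
      · exact (isCyclic_of_card_dvd_prime (p := 2) (by simp [hn])).isMulCommutative
      · exact (isCyclic_of_card_dvd_prime (p := 2) (by simp [hn])).isMulCommutative
      · exact IsPGroup.isMulCommutative_of_card_eq_prime_sq hn))
  subst h1
  rcases Fus.max2_of_eight hn hc with ⟨⟨e⟩⟩ | ⟨a, b, h1, h2, h3⟩
  · obtain ⟨z, hz⟩ := exists_prime_orderOf_dvd_card' (G := G) 2 (FT.even_card_of_simple G fun h => hG ⟨⟨h⟩⟩).two_dvd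
    have h2 := (GW.uniqInv_of_quat (Transfer.sylowIn_top S) e).commutator_mem_oddCore hz
    rw [core_of_simple hG] at h2
    refine absurd ((IsSimpleGroup.eq_bot_or_eq_top_of_normal (center G) inferInstance).resolve_right
      (fun e => hG (center_eq_top_iff.1 e)) ▸ mem_center_iff.2 fun g => ?_ : z ∈ (⊥ : Subgroup G)) (ne_one_of_two hz)
    exact (commutatorElement_eq_one_iff_mul_comm.1 (h2 g)).symm
  · exact Or.inl (GW.known_of_simple G hG (GW.dc2_of_dihedral S (h1.dihedral h2 h3).some))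

theorem isoJ1_of_dvd [IsSimpleGroup G] (hG : ¬ IsMulCommutative G) (h1 : Nat.card G ∣ 175560) (h2 : 19 ∣ Nat.card G) :
    Spor.IsoJ1 G := by
  obtain ⟨S⟩ : Nonempty (Sylow 2 G) := inferInstance
  rcases eight hG S fun e => absurd (e.trans h1) (by decide) with (⟨F, _, _, h3, h4, ⟨e⟩⟩ | ⟨⟨e⟩⟩) |
    ⟨F, _, _, ⟨n, h3, h4⟩, ⟨e⟩⟩ | h | ⟨-, -, -, -, -, m, -, -, -, -, -, h, -⟩
  · have h5 := card_PSL_two_of_odd (F := F) (by rwa [Nat.card_eq_fintype_card])
    rw [← Nat.card_congr e.toEquiv, Nat.card_eq_fintype_card (α := F)] at h5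
    have h6 := h5 ▸ mul_dvd_mul_left 2 h1
    have h7 := h5 ▸ h2.mul_left 2
    rw [Nat.odd_iff] at h3
    generalize Fintype.card F = q at *
    have h8 : q < 72 := lt_of_not_ge fun e => absurd ((Nat.mul_le_mul (Nat.mul_le_mul e (show 71 ≤ q - 1 by omega))
      (show 73 ≤ q + 1 by omega)).trans (Nat.le_of_dvd (by decide) h6)) (by decide)
    interval_cases q <;> omega
  · rw [Nat.card_congr e.toEquiv, nat_card_alternatingGroup] at h2
    simp [Nat.factorial] at h2
  · have h5 := card_PSL_two_of_even (F := F) (by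
      rw [Nat.card_eq_fintype_card, h4]; exact (Nat.even_pow' (by omega)).2 even_two)
    rw [← Nat.card_congr e.toEquiv, Nat.card_eq_fintype_card (α := F), h4] at h5
    rw [h5] at h1 h2
    have h6 : n < 4 := lt_of_not_ge fun e => absurd ((((pow_dvd_pow 2 e).mul_right _).mul_right _).trans h1) (by decide)
    interval_cases n <;> omega
  · exact h
  · exact absurd ((((pow_dvd_pow 3 (show 2 ≤ (2 * m + 1) * 3 by omega)).mul_right _).mul_right _).trans
      (pow_mul 3 _ 3 ▸ h ▸ h1)) (by decide)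

theorem cent_of_card_lt {p : ℕ} (hp : p.Prime) (hx : x ^ p = 1) {R : Subgroup G} (h : x ∈ 𝐍(R)) (hR : Nat.card R < p) :
    x ∈ 𝐂(R) := by
  have h1 : MulAut.toPerm R (R.normalizerMonoidHom ⟨x, h⟩) = 1 := orderOf_eq_one_iff.1 (Nat.eq_one_of_dvd_coprimes
    (hp.coprime_factorial_of_lt hR) (orderOf_dvd_of_pow_eq_one (by
      rw [← map_pow, ← map_pow, show (⟨x, h⟩ : 𝐍(R)) ^ p = 1 from Subtype.ext hx, map_one, map_one]))
    (Nat.card_perm (α := R) ▸ _root_.orderOf_dvd_natCard _))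
  exact mem_centralizer_iff.2 fun r hr => (mul_inv_eq_iff_eq_mul.1
    (congrArg Subtype.val (Equiv.congr_fun h1 ⟨r, hr⟩))).symm

theorem nineteen (n : ℕ) : ∀ (G : Type u) [Group G] [Finite G], Nat.card G = n → n ∣ 175560 →
    IsSimpleGroup G ∧ n = 175560 ∨ ∀ x y : G, orderOf x = 19 → orderOf y = 19 → y ∈ zpowers x := by
  induction n using Nat.strong_induction_on with | _ n ih =>
  rintro G _ _ rfl h1
  have : Fact (Nat.Prime 19) := ⟨by norm_num⟩
  refine or_iff_not_imp_left.2 fun h2 x y hx hy => ?_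
  have h3 : 19 ∣ Nat.card G := hx ▸ orderOf_dvd_natCard x
  by_cases hs : IsSimpleGroup G
  · by_cases hc : IsMulCommutative G
    · have := (Group.is_simple_iff_prime_card (α := G)).1 hs
      rw [eq_top_of_card_eq (zpowers x) (by
        rw [Nat.card_zpowers, hx, (Nat.prime_dvd_prime_iff_eq Fact.out this).1 h3])]
      trivial
    · exact absurd ⟨hs, (isJ1 (isoJ1_of_dvd hc h1 h3)).2⟩ h2
  have : Nontrivial G := Finite.one_lt_card_iff_nontrivial.1 (lt_of_lt_of_le (by decide) (Nat.le_of_dvd Nat.card_pos h3))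
  obtain ⟨N, hN, h4, h5⟩ : ∃ N : Subgroup G, N.Normal ∧ N ≠ ⊥ ∧ N ≠ ⊤ := by
    by_contra! e
    exact hs ⟨fun N hN => or_iff_not_imp_left.2 (e N hN)⟩
  have h6 := N.card_mul_index
  have h7 : 1 < Nat.card N := (N.one_lt_card_iff_ne_bot).2 h4
  have h8 := one_lt_index_of_ne_top h5
  have h9 := Nat.le_of_dvd (by decide) h1
  by_cases h10 : 19 ∣ Nat.card N
  · have k : ∀ x : G, orderOf x = 19 → x ∈ N := fun x hx => (QuotientGroup.eq_one_iff x).1 (orderOf_eq_one_iff.1
      (((Nat.dvd_prime Fact.out).1 (hx ▸ orderOf_map_dvd (QuotientGroup.mk' N) x)).resolve_right fun e =>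
        absurd ((mul_dvd_mul h10 (e.symm.dvd.trans (_root_.orderOf_dvd_natCard _))).trans (h6 ▸ h1)) (by decide)))
    obtain ⟨i, hi⟩ := (ih _ (by nlinarith) N rfl ((card_subgroup_dvd_card N).trans h1)).resolve_left
      (fun e => by nlinarith [e.2]) ⟨x, k x hx⟩ ⟨y, k y hy⟩ (by rwa [← orderOf_coe]) (by rwa [← orderOf_coe])
    exact ⟨i, congrArg Subtype.val hi⟩
  have k : ∀ x : G, orderOf x = 19 → orderOf (x : G ⧸ N) = 19 := fun x hx =>
    ((Nat.dvd_prime Fact.out).1 (hx ▸ orderOf_map_dvd (QuotientGroup.mk' N) x)).resolve_left fun e =>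
      h10 (hx ▸ orderOf_dvd_natCard _ ((QuotientGroup.eq_one_iff x).1 (orderOf_eq_one_iff.1 e)))
  obtain ⟨i, hi⟩ := (ih N.index (by nlinarith) (G ⧸ N) rfl (N.index_dvd_card.trans h1)).resolve_left
    (fun e => by nlinarith [e.2]) x y (k x hx) (k y hy)
  have h11 : (x ^ i)⁻¹ * y ∈ N := QuotientGroup.eq.1 hi
  have h12 : N ≤ 𝐂[x] := Coprime.le_of_forall_sylowIn fun q _ hq => by
    obtain ⟨R, r1, r2⟩ := Coprime.exists_invariant_sylowIn (A := zpowers x) (K := N) (le_normalizer_of_normal)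
      (by rw [Nat.card_zpowers, hx]; exact (Nat.Prime.coprime_iff_not_dvd Fact.out).2 h10)
      (Or.inl (Coprime.isSolvable_zpowers x)) q
    refine ⟨R, r1, fun r hr => mem_centralizer_singleton_iff.2 (mem_centralizer_iff.1 (cent_of_card_lt (p := 19) Fact.out
      (hx ▸ pow_orderOf_eq_one x) (r2 (mem_zpowers x)) ?_) r hr)⟩
    obtain ⟨j, hj⟩ := r1.isPGroup.exists_card_eq
    have r3 : q ^ j ∣ 175560 := hj ▸ (card_subgroup_dvd_card R).trans h1
    have r4 : q ∈ Nat.primeFactorsList 175560 :=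
      (Nat.mem_primeFactorsList (by decide)).2 ⟨Fact.out, hq.trans ((card_subgroup_dvd_card N).trans h1)⟩
    have r5 : j < 4 ∨ q ^ 4 ∣ 175560 := (lt_or_ge j 4).imp_right fun e => (pow_dvd_pow q e).trans r3
    simp only [Nat.primeFactorsList_ofNat, List.mem_cons, List.not_mem_nil, or_false] at r4
    rw [hj]
    rcases r4 with rfl | rfl | rfl | rfl | rfl | rfl | rfl | rfl <;>
      first | exact absurd hq h10 | (replace r5 := r5.resolve_right (by decide); interval_cases j <;> omega)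
  have h13 : Commute (x ^ i) ((x ^ i)⁻¹ * y) := (Commute.zpow_left (mem_cent.1 (h12 h11)).symm i)
  have h14 : ((x ^ i)⁻¹ * y) ^ 19 = 1 := by
    have := h13.mul_pow 19
    rwa [mul_inv_cancel_left, ← hy, pow_orderOf_eq_one, hy, ← zpow_natCast, zpow_comm, zpow_natCast, ← hx, pow_orderOf_eq_one,
      one_zpow, one_mul, eq_comm, hx] at this
  exact ⟨i, inv_mul_eq_one.1 (orderOf_eq_one_iff.1 (((Nat.dvd_prime Fact.out).1 (orderOf_dvd_of_pow_eq_one h14)).resolve_right
    fun e => h10 (e ▸ orderOf_dvd_natCard _ h11)))⟩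

end Cfsg.Lib.JTW
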