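import Cfsg.Agent.Lib.JTW.Cor
import Cfsg.Agent.Lib.SCl.Inner
import Cfsg.Agent.Lib.Gsm.Main
import Cfsg.Agent.Lib.BS.Bro

/-! Groups with small Sylow 2-intersections (Herzog), I: the simple case and inner automorphisms. -/

set_option autoImplicit false
set_option linter.unusedSectionVars false
set_option linter.style.haveILetI false

namespace Cfsg.Lib.JTW
open Subgroup Cfsg.Lib.Core Cfsg.Lib.BG1 Cfsg.Lib.Invol Cfsg.Lib.Layer Cfsg.Lib.Gold Cfsg.Lib.Linear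
open Cfsg.Lib.Amalg hiding le_cent_symm op_top
open Cfsg.Lib.GW hiding Ctx
open scoped Cfsg.Lib.Wal
open Cfsg.Lib.BS (RO R2 Q0g Wg Kg Dg Vg C3 Q0g_le mem_Q0g_of Wg_le Kg_le)

universe u

variable {G : Type u} [Group G] [Finite G] {S T L R : Subgroup G} {u a b x : G}

theorem closed_of_cen (hS : Syl 2 S ⊤) (h : ∀ g, g * u * g⁻¹ ∈ S → S ≤ 𝐂[g * u * g⁻¹]) :
    IsStronglyClosed (closure {x | x ∈ S ∧ ∃ g, g * u * g⁻¹ = x}) S ∧ closure {x | x ∈ S ∧ ∃ g, g * u * g⁻¹ = x} ≤ 𝐂(S) := by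
  haveI := fact_two
  have h1 : closure {x | x ∈ S ∧ ∃ g, g * u * g⁻¹ = x} ≤ S := (closure_le _).2 fun _ hx => hx.1
  have h2 : closure {x | x ∈ S ∧ ∃ g, g * u * g⁻¹ = x} ≤ 𝐂(S) := (closure_le _).2 fun _ ⟨hx, g, e⟩ =>
    mem_centS.2 fun s hs => (mem_cent.1 (e ▸ h g (e ▸ hx) hs)).symm
  refine ⟨⟨h1, fun w hw g hg => ?_⟩, h2⟩
  generalize hW : closure {x | x ∈ S ∧ ∃ g, g * u * g⁻¹ = x} = W at *
  obtain ⟨c, hc, h3⟩ := ((hS.conj_top g).of_le (K := 𝐂[g * w * g⁻¹]) (by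
    rw [← cj_centralizer_singleton]; exact cj_mono g fun s hs => mem_cent.2 (mem_centS.1 (h2 hw) s hs).symm) le_top).exists_conj_le
    (hS.isPGroup.to_le h1) fun y hy => mem_cent.2 (mem_centS.1 (h2 hy) _ hg)
  have h4 : g⁻¹ * c ∈ 𝐍(W) := mem_normalizer_of_cj_le (cj_le_iff.2 (by
    nth_rw 1 [← hW]
    refine (closure_le _).2 fun y ⟨hy, k, e⟩ => conj_mem_cj_iff.1 (?_ : g⁻¹ * c * y * (g⁻¹ * c)⁻¹ ∈ _)
    rw [cj_cj_inv, ← hW]
    refine subset_closure ⟨?_, g⁻¹ * c * k, by rw [← e]; group⟩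
    simpa [mul_assoc] using mem_cj.1 (h3 (conj_mem_cj c (hW ▸ subset_closure ⟨hy, k, e⟩)))))
  have h5 := conj_mem_norm (inv_mem h4) hw
  rwa [show (g⁻¹ * c)⁻¹ * w * (g⁻¹ * c)⁻¹⁻¹ = c⁻¹ * (g * w * g⁻¹) * c by group, mul_assoc, ← (mem_cent.1 hc).eq,
    inv_mul_cancel_left] at h5

/-- the conclusion of Goldschmidt's theorem -/
def Gl (S : Subgroup G) : Prop := IsMulCommutative S ∨ ∃ H : Subgroup G, IsStronglyEmbedded H

theorem gl_of_cen [IsSimpleGroup G] (hS : Syl 2 S ⊤) (hu : u ∈ S) (h1 : u ≠ 1)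
    (h : ∀ g, g * u * g⁻¹ ∈ S → S ≤ 𝐂[g * u * g⁻¹]) : Gl S :=
  have k := closed_of_cen hS h
  Gsm.goldschmidt hS (fun e => h1 (mem_bot.1 (e.le (Subgroup.subset_closure (by exact ⟨hu, 1, by simp⟩)))))
    (PGrp.isMulCommutative_iff_forall.2 fun x hx _ hy => k.2 hy x (k.1.1 hx)) k.1

theorem ReeC.two_syl [IsSimpleGroup G] (h : ReeC S) : ∃ T, Syl 2 T ⊤ ∧ T ≠ S ∧ Nc (S ⊓ T) := by
  obtain ⟨t, K, F', _, _, m, j, h1, h2, ⟨e⟩, -⟩ := h
  obtain ⟨F, _, _, -, k⟩ := jg_of_jr j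
  obtain ⟨v, hv, v1⟩ := k.exists_V
  obtain ⟨T, hT⟩ := exists_tor k.mod k.iso.some hv.2 (k.twoA hv.1 v1)
  obtain ⟨x, hx, x1⟩ := T.bot_or_exists_ne_one.resolve_left fun e0 => by
    have h3 := card_PSL_two_of_odd (F := F') (by rw [Nat.card_eq_fintype_card, h2]; exact Odd.pow (by decide))
    have h4 := card_PSL_two_of_odd (F := F) (by rw [Nat.card_eq_fintype_card, Nat.odd_iff]; have := k.mod; omega)
    have h5 : 27 ≤ Fintype.card F' := h2 ▸ Nat.pow_le_pow_right (n := 3) (by decide) (show 3 ≤ 2 * m + 1 by omega)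
    rw [← Nat.card_congr (e.symm.trans k.iso.some).toEquiv, h3, Nat.card_eq_fintype_card, Nat.card_eq_fintype_card] at h4
    have h6 := Nat.mul_le_mul (Nat.mul_le_mul h5 (show 26 ≤ Fintype.card F' - 1 by omega)) (show 28 ≤ Fintype.card F' + 1 by omega)
    rcases hT.eq_bot_iff.1 e0 with e | e <;> rw [e] at h4 <;> omega
  obtain ⟨s, hs, s1⟩ := k.exists_notW hv v1
  have h3 := mem_centS.1 (k.T_le hT hx)
  refine ⟨cj x S, k.syl.conj_top x, fun e => x1 ?_, t, ⟨k.mem, ?_⟩, v, ⟨hv.1, ?_⟩, k.two, k.twoA hv.1 v1, k.v_ne hv.2,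
    k.comm hv.1 k.mem⟩
  · have h4 := mul_mem (conj_mem_norm (cj_eq_self_iff.1 e) hs.1) (inv_mem hs.1)
    rw [show x * s * x⁻¹ * s⁻¹ = x * (s * x * s⁻¹)⁻¹ by group, k.inv_T hT hv.1 hs.1 s1 hx, inv_inv] at h4
    have o := k.tor_odd hT hv.1
    exact eq_one_of_sq_odd (eq_one_of_sq_odd (k.sq _ h4) (odd_orderOf_of_mem o (mul_mem hx hx))) (odd_orderOf_of_mem o hx)
  · exact conj_of_comm (h3 t (Kl.mem_left t v)) ▸ conj_mem_cj x k.mem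
  · exact conj_of_comm (h3 v (Kl.mem_right t v)) ▸ conj_mem_cj x hv.1

theorem not_nc_of_rank (h : PRankLE 2 1 S) : ¬ Nc S := fun ⟨a, ha, b, hb, k⟩ => by
  have h5 := h ((closure {a, b}).subgroupOf _) (have := k.isComm; inferInstance) fun x hx => Subtype.ext (by
    rcases (k.mem_iff x).1 hx with e | e | e | e <;> rw [coe_pow, e, coe_one, sq]
    exacts [one_mul 1, mul_self_of_two k.ha, mul_self_of_two k.hb, mul_self_of_two k.hab])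
  rw [card_subgroupOf_of_le (Kl.closure_le ha hb), k.card] at h5
  omega

theorem mem_of_cent (hS : Syl 2 S ⊤) (h2 : orderOf u = 2) (h : S ≤ 𝐂[u]) : u ∈ S :=
  hS.mem_of_mem_normalizer (k := 1) (by rw [pow_one, sq, mul_self_of_two h2]) trivial
    (centralizer_le_normalizer _ (mem_centS.2 fun _ hs => (mem_cent.1 (h hs)).symm))

/-- the Bender groups -/
def BL (G : Type u) [Group G] : Prop :=
  (∃ (n : ℕ) (F : Type) (_ : Field F) (_ : Fintype F), 2 ≤ n ∧ Fintype.card F = 2 ^ n ∧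
        Nonempty (G ≃* Matrix.ProjectiveSpecialLinearGroup (Fin 2) F)) ∨
    (∃ (m : ℕ) (F : Type) (_ : Field F) (_ : Fintype F), 1 ≤ m ∧ Fintype.card F = 2 ^ (2 * m + 1) ∧
        Nonempty (G ≃* ↥(Cfsg.Lie.Sz F (2 ^ (m + 1))))) ∨
    (∃ (n : ℕ) (F : Type) (_ : Field F) (_ : Fintype F), 2 ≤ n ∧ Fintype.card F = 4 ^ n ∧
        Nonempty (G ≃* Cfsg.PSU 3 F (2 ^ n)))

/-- Herzog's list -/
def HL (G : Type u) [Group G] : Prop :=
  (∃ (n : ℕ) (F : Type) (_ : Field F) (_ : Fintype F), 2 ≤ n ∧ Fintype.card F = 2 ^ n ∧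
        Nonempty (G ≃* Matrix.ProjectiveSpecialLinearGroup (Fin 2) F)) ∨
    (∃ (m : ℕ) (F : Type) (_ : Field F) (_ : Fintype F), 1 ≤ m ∧ Fintype.card F = 2 ^ (2 * m + 1) ∧
        Nonempty (G ≃* ↥(Cfsg.Lie.Sz F (2 ^ (m + 1))))) ∨
    (∃ (n : ℕ) (F : Type) (_ : Field F) (_ : Fintype F), 2 ≤ n ∧ Fintype.card F = 4 ^ n ∧
        Nonempty (G ≃* Cfsg.PSU 3 F (2 ^ n))) ∨
    (∃ (F : Type) (_ : Field F) (_ : Fintype F), (Fintype.card F % 8 = 3 ∨ Fintype.card F % 8 = 5) ∧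
        5 < Fintype.card F ∧ Nonempty (G ≃* Matrix.ProjectiveSpecialLinearGroup (Fin 2) F)) ∨
    Cfsg.IsJ1 G

theorem BL.hl (h : BL G) : HL G := h.imp_right (Or.imp_right Or.inl)

theorem bl_of_se [IsSimpleGroup G] {H : Subgroup G} (h : IsStronglyEmbedded H) : BL G := by
  rcases (BS.bro.bender h).cases' with ⟨F, _, _, n, h⟩ | ⟨F, _, _, n, h⟩ | ⟨F, _, _, n, h4, h5, e⟩
  exacts [Or.inl ⟨n, F, _, _, h⟩, Or.inr (Or.inl ⟨n, F, _, _, h⟩),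
    Or.inr (Or.inr ⟨n, F, _, _, h4, by rw [h5, ← pow_mul, mul_comm, pow_mul]; rfl, e⟩)]

theorem BL.of_equiv {G' : Type*} [Group G'] (h : BL G) (f : G' ≃* G) : BL G' := by
  rcases h with ⟨n, F, _, _, h1, h2, ⟨e⟩⟩ | ⟨n, F, _, _, h1, h2, ⟨e⟩⟩ | ⟨n, F, _, _, h1, h2, ⟨e⟩⟩
  exacts [Or.inl ⟨n, F, _, _, h1, h2, ⟨f.trans e⟩⟩, Or.inr (Or.inl ⟨n, F, _, _, h1, h2, ⟨f.trans e⟩⟩),
    Or.inr (Or.inr ⟨n, F, _, _, h1, h2, ⟨f.trans e⟩⟩)]

theorem HL.of_equiv {G' : Type*} [Group G'] (h : HL G) (f : G' ≃* G) : HL G' := by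
  rcases h with h | h | h | ⟨F, _, _, h1, h2, ⟨e⟩⟩ | ⟨h1, h2⟩
  exacts [(BL.of_equiv (Or.inl h) f).imp_right (Or.imp_right Or.inl),
    (BL.of_equiv (Or.inr (Or.inl h)) f).imp_right (Or.imp_right Or.inl),
    (BL.of_equiv (Or.inr (Or.inr h)) f).imp_right (Or.imp_right Or.inl),
    Or.inr (Or.inr (Or.inr (Or.inl ⟨F, _, _, h1, h2, ⟨f.trans e⟩⟩))),
    Or.inr (Or.inr (Or.inr (Or.inr ⟨f.isSimpleGroup, (Nat.card_congr f.toEquiv).trans h2⟩)))]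

/-- a four-group containing a 2-central involution lies in a unique Sylow 2-subgroup -/
def U4c (G : Type u) [Group G] : Prop :=
  ∀ S T U : Subgroup G, Syl 2 S ⊤ → Syl 2 T ⊤ → Syl 2 U ⊤ → ∀ a ∈ S ⊓ T, ∀ b ∈ S ⊓ T, Kl a b → U ≤ 𝐂[a] → T = S

theorem U4c.cen (h : U4c G) (hS : Syl 2 S ⊤) (hu : u ∈ S) (h2 : orderOf u = 2) (hc : S ≤ 𝐂[u]) (g : G)
    (hg : g * u * g⁻¹ ∈ S) : S ≤ 𝐂[g * u * g⁻¹] := by
  haveI := fact_two
  by_cases e : g * u * g⁻¹ = u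
  · rwa [e]
  have k : Kl u (g * u * g⁻¹) := ⟨h2, (Layer.orderOf_conj' g u).trans h2, e, mem_cent.1 (hc hg)⟩
  obtain ⟨T, hT, h3⟩ := exists_syl_ge (H := 𝐂[g * u * g⁻¹]) k.isPGroup (Kl.closure_le (mem_cent.2 k.comm.symm) (mem_cent.2 rfl))
  exact h S T S hS ((hS.conj_top g).of_contains (cj_centralizer_singleton g u ▸ cj_mono g hc) le_top hT) hS u
    ⟨hu, h3 (Kl.mem_left _ _)⟩ _ ⟨hg, h3 (Kl.mem_right _ _)⟩ k hc ▸ hT.le

theorem exists_cen (hS : IsPGroup 2 S) (h1 : L ≤ S) (h2 : S ≤ 𝐍(L)) (h0 : L ≠ ⊥) : ∃ u ∈ L, orderOf u = 2 ∧ S ≤ 𝐂[u] := by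
  haveI := fact_two
  obtain ⟨u, hu, h3⟩ := exists_two_mem_of_even (even_iff_two_dvd.2 (dvd_card_of_isPGroup_ne_bot
    (hS.to_le (inf_le_left.trans h1)) (inf_center_ne_bot hS h1 h2 h0)))
  exact ⟨u, hu.1, h3, fun s hs => mem_cent.2 (mem_centS.1 hu.2 s hs).symm⟩

theorem U4c.gl [IsSimpleGroup G] (h : U4c G) (hG : ¬ IsMulCommutative G) (hS : Syl 2 S ⊤) : Gl S := by
  haveI := fact_two
  obtain ⟨u, h1, h2, h3⟩ := exists_cen hS.isPGroup le_rfl le_normalizer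
    (hS.ne_bot (card_top (G := G) ▸ (FT.even_card_of_simple G fun h => hG ⟨⟨h⟩⟩).two_dvd))
  exact gl_of_cen hS h1 (ne_one_of_two h2) (h.cen hS h1 h2 h3)

theorem U4c.hl [IsSimpleGroup G] (h : U4c G) (hG : ¬ IsMulCommutative G) : HL G := by
  obtain ⟨S, hS⟩ := exists_syl 2 (⊤ : Subgroup G)
  rcases h.gl hG hS with hc | ⟨H, hH⟩
  swap
  · exact (bl_of_se hH).hl
  rcases abel hG hS hc with ⟨F, _, _, h1, h2, ⟨e⟩⟩ | ⟨F, _, _, ⟨n, h1, h2⟩, e⟩ | h1 | h1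
  · rcases h2.eq_or_lt with h2 | h2
    · haveI := fact_two
      letI : Fintype (GaloisField 2 2) := Fintype.ofFinite _
      have h3 : Nat.card (GaloisField 2 2) = 2 ^ 2 := GaloisField.card 2 2 two_ne_zero
      exact Or.inl ⟨2, GaloisField 2 2, _, _, le_rfl, Nat.card_eq_fintype_card.symm.trans h3, ⟨e.trans
        ((psl2_five_equiv (Nat.card_eq_fintype_card.trans h2.symm)).some.trans (psl2_four_equiv h3).some.symm)⟩⟩
    · exact Or.inr (Or.inr (Or.inr (Or.inl ⟨F, _, _, h1, h2, ⟨e⟩⟩)))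
  · exact Or.inl ⟨n, F, _, _, h1, h2, e⟩
  · exact Or.inr (Or.inr (Or.inr (Or.inr (isJ1 h1))))
  · obtain ⟨T, h2, h3, a, ha, b, hb, k⟩ := h1.two_syl
    exact absurd (h S T S hS h2 hS a ha b hb k fun s hs => mem_cent.2 (PGrp.isMulCommutative_iff_forall.1 hc s hs a ha.1)) h3

theorem cent_conj (h : R ≤ 𝐂[u]) (hx : x ∈ 𝐍(R)) : R ≤ 𝐂[x * u * x⁻¹] :=
  cj_centralizer_singleton x u ▸ (cj_eq_self_iff.2 hx).ge.trans (cj_mono x h)

theorem inner_ro [L.Normal] [IsSimpleGroup L] {H Q : Subgroup L} {t : L} (h : RO H Q t) (r2 : R2 (⊤ : Subgroup L))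
    (hR : IsPGroup 2 R) (hQ : ∀ x : L, x ∈ Q ↔ (x : G) ∈ R) (hH : ∀ x ∈ H, (x : G) ∈ 𝐍(R)) : R ≤ L ⊔ 𝐂(L) := by
  haveI := fact_two
  have h1 : ∀ {g : G}, g ∈ 𝐍(L) := fun {g} => le_normalizer_of_normal (mem_top g)
  obtain ⟨u, u1, u2, u3⟩ := exists_cen (L := R ⊓ L) hR inf_le_left (BS.norm_inf le_normalizer fun _ _ => h1) fun e =>
    h.Q_ne_bot (eq_bot_iff.2 fun x hx => Subtype.ext (e.le ⟨(hQ x).1 hx, x.2⟩))
  have a1 : ∀ a ∈ R, ∀ v ∈ Q0g Q, L.normalizerMonoidHom ⟨a, h1⟩ v = v := fun a ha v hv => by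
    by_cases v1 : v = 1
    · rw [v1, map_one]
    obtain ⟨k, hk, rfl⟩ := h.exists_K' (s := ⟨u, u1.2⟩) (by rwa [← orderOf_coe]) (h.le ((hQ _).2 u1.1)) (h.two_V r2 hv v1)
      (h.le (Q0g_le Q hv))
    exact Subtype.ext (mul_inv_eq_iff_eq_mul.2 (mem_cent.1 (cent_conj u3 (hH k (Kg_le H t hk).1) ha)).eq)
  have qα : ∀ a ∈ R, ∀ x ∈ Q, L.normalizerMonoidHom ⟨a, h1⟩ x ∈ Q := fun a ha x hx =>
    (hQ _).2 (mul_mem (mul_mem ha ((hQ x).1 hx)) (inv_mem ha))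
  have a2 : ∀ a ∈ R, ∀ x ∈ Q, L.normalizerMonoidHom ⟨a, h1⟩ x * x⁻¹ ∈ Q0g Q := by
    let X : Subgroup L :=
      { carrier := {x | x ∈ Q ∧ ∀ a ∈ R, L.normalizerMonoidHom ⟨a, h1⟩ x * x⁻¹ ∈ Q0g Q}
        one_mem' := ⟨one_mem _, fun a _ => by simp⟩
        mul_mem' := fun {x y} hx hy => ⟨mul_mem hx.1 hy.1, fun a ha => by
          simpa [mul_assoc] using mul_mem (hx.2 a ha) (h.conj_V (h.le hx.1) (hy.2 a ha))⟩
        inv_mem' := fun {x} hx => ⟨inv_mem hx.1, fun a ha => by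
          simpa [mul_assoc] using h.conj_V' (h.le hx.1) (inv_mem (hx.2 a ha))⟩ }
    have hX : H ≤ 𝐍(X) := fun k hk => mem_normalizer_of_conj_mem fun x hx => ⟨h.conj_Q hk hx.1, fun a ha => by
      convert h.conj_V hk (hx.2 _ (conj_mem_norm (inv_mem (hH k hk)) ha)) using 1
      exact Subtype.ext (by simp [mul_assoc])⟩
    rcases SCl.ro_pair (X := X) (Y := Q ⊓ 𝐂(X)) h r2 (fun _ e => e.1) inf_le_left
      (fun v hv => ⟨Q0g_le Q hv, fun a ha => by rw [a1 a ha v hv, mul_inv_cancel]; exact one_mem _⟩)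
      (fun v hv => ⟨Q0g_le Q hv, mem_centS.2 fun x hx => h.commute_Q0 r2 hv hx.1⟩) hX (BS.norm_inf h.norm (BS.norm_cent hX))
      (fun x hx y hy => (mem_centS.1 hy.2 x hx).symm) with e | e
    · have h3 : (((Q0g Q).map L.subtype).subgroupOf R).Normal := ⟨fun x ⟨y, hy, e⟩ a => ⟨_, (a1 a a.2 y hy).symm ▸ hy, by
        change (a : G) * y * (a : G)⁻¹ = a * x * a⁻¹
        rw [← show (y : G) = x from e]; rfl⟩⟩
      have h4 : Q ≤ Q0g Q := fun y hy => by_contra fun y1 => by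
        obtain ⟨x, x1, x2, -, x3⟩ := PGrp.exists_mem_central_mod hR (((Q0g Q).map L.subtype).subgroupOf R) (L.subgroupOf R)
          fun e => by obtain ⟨z, hz, e'⟩ := e (x := ⟨y, (hQ y).1 hy⟩) y.2; exact y1 (Subtype.ext e' ▸ hz)
        refine x2 ⟨⟨x, x1⟩, e ⟨(hQ _).2 x.2, fun a ha => ?_⟩, rfl⟩
        obtain ⟨z, hz, e'⟩ := inv_mem (x3 ⟨a, ha⟩)
        exact (Subtype.ext (by simpa [commutatorElement_def, mul_assoc] using e') :
          z = L.normalizerMonoidHom ⟨a, h1⟩ ⟨x, x1⟩ * (⟨x, x1⟩ : L)⁻¹) ▸ hz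
      exact fun a ha x hx => h4 (mul_mem (qα a ha x hx) (inv_mem hx))
    refine fun a ha x hx => e ⟨Q.mul_mem (qα a ha x hx) (Q.inv_mem hx), mem_centS.2 fun c hc => ?_⟩
    have k1 := a1 a ha _ (h.comm_mem r2 hc.1 hx)
    have k2 := hc.2 a ha
    have k3 := qα a ha x hx
    rw [map_mul, map_mul, map_mul, map_inv, map_inv, ← inv_mul_cancel_right (L.normalizerMonoidHom ⟨a, h1⟩ c) c] at k1
    generalize L.normalizerMonoidHom ⟨a, h1⟩ c * c⁻¹ = z at k1 k2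
    generalize L.normalizerMonoidHom ⟨a, h1⟩ x = y at k1 k3
    have k4 := (h.commute_Q0 r2 k2 (mul_mem (mul_mem hc.1 k3) (inv_mem hc.1))).eq
    have k5 := (h.commute_Q0 r2 (h.comm_mem r2 hc.1 hx) (mul_mem k3 (inv_mem hx))).eq
    have k6 : c * y * c⁻¹ * y⁻¹ = c * x * c⁻¹ * x⁻¹ := by
      rw [← k1, show z * c * y * (z * c)⁻¹ = z * (c * y * c⁻¹) * z⁻¹ by group, k4, mul_inv_cancel_right]
    refine (mul_inv_eq_iff_eq_mul.1 ?_ : c * (y * x⁻¹) = y * x⁻¹ * c).symm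
    calc _ = c * y * c⁻¹ * y⁻¹ * (y * x⁻¹) * (c * x * c⁻¹ * x⁻¹)⁻¹ := by group
      _ = _ := by rw [k6, k5, mul_inv_cancel_right]
  have a3 : (Dg H t).map L.subtype ≤ 𝐍(R) := by
    rintro _ ⟨d, hd, rfl⟩
    exact hH d hd.1
  exact (comm_sup_cent_of_pPrime (p := 2) (by
    rw [card_map_of_injective L.subtype_injective]; exact h.odd.coprime_two_right) hR a3).ge.trans
    (sup_le_sup ((commutator_mono le_rfl (map_subtype_le _)).trans (commutator_le_right _ _)) fun a ha =>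
      Gsm.cent_of_aut h1 (h.aut_B r2 (a1 a ha.1) (a2 a ha.1) fun d hd =>
        Subtype.ext (mul_inv_eq_iff_eq_mul.2 (ha.2 d ⟨d, hd, rfl⟩).symm)))

theorem inner [L.Normal] (hL : IsSimpleGroup L) (hn : ¬ IsMulCommutative L) (hR : Syl 2 R ⊤)
    (hN : L ⊓ 𝐍(R ⊓ L) ≤ 𝐍(R)) (g : Gl ((R ⊓ L).subgroupOf L)) : R ≤ L ⊔ 𝐂(L) := by
  haveI := fact_two
  have hT := hR.inf_normal_top L
  rcases g with g | ⟨H, hH⟩
  · have gd := Wal.gd_of_comm hn hT.subgroupOf_top g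
    have hc : IsMulCommutative ↥(R ⊓ L) := PGrp.isMulCommutative_iff_forall.2 fun x hx y hy =>
      congrArg Subtype.val (PGrp.isMulCommutative_iff_forall.1 g ⟨x, hx.2⟩ hx ⟨y, hy.2⟩ hy)
    obtain ⟨u, u1, u2, u3⟩ := exists_cen (L := R ⊓ L) hR.isPGroup inf_le_left (BS.norm_inf le_normalizer le_normalizer_of_normal)
      (hT.ne_bot (FT.even_card_of_simple L fun h => hn ⟨⟨h⟩⟩).two_dvd)
    intro y hy
    obtain ⟨k, hk⟩ := isPGroup_iff_mem.1 hR.isPGroup y hy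
    obtain ⟨s, hs, e⟩ := exists_inner_cent hT hc
      (by rw [← map_pPrimeCore_subtype Nat.prime_two, show pPrimeCore 2 L = ⊥ from core_of_simple hn, Subgroup.map_bot])
      (le_normalizer_of_normal (mem_top y)) (mem_centS.2 fun s hs => by
        by_cases s1 : s = 1
        · simp [s1]
        obtain ⟨c, e⟩ := isConj_iff.1 (gd.one ⟨u, u1.2⟩ ⟨s, hs.2⟩ (by rwa [← orderOf_coe]) (two_of_mul_self
          (gd.el _ (Two.of_mem hT.subgroupOf_top.isPGroup hs)) fun e => s1 (congrArg Subtype.val e)))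
        have e' : (c : G) * u * (c : G)⁻¹ = s := congrArg Subtype.val e
        obtain ⟨n, n1, n2, n3⟩ := burn hT (inf_le_left.trans u3) c.2 (e' ▸ fun x hx => mem_cent.2
          (PGrp.isMulCommutative_iff_forall.1 hc x hx s hs))
        exact e' ▸ n3 ▸ mem_cent.1 (cent_conj u3 (hN ⟨n1, n2⟩) hy)) hk
    simpa using mul_mem (mem_sup_right e) (mem_sup_left (inv_mem hs.2))
  obtain ⟨H, Q, t, r, r2, hQ⟩ : ∃ (H Q : Subgroup L) (t : L), RO H Q t ∧ R2 (⊤ : Subgroup L) ∧ Q = (R ⊓ L).subgroupOf L := by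
    obtain ⟨Q, t, h, r2, -⟩ := ro_of_se hH (core_of_simple hn)
    obtain ⟨g, -, e⟩ := (Gsm.ro_syl h r2).exists_conj hT.subgroupOf_top
    exact ⟨_, _, _, h.map (MulAut.conj g).toMonoidHom (MulAut.conj g).surjective
      (((MonoidHom.ker_eq_bot_iff _).2 (MulAut.conj g).injective).le.trans bot_le), r2, e⟩
  exact inner_ro r r2 hR.isPGroup (fun x => by rw [hQ]; exact ⟨fun e => e.1, fun e => ⟨e, x.2⟩⟩) fun x hx =>
    hN ⟨x.2, ((normalizer_subgroupOf inf_le_right).le (hQ ▸ r.norm hx) :)⟩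

end Cfsg.Lib.JTW
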