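import Cfsg.Agent.Lib.JTW.Herz1
import Cfsg.Agent.Lib.GW.Cover

/-! Groups with small Sylow 2-intersections (Herzog), II: four-groups in a unique Sylow 2-subgroup. -/

set_option autoImplicit false
set_option linter.unusedSectionVars false
set_option linter.style.haveILetI false

namespace Cfsg.Lib.JTW
open Subgroup Cfsg.Lib.Core Cfsg.Lib.BG1 Cfsg.Lib.Invol Cfsg.Lib.Layer Cfsg.Lib.Gold Cfsg.Lib.Linear Function
open Cfsg.Lib.Amalg hiding le_cent_symm op_top
open Cfsg.Lib.GW hiding Ctx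
open scoped Cfsg.Lib.Wal

universe u

variable {G : Type u} [Group G] [Finite G] {G' : Type*} [Group G'] [Finite G'] {S T L R X K : Subgroup G} {u a b x : G}
  {f : G →* G'}

theorem kl_map (k : Kl a b) (h1 : f a ≠ 1) (h2 : f b ≠ 1) (h3 : f (a * b) ≠ 1) : Kl (f a) (f b) :=
  ⟨two_of_mul_self (by rw [← map_mul, mul_self_of_two k.ha, map_one]) h1,
    two_of_mul_self (by rw [← map_mul, mul_self_of_two k.hb, map_one]) h2,
    fun e => h3 (by rw [map_mul, e, ← map_mul, mul_self_of_two k.ha, map_one]), k.comm.map f⟩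

theorem nc_map (n : Nc X) (h : ∀ x ∈ X, f x = 1 → x = 1) : Nc (X.map f) :=
  let ⟨a, ha, b, hb, k⟩ := n
  ⟨_, mem_map_of_mem f ha, _, mem_map_of_mem f hb, kl_map k (fun e => ne_one_of_two k.ha (h a ha e))
    (fun e => ne_one_of_two k.hb (h b hb e)) fun e => ne_one_of_two k.hab (h _ (mul_mem ha hb) e)⟩

theorem kl_of_map (ha : a ∈ X) (hb : b ∈ X) (k : Kl (f a) (f b)) (h : ∀ x ∈ X, f x = 1 → x = 1) : Kl a b :=
  ⟨two_of_mul_self (h _ (mul_mem ha ha) (by rw [map_mul, mul_self_of_two k.ha])) fun e => ne_one_of_two k.ha (by rw [e, map_one]),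
    two_of_mul_self (h _ (mul_mem hb hb) (by rw [map_mul, mul_self_of_two k.hb])) fun e => ne_one_of_two k.hb (by rw [e, map_one]),
    fun e => k.ne (by rw [e]), mul_inv_eq_one.1 (h _ (mul_mem (mul_mem hb ha) (inv_mem (mul_mem ha hb))) (by
      rw [map_mul, map_inv, map_mul, map_mul, k.comm.eq, mul_inv_cancel]))⟩

theorem nc_of_map (n : Nc (X.map f)) (h : ∀ x ∈ X, f x = 1 → x = 1) : Nc X :=
  let ⟨_, ⟨a, ha, rfl⟩, _, ⟨b, hb, rfl⟩, k⟩ := n; ⟨a, ha, b, hb, kl_of_map ha hb k h⟩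

theorem nc_top_iff : Nc (⊤ : Subgroup L) ↔ Nc L := by
  refine ⟨fun n => ?_, fun n => nc_of_map (f := L.subtype) ?_ fun _ _ e => Subtype.ext e⟩
  · simpa [← MonoidHom.range_eq_map] using nc_map (f := L.subtype) n fun _ _ e => Subtype.ext e
  · simpa [← MonoidHom.range_eq_map] using n

theorem nc_syl (n : Nc L) (h : Syl 2 T L) : Nc T := haveI := fact_two; n.sylow h.sylowIn

theorem nc_simple (hL : IsSimpleGroup L) (hn : ¬ IsMulCommutative L) : Nc L := nc_top_iff.1 (by_contra fun e => by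
  obtain ⟨z, hz⟩ := exists_two_of_even (FT.even_card_of_simple L fun h => hn ⟨⟨h⟩⟩)
  exact ne_one_of_two hz ((center_of_simple hn).le (central_of_uniqInv (uniqInv_iff.2 e) (core_of_simple hn) hz)))

theorem solv_norm (hS : Syl 2 S ⊤) : Group.IsSolvable 𝐍(S) := by
  haveI := fact_two
  haveI : Group.IsSolvable (S.subgroupOf 𝐍(S)) := solvable_of_nilpotent (hS.isPGroup.comap_subtype).isNilpotent
  haveI : Group.IsSolvable (𝐍(S) ⧸ S.subgroupOf 𝐍(S)) := by_contra fun e =>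
    (hS.of_le le_normalizer le_top).not_dvd_relIndex (FT.even_card_of_not_solvable _ e).two_dvd
  exact isSolvable_of_normal_of_quotient (S.subgroupOf 𝐍(S))

theorem lift_ge (hf : Surjective f) {S' : Subgroup G'} (hS : Syl 2 S' ⊤) (hX : IsPGroup 2 X) (h : X.map f ≤ S') :
    ∃ S, Syl 2 S ⊤ ∧ X ≤ S ∧ S.map f = S' := by
  haveI := fact_two
  obtain ⟨P, h1, h2⟩ := exists_syl_ge hX (map_le_iff_le_comap.1 h)
  obtain ⟨S, h3, h4⟩ := exists_syl_ge h1.isPGroup le_top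
  have h5 := h1.map f
  rw [map_comap_eq_self_of_surjective hf] at h5
  exact ⟨S, h3, h2.trans h4, hS.eq_of_le _ ((h5.eq_of_isPGroup hS.isPGroup).ge.trans (map_mono h4)) le_top (h3.isPGroup.map f)⟩

theorem lift_pair (hf : Surjective f) {S' T' : Subgroup G'} (hS : Syl 2 S' ⊤) (hT : Syl 2 T' ⊤) :
    ∃ S T, Syl 2 S ⊤ ∧ Syl 2 T ⊤ ∧ S.map f = S' ∧ T.map f = T' ∧ (S ⊓ T).map f = S' ⊓ T' := by
  haveI := fact_two
  obtain ⟨P, h1⟩ := exists_syl 2 ((S' ⊓ T').comap f)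
  have h2 := h1.map f
  rw [map_comap_eq_self_of_surjective hf] at h2
  have h3 := h2.eq_of_isPGroup (hS.isPGroup.to_le inf_le_left)
  obtain ⟨S, s1, s2, s3⟩ := lift_ge hf hS h1.isPGroup (h3.le.trans inf_le_left)
  obtain ⟨T, t1, t2, t3⟩ := lift_ge hf hT h1.isPGroup (h3.le.trans inf_le_right)
  exact ⟨S, T, s1, t1, s3, t3, le_antisymm (s3 ▸ t3 ▸ map_inf_le _ _ _) (h3.ge.trans (map_mono (le_inf s2 t2)))⟩

theorem quot_equiv (hf : Surjective f) {N : Subgroup G} (hN : f.ker = N) (Y : Subgroup G')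
    [(N.subgroupOf (Y.comap f)).Normal] : Nonempty (Y.comap f ⧸ N.subgroupOf (Y.comap f) ≃* Y) :=
  ⟨(QuotientGroup.quotientMulEquivOfEq (by subst hN; exact ext fun x => (Subtype.ext_iff (a1 := f.subgroupComap Y x) (a2 := 1)).symm)).trans
    (QuotientGroup.quotientKerEquivOfSurjective (f.subgroupComap Y) (f.subgroupComap_surjective_of_surjective Y hf))⟩

/-- four-groups lie in a unique Sylow 2-subgroup -/
def U4 (G : Type u) [Group G] : Prop := ∀ S T : Subgroup G, Syl 2 S ⊤ → Syl 2 T ⊤ → Nc (S ⊓ T) → T = S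

namespace U4
variable (h : U4 G)
include h

theorem u4c : U4c G := fun S T _ hS hT _ a ha b hb k _ => h S T hS hT ⟨a, ha, b, hb, k⟩

theorem le (hS : Syl 2 S ⊤) (hX : IsPGroup 2 X) (n : Nc (S ⊓ X)) : X ≤ S :=
  let ⟨T, hT, e⟩ := exists_syl_ge hX le_top; h S T hS hT (n.mono (inf_le_inf_left _ e)) ▸ e

theorem norm (hS : Syl 2 S ⊤) (hX : X ≤ S) (n : Nc X) : 𝐍(X) ≤ 𝐍(S) := fun g hg =>
  cj_eq_self_iff.1 (h S _ hS (hS.conj_top g) (n.mono (le_inf hX ((cj_eq_self_iff.2 hg).ge.trans (cj_mono g hX)))))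

theorem sub (L : Subgroup G) : U4 L := fun S T hS hT n => by
  obtain ⟨U, hU, e⟩ := exists_syl_ge (hS.isPGroup.map L.subtype) le_top
  have h1 := h.le hU (hT.isPGroup.map L.subtype) ((nc_map n fun _ _ e => Subtype.ext e).mono
    ((map_inf_le _ _ _).trans (inf_le_inf_right _ e)))
  have h2 := hU.isPGroup.comap_subtype (K := L)
  exact (hT.eq_of_le _ (map_le_iff_le_comap.1 h1) le_top h2).symm.trans (hS.eq_of_le _ (map_le_iff_le_comap.1 e) le_top h2)

theorem quot (hf : Surjective f) (ho : Odd (Nat.card f.ker)) : U4 G' := fun S' T' hS hT n => by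
  obtain ⟨S, T, h1, h2, rfl, rfl, e⟩ := lift_pair hf hS hT
  rw [h S T h1 h2 (nc_of_map (e ▸ n) fun x hx e => (Two.of_mem h1.isPGroup hx.1).eq_one (odd_orderOf_of_mem ho e))]

theorem solv (hX : IsPGroup 2 X) (n : Nc X) : Group.IsSolvable 𝐍(X) :=
  let ⟨_, hS, e⟩ := exists_syl_ge hX le_top
  have := solv_norm hS
  Group.isSolvable_of_isSolvable_injective (inclusion_injective (h.norm hS e n))

theorem not_cent (hK : IsQuasisimple K) (k : Kl a b) (h1 : K ≤ 𝐂[a]) (h2 : K ≤ 𝐂[b]) : False :=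
  IsQuasisimple.not_le_of_isSolvable hK (h.solv k.isPGroup ⟨a, Kl.mem_left a b, b, Kl.mem_right a b, k⟩) fun _ hx =>
    centralizer_le_normalizer _ (k.mem_cent_iff.2 ⟨mem_cent.1 (h1 hx), mem_cent.1 (h2 hx)⟩)

theorem not_nc (hK : IsQuasisimple K) (e : K ≤ 𝐂(X)) : ¬ Nc X := fun ⟨a, ha, b, hb, k⟩ =>
  h.not_cent hK k (fun _ hx => mem_cent.2 (mem_centS.1 (e hx) a ha)) fun _ hx => mem_cent.2 (mem_centS.1 (e hx) b hb)

end U4

theorem layer_eq (hK : IsComponent K) (h : ∀ L : Subgroup G, IsComponent L → L = K) : layer G = K :=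
  le_antisymm (layer_le fun L hL => (h L hL).le) (IsComponent.le_layer hK)

theorem odd_index (hS : Syl 2 S ⊤) (h : S ≤ K) : Odd K.index :=
  haveI := fact_two; Nat.not_even_iff_odd.1 fun e => hS.not_dvd_index (e.two_dvd.trans (index_dvd_of_le h))

theorem U4.core [Nontrivial G] (h : U4 G) (hF : fittingSubgroup G = ⊥) :
    ∃ K : Subgroup G, K.Normal ∧ Odd K.index ∧ IsSimpleGroup K ∧ ¬ IsMulCommutative K ∧ HL K := by
  haveI := fact_two
  obtain ⟨K, hK⟩ := exists_component_of_layer_ne_bot (fstar_eq_layer hF ▸ fstar_ne_bot (G := G))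
  have h1 : IsSimpleGroup K := IsQuasisimple.isSimpleGroup hK.2 (map_eq_bot_iff_of_injective _ K.subtype_injective |>.1
    (eq_bot_iff.2 ((fitOf_le_of_isSubnormal hK.1).trans' (map_mono center_le_fit) |>.trans hF.le)))
  have h2 := IsQuasisimple.not_isMulCommutative hK.2
  have h3 := nc_simple h1 h2
  have h4 := layer_eq hK fun L hL => by_contra fun e =>
    h.not_nc hL.2 (comm_eq_bot_iff.1 (IsComponent.commutator_eq_bot_of_ne hL hK e)) h3
  haveI : K.Normal := h4 ▸ layer_normal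
  obtain ⟨S, hS⟩ := exists_syl 2 (⊤ : Subgroup G)
  have h5 := hS.inf_normal_top K
  have h6 := inner h1 h2 hS (inf_le_right.trans (h.norm hS inf_le_left (nc_syl h3 h5))) ((h.sub K).u4c.gl h2 h5.subgroupOf_top)
  have h7 := centralizer_fstar_le_fit (G := G)
  rw [fstar_eq_layer hF, h4, hF, le_bot_iff] at h7
  rw [h7, sup_bot_eq] at h6
  exact ⟨K, ‹_›, odd_index hS h6, h1, h2, (h.sub K).u4c.hl h2⟩

end Cfsg.Lib.JTW
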