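import Cfsg.Agent.Lib.JTW.Herz2
import Cfsg.Agent.Lib.Push.ZC
import Cfsg.Agent.Lib.SCl.ZDab
import Cfsg.Agent.Lib.SF.Cor
import Cfsg.Agent.Lib.Amalg.JoinSyl

/-! Groups with small Sylow 2-intersections (Herzog), III: a simple normal subgroup modulo a 2-group of rank one. -/

set_option autoImplicit false
set_option linter.unusedSectionVars false
set_option linter.style.haveILetI false

namespace Cfsg.Lib.JTW
open Subgroup Cfsg.Lib.Core Cfsg.Lib.BG1 Cfsg.Lib.Invol Cfsg.Lib.Layer Cfsg.Lib.Gold Cfsg.Lib.Linear Function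
open Cfsg.Lib.Amalg hiding le_cent_symm op_top
open Cfsg.Lib.GW hiding Ctx
open Cfsg.Lib.Block (QuatData UniqInv)
open scoped Cfsg.Lib.Wal

universe u

variable {G : Type u} [Group G] [Finite G] {G' : Type*} [Group G'] [Finite G'] {S T L R X K : Subgroup G} {u a b x y w t : G}
  {f : G →* G'} {n : ℕ}

theorem uniq_of (n : ¬ Nc X) : UniqInv X := uniqInv_iff.2 (mt nc_top_iff.1 n)

theorem eq_of_not_nc (hX : IsPGroup 2 X) (n : ¬ Nc X) : ∀ s ∈ X, ∀ t ∈ X, orderOf s = 2 → orderOf t = 2 → s = t :=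
  fun s hs t ht h1 h2 => congrArg Subtype.val ((uniq_of n).eq_of_mem (P := ⊤) (hX.to_subgroup ⊤) (s := ⟨s, hs⟩) (t := ⟨t, ht⟩)
    trivial trivial (by rwa [← orderOf_coe]) (by rwa [← orderOf_coe]))

theorem cyc_quat (hX : IsPGroup 2 X) (n : ¬ Nc X) : IsCyclic X ∨ ∃ a x n, QuatData X a x (2 ^ (n + 1)) :=
  Block.isCyclic_or_quatData' hX (eq_of_not_nc hX n)

theorem quat_nc (h : QuatData X a x (2 ^ (n + 1))) (k : ℤ) : ¬ Commute (x * a ^ k) a := fun e => by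
  have h1 := h.refl_conj k 1
  rw [zpow_one, e.eq, mul_inv_cancel_right] at h1
  have h2 := Int.le_of_dvd two_pos (h.zpow_eq_one_iff.1 (show a ^ (2 : ℤ) = 1 by
    rw [zpow_two]; nth_rw 2 [h1]; simp))
  have : (0 : ℤ) < 2 ^ n := by positivity
  push_cast at h2
  rw [pow_succ] at h2
  omega

theorem quat_cen (h : QuatData X a x (2 ^ (n + 1))) (hw : w ∈ X) (hc : X ≤ 𝐂[w]) : w * w = 1 := by
  rcases (h.mem w).1 hw with ⟨k, rfl | rfl⟩
  · have := h.conj_zpow k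
    rwa [(mem_cent.1 (hc h.x_mem)).eq, mul_inv_cancel_right, eq_inv_iff_mul_eq_one] at this
  · exact absurd (mem_cent.1 (hc h.a_mem)).symm (quat_nc h k)

theorem kl_sub (k : Kl a b) (ha : a ∈ L) (hb : b ∈ L) : Kl (⟨a, ha⟩ : L) ⟨b, hb⟩ :=
  kl_of_map (f := L.subtype) (X := ⊤) trivial trivial k fun _ _ e => Subtype.ext e

theorem klein_of (hf : Surjective f) (hk : IsPGroup 2 f.ker) {W : Subgroup G'} (hW : IsPGroup 2 W) (n : ¬ Nc (W.comap f))
    {a b : G'} (k : Kl a b) (ha : a ∈ W) (hb : b ∈ W) (h1 : W ≤ 𝐂[a]) (h2 : W ≤ 𝐂[b]) : W = closure {a, b} := by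
  haveI := fact_two
  obtain ⟨z, hz, z2⟩ := exists_two_mem_of_even (even_iff_two_dvd.2 (dvd_card_of_isPGroup_ne_bot hk fun e =>
    n (nc_of_map (f := f) (by rw [map_comap_eq_self_of_surjective hf]; exact ⟨a, ha, b, hb, k⟩) fun _ _ e' => e.le e')))
  have D : DC2 W := dc2_of_uniqInv (uniq_of n) (f.subgroupComap_surjective_of_surjective W hf)
    (z := ⟨z, ker_le_comap f W hz⟩) (by rwa [← orderOf_coe]) (Subtype.ext hz)
  refine le_antisymm (fun c hc => (k.mem_iff c).2 ?_) (Kl.closure_le ha hb)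
  have := D.mem_klein (kl_sub k ha hb) (c := ⟨c, hc⟩) (hW _) (Subtype.ext (mem_cent.1 (h1 hc))) (Subtype.ext (mem_cent.1 (h2 hc)))
  simp only [Subtype.ext_iff] at this
  exact this

theorem max2_inv (hR : IsPGroup 2 R) (ht : t ∈ R) (h4 : Nat.card ↥(R ⊓ 𝐂[t]) = 4) (hn : ¬ R ≤ 𝐂[t]) (hx : x ∈ R)
    (h2 : orderOf x = 2) (hx' : ¬ R ≤ 𝐂[x]) : Nat.card ↥(R ⊓ 𝐂[x]) = 4 := by
  obtain ⟨a, b, m, h⟩ := Push.ZC.max2_of_cent hR ht h4 hn
  haveI := h.finite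
  have x2 : orderOf (⟨x, hx⟩ : R) = 2 := by rwa [← orderOf_coe]
  have h1 : (⟨x, hx⟩ : R) ∉ zpowers a := fun e => hx' fun r hr => by
    have := mem_center_iff.1 h.z_mem_center ⟨r, hr⟩
    rw [← eq_of_mem_zpowers e (pow_mem (mem_zpowers a) _) x2 h.orderOf_z] at this
    exact mem_cent.2 (congrArg Subtype.val this :)
  obtain ⟨k, hk⟩ : b⁻¹ * ⟨x, hx⟩ ∈ zpowers a := (mul_mem_iff_of_index_two h.index).2 (by simp [h1, h.not_mem])
  have e : ⟨x, hx⟩ * a * (⟨x, hx⟩ : R)⁻¹ = b * a * b⁻¹ := by rw [← mul_inv_cancel_left b ⟨x, hx⟩, ← hk]; group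
  have h3 : PGrp.Max2 a ⟨x, hx⟩ m := ⟨h.ord, h.index, h1, by
    rw [e, sq_of_two x2]
    rcases h.rel with r | r | r
    exacts [Or.inl ⟨rfl, r.2⟩, Or.inl ⟨rfl, r.2⟩, Or.inr (Or.inr ⟨r.1, rfl, r.2.2⟩)]⟩
  rw [← h3.card_centralizer, ← card_map_of_injective R.subtype_injective]
  congr 2
  ext y
  exact ⟨fun hy => ⟨⟨y, hy.1⟩, mem_cent.2 (Subtype.ext (mem_cent.1 hy.2)), rfl⟩,
    fun ⟨c, hc, e⟩ => e ▸ ⟨c.2, mem_cent.2 (congrArg Subtype.val (mem_cent.1 hc))⟩⟩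

/-- `y` lies in a unique Sylow 2-subgroup -/
def Un (y : G) : Prop := ∀ S T : Subgroup G, Syl 2 S ⊤ → Syl 2 T ⊤ → y ∈ S → y ∈ T → T = S

theorem Un.conj (h : Un y) (g : G) : Un (g * y * g⁻¹) := fun S T hS hT h1 h2 => by
  have := h _ _ (hS.conj_top g⁻¹) (hT.conj_top g⁻¹) (mem_cj.2 (by simpa using h1)) (mem_cj.2 (by simpa using h2))
  rw [← cj_cj_inv g T, this, cj_cj_inv]

theorem Un.mem (h : Un y) (hS : Syl 2 S ⊤) (hy : y ∈ S) (h2 : orderOf t = 2) (hc : Commute t y) : t ∈ S :=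
  hS.mem_of_mem_normalizer (k := 1) (by rw [pow_one, sq_of_two h2]) trivial
    (cj_eq_self_iff.1 (h _ _ hS (hS.conj_top t) hy (conj_of_comm hc ▸ conj_mem_cj t hy)))

theorem Un.sub {y : L} (h : Un (y : G)) : Un y := fun S T hS hT h1 h2 => by
  obtain ⟨U, hU, e⟩ := exists_syl_ge (hS.isPGroup.map L.subtype) le_top
  obtain ⟨V, hV, e'⟩ := exists_syl_ge (hT.isPGroup.map L.subtype) le_top
  obtain rfl := h U V hU hV (e (mem_map_of_mem _ h1)) (e' (mem_map_of_mem _ h2))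
  have h2 := hU.isPGroup.comap_subtype (K := L)
  exact (hT.eq_of_le _ (map_le_iff_le_comap.1 e') le_top h2).symm.trans (hS.eq_of_le _ (map_le_iff_le_comap.1 e) le_top h2)

theorem se_of_un [IsSimpleGroup G] (hn : ¬ IsMulCommutative G) (hS : Syl 2 S ⊤) (h : ∀ t ∈ S, orderOf t = 2 → Un t) :
    IsStronglyEmbedded 𝐍(S) := by
  haveI := fact_two
  have k : ∀ {t}, orderOf t = 2 → t ∈ 𝐍(S) → t ∈ S := fun h1 h2 =>
    hS.mem_of_mem_normalizer (k := 1) (by rw [pow_one, sq_of_two h1]) trivial h2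
  refine stronglyEmbedded_iff.2 ⟨fun e => IsQuasisimple.not_le_of_isSolvable (isQuasisimple_top_iff.2
    (isQuasisimple_of_isSimpleGroup hn)) (solv_norm hS) e.ge, even_iff_two_dvd.2 (dvd_card_of_isPGroup_le hS.isPGroup
      (hS.ne_bot (card_top (G := G) ▸ (FT.even_card_of_simple G fun h => hn ⟨⟨h⟩⟩).two_dvd)) le_normalizer),
    fun t g h1 h2 h3 => ?_⟩
  have h4 := k ((Layer.orderOf_conj' g t).trans h1) h3
  exact cj_eq_self_iff.1 (h _ h4 ((Layer.orderOf_conj' g t).trans h1) _ _ hS (hS.conj_top g) h4 (conj_mem_cj g (k h1 h2)))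

theorem syl_comap (hf : Surjective f) (hk : IsPGroup 2 f.ker) {S' : Subgroup G'} (hS : Syl 2 S' ⊤) : Syl 2 (S'.comap f) ⊤ :=
  ⟨le_top, hS.isPGroup.comap_of_ker_isPGroup f hk, fun _ h1 _ h2 => le_antisymm (map_le_iff_le_comap.1 (hS.le_of_le
    ((map_comap_eq_self_of_surjective hf S').ge.trans (map_mono h1)) le_top (h2.map f))) h1⟩

theorem inner_c (hL : IsSimpleGroup L) (hn : ¬ IsMulCommutative L) (hT : Syl 2 T L) (hc : T ≤ 𝐂(T)) (h1 : y ∈ 𝐍(L))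
    (h2 : y ∈ 𝐂(T)) (h3 : Two y) : ∃ s ∈ T, y * s ∈ 𝐂(L) :=
  let ⟨_, hk⟩ := h3
  exists_inner_cent hT (PGrp.isMulCommutative_iff_forall.2 fun x hx _ hy => hc hy x hx)
    (by rw [← map_pPrimeCore_subtype Nat.prime_two, show pPrimeCore 2 L = ⊥ from core_of_simple hn, Subgroup.map_bot]) h1 h2 hk

theorem conj_sub (hL : IsSimpleGroup L) (hn : ¬ IsMulCommutative L) (hT : Syl 2 T L) (g : Gl (T.subgroupOf L)) (ha : a ∈ L)
    (hb : b ∈ L) (h1 : orderOf a = 2) (h2 : orderOf b = 2) : ∃ c ∈ L, c * a * c⁻¹ = b :=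
  let ⟨c, e⟩ := isConj_iff.1 (SCl.one_class hn hT.subgroupOf_top g (x := ⟨a, ha⟩) (y := ⟨b, hb⟩) (by rwa [← orderOf_coe])
    (by rwa [← orderOf_coe]))
  ⟨c, c.2, congrArg Subtype.val e⟩

/-- a simple normal subgroup modulo a normal 2-subgroup of rank at most one -/
structure HC {M : Type u} [Group M] (f : G →* M) (L S : Subgroup M) : Prop where
  u4 : U4 G
  surj : Surjective f
  pk : IsPGroup 2 f.ker
  nk : ¬ Nc f.ker
  nor : L.Normal
  simple : IsSimpleGroup L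
  nc : ¬ IsMulCommutative L
  syl : Syl 2 S ⊤
  four : Nc (S.comap f)

namespace HC
variable {M : Type u} [Group M] [Finite M] {f : G →* M} {L S T U : Subgroup M} {u t : M} (h : HC f L S)
include h

theorem un (hT : Syl 2 T ⊤) (hU : Syl 2 U ⊤) (n : Nc ((T ⊓ U).comap f)) : U = T :=
  comap_injective h.surj (h.u4 _ _ (syl_comap h.surj h.pk hT) (syl_comap h.surj h.pk hU) n)

theorem exists_un (hk : f.ker ≠ ⊥) : ∃ x ∈ S, orderOf x = 2 ∧ Un x := by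
  haveI := fact_two
  obtain ⟨x, hx, h1, h2⟩ : ∃ x ∈ S.comap f, orderOf x = 2 ∧ x ∉ f.ker := by
    obtain ⟨a, ha, b, hb, k⟩ := h.four
    by_contra! e
    exact h.nk ⟨a, e a ha k.ha, b, e b hb k.hb, k⟩
  obtain ⟨z, hz, z2, hc⟩ := BS.exists_two_commute_of_normalizes (even_iff_two_dvd.2 (dvd_card_of_isPGroup_ne_bot h.pk hk))
    (mul_self_of_two h1) (le_normalizer_of_normal (mem_top x))
  exact ⟨f x, hx, two_of_mul_self (by rw [← map_mul, mul_self_of_two h1, map_one]) h2, fun T U hT hU h3 h4 =>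
    h.un hT hU ⟨x, ⟨h3, h4⟩, z, ker_le_comap f _ hz, h1, z2, fun e => h2 (e ▸ hz), hc⟩⟩

theorem cen (hu : u ∈ S) (hu' : u ∈ L) (h2 : orderOf u = 2) (hc : S ≤ 𝐂[u]) (g : M) (hg : g * u * g⁻¹ ∈ S) :
    S ≤ 𝐂[g * u * g⁻¹] := by
  haveI := fact_two
  haveI := h.nor
  haveI := h.simple
  by_contra hv
  have hS := h.syl
  have k : Kl u (g * u * g⁻¹) := ⟨h2, (Layer.orderOf_conj' g u).trans h2, fun e => hv (e.symm ▸ hc), mem_cent.1 (hc hg)⟩
  obtain ⟨T, hT, h3⟩ := exists_syl_ge (H := 𝐂[g * u * g⁻¹]) (hS.isPGroup.to_le inf_le_left) (inf_le_right (a := S))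
  have hT' := (hS.conj_top g).of_contains (cj_centralizer_singleton g u ▸ cj_mono g hc) le_top hT
  have h4 : T ≠ S := fun e => hv (e ▸ hT.le)
  have h5 : ¬ Nc ((S ⊓ 𝐂[g * u * g⁻¹]).comap f) := fun n => h4 (h.un hS hT' (n.mono (comap_mono (le_inf inf_le_left h3))))
  have h6 := klein_of h.surj h.pk (hS.isPGroup.to_le inf_le_left) h5 k ⟨hu, mem_cent.2 k.comm.symm⟩ ⟨hg, mem_cent.2 rfl⟩
    (inf_le_left.trans hc) inf_le_right
  obtain ⟨x, hx, x2, ux⟩ := h.exists_un fun e => h5 (nc_of_map (f := f) (by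
    rw [map_comap_eq_self_of_surjective h.surj, h6]; exact ⟨_, Kl.mem_left _ _, _, Kl.mem_right _ _, k⟩) fun _ _ e' => e.le e')
  have nu : ∀ c, c * u * c⁻¹ ≠ x := fun c e => h4 (((show g * c⁻¹ * x * (g * c⁻¹)⁻¹ = g * u * g⁻¹ by rw [← e]; group) ▸
    ux.conj (g * c⁻¹) : Un (g * u * g⁻¹)) S T hS hT' hg (h3 ⟨hg, mem_cent.2 rfl⟩))
  have kx : Kl x u := ⟨x2, h2, by simpa using nu 1, (mem_cent.1 (hc hx)).symm⟩
  have h7 : ¬ S ≤ 𝐂[x] := fun e => by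
    rcases (k.mem_iff x).1 (h6.le ⟨hx, mem_cent.2 (mem_cent.1 (e hg)).symm⟩) with e' | e' | e' | e'
    exacts [ne_one_of_two x2 e', kx.ne e'.symm, nu g e'.symm, hv fun s hs => mem_cent.2 (by
      have := (mem_cent.1 (hc hs)).mul_right (mem_cent.1 (e hs))
      rwa [e', ← mul_assoc, mul_self_of_two h2, one_mul] at this)]
  have h8 : closure {x, u} = S ⊓ 𝐂[x] := eq_of_le_of_card_ge (Kl.closure_le ⟨hx, mem_cent.2 rfl⟩ ⟨hu, mem_cent.2 kx.comm⟩)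
    (by rw [max2_inv hS.isPGroup hg (h6 ▸ k.card) hv hx x2 h7, kx.card])
  have h9 : Un (x * u) := by
    obtain ⟨n, n1, n2, n3⟩ := exists_mem_normalizer_not_mem hS.isPGroup (inf_le_left (b := 𝐂[x])) fun e => h7 (e ▸ inf_le_right)
    rcases (kx.mem_iff _).1 (h8.ge (conj_mem_norm n3 ⟨hx, mem_cent.2 rfl⟩)) with e | e | e | e
    exacts [absurd (conj_eq_one_iff.1 e) (ne_one_of_two x2), absurd ⟨n1, mem_cent.2 (mul_inv_eq_iff_eq_mul.1 e)⟩ n2,
      absurd (by rw [← e]; group) (nu n⁻¹), e ▸ ux.conj n]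
  have h10 : normalClosure {u} ≤ 𝐂[u] := (closure_le _).2 fun w hw => by
    obtain ⟨_, e', e⟩ := Group.mem_conjugatesOfSet_iff.1 hw
    obtain ⟨c, rfl⟩ := isConj_iff.1 (Set.mem_singleton_iff.1 e' ▸ e)
    have w2 := (Layer.orderOf_conj' c u).trans h2
    obtain ⟨z, z2, z3, z4, -⟩ := exists_central_of_not_isConj (mul_self_of_two w2) (mul_self_of_two x2) fun e => by
      obtain ⟨d, e⟩ := isConj_iff.1 e
      exact nu (d * c) (by rw [← e]; group)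
    rcases (kx.mem_iff _).1 (h8.ge ⟨ux.mem hS hx z2 z4, mem_cent.2 z4⟩) with e | e | e | e
    exacts [absurd e (ne_one_of_two z2), hc (ux.mem hS hx w2 (e ▸ z3.symm)), mem_cent.2 (e ▸ z3.symm),
      hc (h9.mem hS (mul_mem hx hu) w2 (e ▸ z3.symm))]
  have h11 := (Normal.eq_bot_or_eq_top (H := (normalClosure {u}).subgroupOf L) inferInstance).resolve_left fun e =>
    ne_one_of_two h2 (congrArg Subtype.val (e.le (x := ⟨u, hu'⟩) (subset_normalClosure rfl)))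
  exact ne_one_of_two h2 (congrArg Subtype.val ((center_of_simple h.nc).le (x := ⟨u, hu'⟩) (mem_center_iff.2 fun l =>
    Subtype.ext (mem_cent.1 (h10 (h11.ge (mem_top l)))))))

theorem sylL : Syl 2 (S ⊓ L) L := haveI := fact_two; haveI := h.nor; h.syl.inf_normal_top L

theorem ncL : Nc (S ⊓ L) := nc_syl (nc_simple h.simple h.nc) h.sylL

theorem exists_u : ∃ u ∈ S ⊓ L, orderOf u = 2 ∧ S ≤ 𝐂[u] :=
  haveI := h.nor
  exists_cen h.syl.isPGroup inf_le_left (BS.norm_inf le_normalizer le_normalizer_of_normal) fun e =>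
    let ⟨_, ha, _, _, k⟩ := h.ncL; ne_one_of_two k.ha (e.le ha)

theorem gl : Gl ((S ⊓ L).subgroupOf L) := by
  haveI := h.simple
  obtain ⟨u, h1, h2, h3⟩ := h.exists_u
  exact gl_of_cen h.sylL.subgroupOf_top (u := ⟨u, h1.2⟩) h1 (fun e => ne_one_of_two h2 (congrArg Subtype.val e))
    fun g hg s hs => mem_cent.2 (Subtype.ext (mem_cent.1 (h.cen h1.1 h1.2 h2 h3 g hg.1 hs.1)))

theorem conj (hu : u ∈ L) (ht : t ∈ L) (h1 : orderOf u = 2) (h2 : orderOf t = 2) : ∃ c ∈ L, c * u * c⁻¹ = t :=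
  conj_sub h.simple h.nc h.sylL h.gl hu ht h1 h2

theorem cen_all (ht : t ∈ S ⊓ L) (h2 : orderOf t = 2) : S ≤ 𝐂[t] := by
  obtain ⟨u, h1, h3, h4⟩ := h.exists_u
  obtain ⟨c, -, rfl⟩ := h.conj h1.2 ht.2 h3 h2
  exact h.cen h1.1 h1.2 h3 h4 c ht.1

theorem inn : S ≤ L ⊔ 𝐂(L) := by
  haveI := h.nor
  by_cases n : Nc ((S ⊓ L).comap f)
  · refine inner h.simple h.nc h.syl (fun g hg => cj_eq_self_iff.1 (h.un h.syl (h.syl.conj_top g) (n.mono (comap_mono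
      (le_inf inf_le_left ((cj_eq_self_iff.2 hg.2).ge.trans (cj_mono g inf_le_left))))))) h.gl
  obtain ⟨a, ha, b, hb, k⟩ := h.ncL
  have h1 := h.cen_all ha k.ha
  have h2 := h.cen_all hb k.hb
  have h3 : S ≤ 𝐂(S ⊓ L) := fun s hs => by
    rw [klein_of h.surj h.pk h.sylL.isPGroup n k ha hb (inf_le_left.trans h1) (inf_le_left.trans h2)]
    exact k.mem_cent_iff.2 ⟨mem_cent.1 (h1 hs), mem_cent.1 (h2 hs)⟩
  intro y hy
  obtain ⟨s, hs, e⟩ := inner_c h.simple h.nc h.sylL (inf_le_left.trans h3) (le_normalizer_of_normal (mem_top y)) (h3 hy)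
    (Two.of_mem h.syl.isPGroup hy)
  simpa using mul_mem (mem_sup_right e) (mem_sup_left (inv_mem hs.2))

theorem le (hC : S ⊓ 𝐂(L) = ⊥) : S ≤ L := by
  haveI := fact_two
  haveI := h.nor
  have := (h.syl.of_le h.inn le_top).sup_of_normal le_normalizer_of_normal le_normalizer_of_normal
  rw [hC, sup_bot_eq] at this
  exact this.le.trans inf_le_right

theorem cyc (hS : S ≤ L) (hT : Syl 2 T ⊤) (hne : T ≠ S) (n : ¬ Nc (S ⊓ T)) : IsCyclic ↥(S ⊓ T) := by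
  haveI := fact_two
  haveI := h.nor
  haveI := h.simple
  have h1 := h.gl
  rw [inf_eq_left.2 hS] at h1
  rcases h1 with g | ⟨H, hH⟩
  · refine (cyc_quat (h.syl.isPGroup.to_le inf_le_left) n).resolve_right fun ⟨a, x, m, q⟩ => quat_nc q 0 ?_
    simpa [Commute, SemiconjBy] using
      congrArg Subtype.val (PGrp.isMulCommutative_iff_forall.1 g ⟨x, hS q.x_mem.1⟩ q.x_mem.1 ⟨a, hS q.a_mem.1⟩ q.a_mem.1)
  obtain ⟨Q, t, r, r2, -⟩ := ro_of_se hH (core_of_simple h.nc)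
  obtain ⟨g, -, rfl⟩ := h.syl.exists_conj hT
  have h2 : cj g S ≤ L := (cj_mono g hS).trans (cj_eq_self_iff.2 (le_normalizer_of_normal (mem_top g))).le
  suffices e : S ⊓ cj g S = ⊥ by rw [e]; infer_instance
  by_contra e
  obtain ⟨s, hs, s1⟩ := (bot_or_exists_ne_one _).resolve_left e
  have h3 := SF.ti_of_ro r (Gsm.ro_syl r r2).isPGroup (S.subgroupOf L) ((cj g S).subgroupOf L) h.syl.isPGroup.comap_subtype
    hT.isPGroup.comap_subtype fun e => s1 (congrArg Subtype.val (e.le (x := ⟨s, hS hs.1⟩) hs))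
  exact hne (hT.eq_of_le S (fun y hy => (h.syl.of_le hS le_top).subgroupOf_top.le_of_le le_sup_left le_top h3
    (mem_sup_right (x := ⟨y, h2 hy⟩) hy)) le_top h.syl.isPGroup).symm

theorem un_all (hS : S ≤ L) (hk : f.ker ≠ ⊥) (ht : t ∈ S) (h2 : orderOf t = 2) : Un t := by
  obtain ⟨x, hx, h3, h4⟩ := h.exists_un hk
  obtain ⟨c, -, rfl⟩ := h.conj (hS hx) (hS ht) h3 h2
  exact h4.conj c

theorem bl (hS : S ≤ L) (hk : f.ker ≠ ⊥) : BL L :=
  haveI := h.simple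
  bl_of_se (se_of_un h.nc (h.syl.of_le hS le_top).subgroupOf_top fun _ ht h2 =>
    (h.un_all hS hk ht ((orderOf_coe _).trans h2)).sub)

end HC

end Cfsg.Lib.JTW
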