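import Cfsg.Agent.Lib.JTW.Herz3

/-! Groups with small Sylow 2-intersections (Herzog), IV: one component. -/

set_option autoImplicit false
set_option linter.unusedSectionVars false
set_option linter.style.haveILetI false

namespace Cfsg.Lib.JTW
open Subgroup Cfsg.Lib.Core Cfsg.Lib.BG1 Cfsg.Lib.Invol Cfsg.Lib.Layer Cfsg.Lib.Gold Cfsg.Lib.Linear Function
open Cfsg.Lib.Amalg hiding le_cent_symm op_top
open Cfsg.Lib.GW hiding Ctx
open Cfsg.Lib.Block (QuatData UniqInv)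
open scoped Cfsg.Lib.Wal

universe u

variable {G : Type u} [Group G] [Finite G] {G' : Type*} [Group G'] [Finite G'] {S T L R X K Q : Subgroup G}
  {u a b c x y z w t : G} {f : G →* G'} {n : ℕ}

theorem cent_lift (hK : ⁅K, K⁆ = K) (hP : K ≤ 𝐂(f.ker)) (hw : f w ∈ 𝐂(K.map f)) : w ∈ 𝐂(K) :=
  zpowers_le.1 (comm_eq_bot_iff'.1 (commutator_eq_bot_of_perfect hK (comm_eq_bot_iff'.2 (hP.trans (centralizer_le
    (commutator_le.2 fun a ha l hl => (map_commutatorElement f a l).trans (commutatorElement_eq_one_iff_mul_comm.2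
      ((zpowers_le (H := comap f 𝐂(K.map f))).2 hw ha _ (mem_map_of_mem f hl)).symm)))))))

theorem simple_map (hK : IsQuasisimple K) (h1 : K ⊓ 𝐂(K) ≤ f.ker) (h2 : K ≤ 𝐂(f.ker)) :
    IsSimpleGroup (K.map f) ∧ ¬ IsMulCommutative (K.map f) := by
  have h3 := IsQuasisimple.map hK f fun e => IsQuasisimple.not_le_centralizer hK
    (h2.trans (centralizer_le ((Subgroup.map_eq_bot_iff K).1 e)))
  refine ⟨IsQuasisimple.isSimpleGroup h3 (eq_bot_iff.2 fun ⟨_, k, hk, rfl⟩ e => Subtype.ext (h1 ⟨hk,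
    cent_lift (IsQuasisimple.commutator_self hK) h2 ((mem_center_subgroup_iff _).1 e)⟩)), IsQuasisimple.not_isMulCommutative h3⟩

theorem sq_one (hX : IsPGroup 2 X) (h : ∀ c ∈ X, orderOf (c * c) ≠ 2) (hx : x ∈ X) : x * x = 1 := by
  obtain ⟨k, hk⟩ := Two.of_mem hX hx
  induction k generalizing x with
  | zero => rw [pow_zero, pow_one] at hk; rw [hk, one_mul]
  | succ k ih => exact by_contra fun e => h x hx (two_of_mul_self (ih (mul_mem hx hx) (by rw [← sq, ← pow_mul, ← pow_succ', hk])) e)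

theorem sq_mul (hc : Commute a b) (h1 : a * a = z) (h2 : b * b = z) (hz : orderOf z = 2) : a * b * (a * b) = 1 := by
  rw [hc.symm.mul_mul_mul_comm, h1, h2, mul_self_of_two hz]

theorem kl_four (hz : orderOf (a * a) = 2) (h1 : b * b = a * a) (hc : Commute a b) (ha : a ∈ X) (hb : b ∉ X) :
    Kl (a * a) (a * b) :=
  ⟨hz, two_of_mul_self (sq_mul hc rfl h1 hz) fun e => hb (eq_inv_of_mul_eq_one_right e ▸ inv_mem ha),
    fun e => hb (mul_left_cancel e ▸ ha), ((Commute.refl a).mul_left hc.symm).mul_right ((Commute.refl a).mul_left hc.symm)⟩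

/-- `S` contains an elementary abelian group of order eight -/
def E8 (S : Subgroup G) : Prop := ∃ a ∈ S, ∃ b ∈ S, ∃ c ∈ S, Kl a b ∧ Kl c a ∧ Kl c b ∧ Kl c (a * b)

theorem e8_of (ha : a ∈ S) (hb : b ∈ S) (hc : c ∈ S) (hz : orderOf c = 2) (h0 : f c = 1) (h1 : a * a = 1) (h2 : b * b = 1)
    (h3 : a * b * (a * b) = 1) (c1 : Commute a c) (c2 : Commute b c) (k : Kl (f a) (f b)) : E8 S := by
  have e : ∀ {x}, x * x = 1 → orderOf (f x) = 2 → Commute x c → Kl c x := fun h4 h5 h6 =>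
    ⟨hz, two_of_mul_self h4 fun e => ne_one_of_two h5 (by rw [e, map_one]), fun e => ne_one_of_two h5 (by rw [e, h0]), h6⟩
  have k1 := e h1 k.ha c1
  have k2 := e h2 k.hb c2
  exact ⟨a, ha, b, hb, c, hc, ⟨k1.hb, k2.hb, fun e => k.ne (by rw [e]), by
    have := eq_inv_of_mul_eq_one_left h3
    rwa [mul_inv_rev, inv_of_two k1.hb, inv_of_two k2.hb, eq_comm] at this⟩, k1, k2, e h3 (map_mul f a b ▸ k.hab) (c1.mul_left c2)⟩

theorem E8.of_map (h : E8 (S.map f)) (e : ∀ x ∈ S, f x = 1 → x = 1) : E8 S :=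
  let ⟨_, ⟨a, ha, rfl⟩, _, ⟨b, hb, rfl⟩, _, ⟨c, hc, rfl⟩, k1, k2, k3, k4⟩ := h
  ⟨a, ha, b, hb, c, hc, kl_of_map ha hb k1 e, kl_of_map hc ha k2 e, kl_of_map hc hb k3 e,
    kl_of_map hc (mul_mem ha hb) (map_mul f a b ▸ k4) e⟩

theorem U4.odd_le (h : U4 G) (hS : Syl 2 S ⊤) (e : E8 S) [X.Normal] (ho : Odd (Nat.card X)) : X ≤ 𝐍(S) := by
  obtain ⟨a, ha, b, hb, c, hc, k1, k2, k3, k4⟩ := e
  have h1 : ∀ {v w}, v ∈ S → w ∈ S → Kl v w → X ⊓ 𝐂[v] ⊓ 𝐂[w] ≤ 𝐍(S) := fun hv hw k _ hx =>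
    h.norm hS (Kl.closure_le hv hw) ⟨_, Kl.mem_left _ _, _, Kl.mem_right _ _, k⟩
      (centralizer_le_normalizer _ (k.mem_cent_iff.2 ⟨mem_cent.1 hx.1.2, mem_cent.1 hx.2⟩))
  have h2 : ∀ {v w}, Commute w v → w ∈ 𝐍(X ⊓ 𝐂[v]) := fun {v w} e => zpowers_le.1
    (BS.norm_inf le_normalizer_of_normal (zpowers_le.2 (le_normalizer (mem_cent.2 e))))
  have h3 : ∀ {a b}, a ∈ S → b ∈ S → Kl a b → Kl c a → Kl c b → Kl c (a * b) → X ⊓ 𝐂[a] ≤ 𝐍(S) := fun ha hb k1 k2 k3 k4 =>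
    k3.gen (ho.of_dvd_nat (card_dvd_of_le inf_le_left)) (h2 k2.comm.symm) (h2 k1.comm) (h1 ha hc k2.symm) (h1 ha hb k1)
      (h1 ha (mul_mem hc hb) ⟨k1.ha, k3.hab, fun e => k4.ne (by rw [← e, mul_assoc, mul_self_of_two k1.hb, mul_one]),
        k2.comm.symm.mul_left k1.comm⟩)
  exact k1.gen ho (le_normalizer_of_normal (mem_top a)) (le_normalizer_of_normal (mem_top b)) (h3 ha hb k1 k2 k3 k4)
    (h3 hb ha k1.symm k3 k2 (k1.comm.eq ▸ k4))
    (h3 (mul_mem ha hb) hb k1.mul'.symm k4 k3 (by rwa [mul_assoc, mul_self_of_two k1.hb, mul_one]))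

section
variable (hO : pPrimeCore 2 G = ⊥) (hK : IsComponent K)
include hK

theorem comp_cent : K ≤ 𝐂(pCore 2 G) := haveI := fact_two; (IsComponent.le_layer hK).trans layer_le_centralizer_pCore

theorem comp_comm (hx : x ∈ K) (hy : y ∈ pCore 2 G) : Commute x y := mem_centS.1 (comp_cent hK hx) y hy

include hO

theorem comp_cen_le : K ⊓ 𝐂(K) ≤ pCore 2 G := by
  haveI := fact_two
  rw [← Layer.map_subtype_center]
  exact (map_mono center_le_fit).trans ((fitOf_le_of_isSubnormal hK.1).trans (fit_eq_pCore hO).le)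

theorem comp_simple (hf : f.ker = pCore 2 G) : IsSimpleGroup (K.map f) ∧ ¬ IsMulCommutative (K.map f) :=
  simple_map hK.2 (hf ▸ comp_cen_le hO hK) (hf ▸ comp_cent hK)

theorem comp_nc (hf : f.ker = pCore 2 G) (hQ : Syl 2 Q K) : Nc (Q.map f) :=
  haveI := fact_two; nc_syl (nc_simple (comp_simple hO hK hf).1 (comp_simple hO hK hf).2) (hQ.map f)

theorem inv_mem_P (n : ¬ Nc K) (ht : t ∈ K) (h2 : orderOf t = 2) : t ∈ pCore 2 G :=
  comp_cen_le hO hK ⟨ht, (mem_center_subgroup_iff ⟨t, ht⟩).1 (central_of_uniqInv (uniq_of n) (pPrimeCoreOf_eq_bot_iff.1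
    (eq_bot_iff.2 (hO ▸ pPrimeCoreOf_le_pPrimeCore_of_isSubnormal hK.1))) (by rwa [← orderOf_coe]))⟩

theorem sq_two (n : ¬ Nc K) (hx : x ∈ K) (h1 : x ∉ pCore 2 G) (h2 : x * x ∈ pCore 2 G) : orderOf (x * x) = 2 := by
  obtain ⟨Q, hQ, e⟩ := exists_syl_ge (Two.of_mem (isPGroup_pCore 2 G) h2).isPGroup (zpowers_le.2 (mul_mem hx hx))
  obtain ⟨a, y, m, q⟩ := (cyc_quat hQ.isPGroup fun e => n (e.mono hQ.le)).resolve_left fun _ =>
    (comp_nc hO hK (QuotientGroup.ker_mk' _) hQ).not_cyclic (isCyclic_of_surjective _ (MonoidHom.subgroupMap_surjective _ Q))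
  exact two_of_mul_self (quat_cen q (e (mem_zpowers _)) fun y hy => mem_cent.2 (comp_comm hK (hQ.le hy) h2)) fun e =>
    h1 (inv_mem_P hO hK n hx (two_of_mul_self e fun e => h1 (e ▸ one_mem _)))

theorem exists_four (hQ : Syl 2 Q K) : ∃ x ∈ Q, x ∉ pCore 2 G ∧ x * x ∈ pCore 2 G :=
  let ⟨_, ⟨x, hx, rfl⟩, _, _, k⟩ := comp_nc hO hK (QuotientGroup.ker_mk' _) hQ
  ⟨x, hx, fun e => ne_one_of_two k.ha ((QuotientGroup.eq_one_iff x).2 e),
    (QuotientGroup.eq_one_iff _).1 (mul_self_of_two k.ha)⟩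

theorem P_le (nP : ¬ Nc (pCore 2 G)) (n : ¬ Nc K) (hQ : Syl 2 Q K)
    (h : ∀ x ∈ Q, ∀ c ∈ pCore 2 G, x * x ∈ pCore 2 G → ¬ Kl (c * c) (c * x)) :
    ∃ z ∈ K, orderOf z = 2 ∧ pCore 2 G = zpowers z := by
  obtain ⟨x, hx, h1, h2⟩ := exists_four hO hK hQ
  have h3 := sq_two hO hK n (hQ.le hx) h1 h2
  have h4 := eq_of_not_nc (isPGroup_pCore 2 G) nP
  refine ⟨_, hQ.le (mul_mem hx hx), h3, le_antisymm (fun p hp => ?_) (zpowers_le.2 h2)⟩
  by_cases e : p = 1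
  · exact e ▸ one_mem _
  exact h4 _ h2 p hp h3 (two_of_mul_self (sq_one (isPGroup_pCore 2 G) (fun c hc e => h x hx c hc h2
    (kl_four e (h4 _ h2 _ (mul_mem hc hc) h3 e) (comp_comm hK (hQ.le hx) hc).symm hc h1)) hp) e) ▸ mem_zpowers _

variable (h : U4 G) (hE : layer G = K) (hS : Syl 2 S ⊤)
include h hE hS

theorem cent_le_P : S ⊓ 𝐂(K) ≤ pCore 2 G := by
  haveI := fact_two
  haveI : K.Normal := hE ▸ layer_normal
  have hQ := hS.inf_normal_top K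
  by_cases n : Nc (S ⊓ K ⊔ pCore 2 G)
  · exact (le_pCoreOf inf_le_right (BS.norm_inf ((BS.norm_sup ((centralizer_le inf_le_right).trans (centralizer_le_normalizer _))
      le_normalizer_of_normal).trans (h.norm hS (sup_le inf_le_left hS.pCore_le) n)) le_normalizer)
      (hS.isPGroup.to_le inf_le_left)).trans (map_subtype_pCore_le _)
  obtain ⟨z, hz, -, e⟩ := P_le hO hK (fun e => n (e.mono le_sup_right)) (fun e => n ((nc_syl e hQ).mono le_sup_left)) hQ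
    fun x hx c hc _ k => n ⟨_, mem_sup_right (mul_mem hc hc), _, mul_mem (mem_sup_right hc) (mem_sup_left hx), k⟩
  have h1 := centralizer_fstar_le_fit (G := G)
  rw [fstar_eq_of_pPrimeCore_eq_bot hO, hE, sup_eq_left.2 (e.le.trans (zpowers_le.2 hz)), fit_eq_pCore hO] at h1
  exact inf_le_right.trans h1

theorem hc_of {M : Type u} [Group M] [Finite M] {f : G →* M} (hf : Surjective f) (hk : f.ker = pCore 2 G) (n : Nc S) :
    HC f (K.map f) (S.map f) ∧ S.map f ≤ K.map f := by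
  haveI := fact_two
  haveI : K.Normal := hE ▸ layer_normal
  have c : HC f (K.map f) (S.map f) := ⟨h, hf, hk ▸ isPGroup_pCore 2 G, hk ▸ h.not_nc hK.2 (comp_cent hK), Normal.map ‹_› f hf,
    (comp_simple hO hK hk).1, (comp_simple hO hK hk).2, hS.map_top hf, n.mono (le_comap_map f S)⟩
  exact ⟨c, c.le (eq_bot_iff.2 fun _ ⟨⟨y, hy, e⟩, e'⟩ => e ▸ hk.ge (cent_le_P hO hK h hE hS
    ⟨hy, cent_lift (IsComponent.commutator_self hK) (hk ▸ comp_cent hK) (e ▸ e')⟩))⟩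

theorem one_comp (n : Nc S) (hT : Syl 2 T ⊤) (hne : T ≠ S) (hc : ¬ IsCyclic ↥(S ⊓ T)) :
    ∃ L : Subgroup (G ⧸ pCore 2 G), L.Normal ∧ Odd L.index ∧ BL L ∧ (∃ a x n, QuatData (pCore 2 G) a x (2 ^ (n + 1))) ∧ E8 S := by
  haveI := fact_two
  haveI : K.Normal := hE ▸ layer_normal
  have h0 : pCore 2 G ≠ ⊥ := fun e => by
    obtain ⟨c, h1⟩ := hc_of hO hK h hE hS (f := MonoidHom.id G) surjective_id (e ▸ MonoidHom.ker_id) n
    simp only [map_id] at c h1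
    exact hc (c.cyc h1 hT hne fun e => hne (h S T hS hT e))
  have hf := QuotientGroup.mk'_surjective (pCore 2 G)
  have hk := QuotientGroup.ker_mk' (pCore 2 G)
  generalize QuotientGroup.mk' (pCore 2 G) = f at hf hk
  obtain ⟨c, h1⟩ := hc_of hO hK h hE hS hf hk n
  have h2 : S ⊓ T ≤ pCore 2 G := by
    rw [← hk, ← Subgroup.map_eq_bot_iff]
    by_contra e
    obtain ⟨t, ht, t2⟩ := exists_two_mem_of_even (even_iff_two_dvd.2 (dvd_card_of_isPGroup_ne_bot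
      ((hS.isPGroup.to_le inf_le_left).map f) e))
    have h3 := map_inf_le _ _ f ht
    have h4 := congrArg (comap f) (c.un_all h1 (fun e => h0 (hk.symm.trans e)) h3.1 t2 _ _ c.syl (hT.map_top hf) h3.1 h3.2)
    rw [comap_map_eq_self (hk.le.trans hS.pCore_le), comap_map_eq_self (hk.le.trans hT.pCore_le)] at h4
    exact hne h4
  obtain ⟨a, x, m, q⟩ := (cyc_quat (isPGroup_pCore 2 G) (hk ▸ c.nk)).resolve_left fun _ => hc (isCyclic_of_le h2)
  refine ⟨_, c.nor, odd_index c.syl h1, c.bl h1 (fun e => h0 (hk.symm.trans e)), ⟨a, x, m, q⟩, ?_⟩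
  have h3 : ∀ w ∈ K, w ∈ pCore 2 G → w * w = 1 := fun w h4 h5 =>
    quat_cen q h5 fun p hp => mem_cent.2 (comp_comm hK h4 hp).symm
  have h4 : ∀ k, orderOf (f k) = 2 → k * k ∈ pCore 2 G := fun k e => hk.le (by
    rw [MonoidHom.mem_ker, map_mul, mul_self_of_two e])
  have h5 : ∀ k ∈ K, ∀ l ∈ K, orderOf (f k) = 2 → orderOf (f l) = 2 → l * l = k * k := fun k hk' l hl e1 e2 => by
    obtain ⟨_, ⟨g, hg, rfl⟩, e⟩ := c.conj (mem_map_of_mem f hk') (mem_map_of_mem f hl) e1 e2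
    have h6 : g * k * g⁻¹ ∈ K := mul_mem (mul_mem hg hk') (inv_mem hg)
    have h7 : (g * k * g⁻¹)⁻¹ * l ∈ pCore 2 G := hk.le (by simp [MonoidHom.mem_ker, ← e, mul_assoc])
    rw [← mul_inv_cancel_left (g * k * g⁻¹) l, (comp_comm hK h6 h7).symm.mul_mul_mul_comm, h3 _ (mul_mem (inv_mem h6) hl) h7,
      mul_one, conj_mul, conj_of_comm (comp_comm hK hg (h4 k e1))]
  obtain ⟨_, ⟨k, hk1, rfl⟩, _, ⟨l, hl, rfl⟩, kl⟩ := comp_nc hO hK hk (hS.inf_normal_top K)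
  have h6 := h5 k hk1.2 l hl.2 kl.ha kl.hb
  have h7 := h5 k hk1.2 _ (mul_mem hk1.2 hl.2) kl.ha (map_mul f k l ▸ kl.hab)
  have z2 := q.orderOf_z (by positivity)
  have zP := pow_mem q.a_mem (2 ^ (m + 1))
  by_cases e : k * k = 1
  · exact e8_of hk1.1 hl.1 (hS.pCore_le zP) z2 (hk.ge zP) e (h6.trans e) (h7.trans e) (comp_comm hK hk1.2 zP)
      (comp_comm hK hl.2 zP) kl
  have h8 := q.eq_z (by positivity) (h4 k kl.ha) (two_of_mul_self (h3 _ (mul_mem hk1.2 hk1.2) (h4 k kl.ha)) e)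
  have dP := pow_mem q.a_mem (2 ^ m)
  refine e8_of (mul_mem (hS.pCore_le q.x_mem) hk1.1) (mul_mem (hS.pCore_le dP) hl.1) (hS.pCore_le zP) z2 (hk.ge zP)
    (sq_mul (comp_comm hK hk1.2 q.x_mem).symm q.sq h8 z2)
    (sq_mul (comp_comm hK hl.2 dP).symm (by rw [← pow_add, ← two_mul, pow_succ']) (h6.trans h8) z2) ?_
    ((q.commute_z q.x_mem).mul_left (comp_comm hK hk1.2 zP)) ((q.commute_z dP).mul_left (comp_comm hK hl.2 zP))
    (by rwa [map_mul, map_mul, hk.ge q.x_mem, hk.ge dP, one_mul, one_mul])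
  rw [(comp_comm hK hk1.2 dP).mul_mul_mul_comm]
  exact sq_mul (comp_comm hK (mul_mem hk1.2 hl.2) (mul_mem q.x_mem dP)).symm
    (by simpa only [zpow_natCast] using q.refl_mul_self (2 ^ m : ℕ)) (h7.trans h8) z2

end

end Cfsg.Lib.JTW
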