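import Cfsg.Agent.Lib.JTW.Herz4
import Cfsg.Agent.Lib.Amalg.Inv3
import Cfsg.Agent.Lib.SF.GStr1

/-! Groups with small Sylow 2-intersections (Herzog), V: two components. -/

set_option autoImplicit false
set_option linter.unusedSectionVars false
set_option linter.style.haveILetI false

namespace Cfsg.Lib.JTW
open Subgroup Cfsg.Lib.Core Cfsg.Lib.BG1 Cfsg.Lib.Invol Cfsg.Lib.Layer Cfsg.Lib.Gold Cfsg.Lib.Linear Function
open Cfsg.Lib.Amalg hiding le_cent_symm op_top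
open Cfsg.Lib.GW hiding Ctx
open Cfsg.Lib.Block (QuatData UniqInv)
open Cfsg.Lib.Known (SL2)
open scoped Cfsg.Lib.Wal

universe u

variable {G : Type u} [Group G] [Finite G] {G' : Type*} [Group G'] [Finite G'] {S T L R X K Q N : Subgroup G}
  {u a b c x y z w t : G} {n : ℕ}

instance : Fact (Nat.Prime 5) := ⟨by decide⟩

theorem sl25 [IsSimpleGroup G] (hn : ¬ IsMulCommutative G) {f : G' →* G} (hf : Surjective f) (hk : Nat.card f.ker = 2)
    (hX : No2 G') (n : ¬ Nc (⊤ : Subgroup G')) (h : ∀ t : G, orderOf t = 2 → Un t) :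
    (∀ T : Subgroup G, Syl 2 T ⊤ → ∃ a b, Kl a b ∧ T = Subgroup.closure {a, b}) ∧ Nonempty (G' ≃* SL2 (ZMod 5)) := by
  haveI := fact_two
  have h1 : ∀ T : Subgroup G, Syl 2 T ⊤ → (∃ t, BS.RO 𝐍(T) T t) ∧ ∃ a b, Kl a b ∧ T = Subgroup.closure {a, b} := fun T hT => by
    obtain ⟨Q, t, r, r2, -⟩ := ro_of_se (se_of_un hn hT fun t _ => h t) (core_of_simple hn)
    obtain rfl := (SCl.ro_syl' r r2).eq_of_le T (hT.le_of_le_normalizer' (SCl.ro_syl' r r2).isPGroup le_top r.le) le_top hT.isPGroup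
    obtain ⟨a, ha, b, hb, a2, b2, e, c⟩ := r.r2_Q r2
    exact ⟨⟨t, r⟩, a, b, ⟨a2, b2, e.symm, c.symm⟩, klein_of hf (IsPGroup.of_card (n := 1) hk) hT.isPGroup (fun e => n (e.mono le_top))
      ⟨a2, b2, e.symm, c.symm⟩ ha hb (fun y hy => mem_cent.2 (r.commute_two r2 a2 (r.le ha) hy).symm)
      fun y hy => mem_cent.2 (r.commute_two r2 b2 (r.le hb) hy).symm⟩
  obtain ⟨T, hT⟩ := exists_syl 2 (⊤ : Subgroup G)
  obtain ⟨⟨t, r⟩, a, b, k, rfl⟩ := h1 T hT
  obtain ⟨-, -, F, _, _, h2, -, ⟨e⟩⟩ := psl_of_comm r k.isComm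
  exact ⟨fun T hT => (h1 T hT).2, sl2_of_cover (by decide) hX hf hk (e.trans ((psl2_four_equiv (Nat.card_eq_fintype_card.trans
    (h2.trans k.card))).some.trans (psl2_five_equiv (Nat.card_zmod 5)).some.symm))⟩

/-- two distinct components -/
structure TC (K L : Subgroup G) : Prop where
  u4 : U4 G
  core : pPrimeCore 2 G = ⊥
  c1 : IsComponent K
  c2 : IsComponent L
  ne : K ≠ L

namespace TC
variable (h : TC K L)
include h

theorem symm : TC L K := ⟨h.u4, h.core, h.c2, h.c1, h.ne.symm⟩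

theorem cent : K ≤ 𝐂(L) := comm_eq_bot_iff.1 (IsComponent.commutator_eq_bot_of_ne h.c1 h.c2 h.ne)

theorem comm (ha : a ∈ K) (hb : b ∈ L) : Commute a b := mem_centS.1 (h.cent ha) b hb

theorem nK : ¬ Nc K := h.u4.not_nc h.c2.2 h.symm.cent

theorem nP : ¬ Nc (pCore 2 G) := h.u4.not_nc h.c1.2 (comp_cent h.c1)

theorem exists_z : ∃ z ∈ K, orderOf z = 2 ∧ pCore 2 G = zpowers z :=
  let ⟨_, hQ⟩ := exists_syl 2 K
  P_le h.core h.c1 h.nP h.nK hQ fun _ hx _ hc _ k => h.u4.not_cent h.c2.2 k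
    (fun _ hl => mem_cent.2 (comp_comm h.c2 hl (mul_mem hc hc)))
    fun _ hl => mem_cent.2 ((comp_comm h.c2 hl hc).mul_right (h.symm.comm hl (hQ.le hx)))

theorem P_le : pCore 2 G ≤ K := let ⟨_, h1, _, e⟩ := h.exists_z; e.le.trans (zpowers_le.2 h1)

theorem kl (ha : a ∈ K) (a1 : a ∉ pCore 2 G) (a2 : a * a ∈ pCore 2 G) (hb : b ∈ L) (b1 : b ∉ pCore 2 G)
    (b2 : b * b ∈ pCore 2 G) : Kl (a * a) (a * b) :=
  have h1 := sq_two h.core h.c1 h.nK ha a1 a2
  kl_four h1 (eq_of_not_nc (isPGroup_pCore 2 G) h.nP _ b2 _ a2 (sq_two h.core h.c2 h.symm.nK hb b1 b2) h1) (h.comm ha hb) ha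
    fun e => b1 (comp_cen_le h.core h.c2 ⟨hb, h.cent e⟩)

theorem nc (hS : Syl 2 S ⊤) : Nc (S ⊓ K ⊔ S ⊓ L) :=
  haveI := fact_two
  let ⟨_, ha, a1, a2⟩ := exists_four h.core h.c1 (hS.inf_subnormal_top h.c1.1)
  let ⟨_, hb, b1, b2⟩ := exists_four h.core h.c2 (hS.inf_subnormal_top h.c2.1)
  ⟨_, mem_sup_left (mul_mem ha ha), _, mul_mem (mem_sup_left ha) (mem_sup_right hb), h.kl ha.2 a1 a2 hb.2 b1 b2⟩

theorem eq_or (hN : IsComponent N) : N = K ∨ N = L := by
  by_contra! e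
  obtain ⟨S, hS⟩ := exists_syl 2 (⊤ : Subgroup G)
  refine h.u4.not_nc hN.2 (le_centralizer_iff.1 (sup_le ?_ ?_)) (h.nc hS) <;> refine inf_le_right.trans ?_
  exacts [(TC.mk h.u4 h.core h.c1 hN e.1.symm).cent, (TC.mk h.u4 h.core h.c2 hN e.2.symm).cent]

theorem layer_eq : layer G = K ⊔ L := le_antisymm
  (layer_le fun _ hN => (h.eq_or hN).elim (fun e => e.le.trans le_sup_left) fun e => e.le.trans le_sup_right)
  (sup_le (IsComponent.le_layer h.c1) (IsComponent.le_layer h.c2))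

theorem swap (g : G) (e : g ∉ 𝐍(K)) : cj g K = L ∧ cj g L = K :=
  have h1 := (h.eq_or (IsComponent.conj h.c1 g)).resolve_left (mt cj_eq_self_iff.1 e)
  ⟨h1, (h.eq_or (IsComponent.conj h.c2 g)).resolve_right fun e' => h.ne (cj_inj.1 (h1.trans e'.symm))⟩

theorem norm : 𝐍(K) ≤ 𝐍(L) := fun g hg => by_contra fun e => h.ne ((cj_eq_self_iff.2 hg).symm.trans (h.symm.swap g e).2)

theorem index_dvd : (𝐍(K)).index ∣ 2 := index_dvd_two_iff.2 (by
  by_cases e : ∀ g, g ∈ 𝐍(K)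
  · exact ⟨1, fun b => Or.inr (e b)⟩
  obtain ⟨a, ha⟩ := not_forall.1 e
  exact ⟨a, fun b => or_iff_not_imp_right.2 fun hb => cj_eq_self_iff.1 (by rw [cj_mul, (h.swap a ha).1, (h.swap b hb).2])⟩)

variable {M : Type u} [Group M] [Finite M] {f : G →* M} (hk : f.ker = pCore 2 G)
include hk

theorem un (t : K.map f) (h2 : orderOf t = 2) : Un t := fun S T hS hT h3 h4 => by
  obtain ⟨_, a, ha, rfl⟩ := t
  obtain ⟨Q, hQ⟩ := exists_syl 2 L
  obtain ⟨b, hb, b1, b2⟩ := exists_four h.core h.c2 hQ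
  have k := h.kl ha (fun e => ne_one_of_two h2 (Subtype.ext (hk.ge e)))
    (hk.le ((map_mul f a a).trans (congrArg Subtype.val (mul_self_of_two h2)))) (hQ.le hb) b1 b2
  have h5 : ∀ {S : Subgroup (K.map f)}, Syl 2 S ⊤ → ⟨f a, a, ha, rfl⟩ ∈ S → IsPGroup 2 ↥((S.map (K.map f).subtype).comap f ⊔ zpowers b) ∧
      closure {a * a, a * b} ≤ (S.map (K.map f).subtype).comap f ⊔ zpowers b := fun {S} hS e => by
    obtain ⟨n, hn⟩ := Two.of_mem hQ.isPGroup hb
    have e' : a ∈ _ ⊔ zpowers b := mem_sup_left (mem_comap.2 (mem_map_of_mem (K.map f).subtype e))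
    refine ⟨isPGroup_sup_zpowers ((hS.isPGroup.map _).comap_of_ker_isPGroup f (hk ▸ isPGroup_pCore 2 G)) hn
      (centralizer_le_normalizer _ (centralizer_le ((comap_mono (map_subtype_le S)).trans ?_) (h.symm.cent (hQ.le hb)))),
      Kl.closure_le (mul_mem e' e') (mul_mem e' (mem_sup_right (mem_zpowers b)))⟩
    rw [comap_map_eq_self (hk.le.trans h.P_le)]
  obtain ⟨U, hU, e⟩ := exists_syl_ge (h5 hS h3).1 le_top
  have e' := h.u4.le hU (h5 hT h4).1 (Nc.mono ⟨_, Kl.mem_left _ _, _, Kl.mem_right _ _, k⟩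
    (le_inf ((h5 hS h3).2.trans e) (h5 hT h4).2))
  have h6 : ∀ {S : Subgroup (K.map f)}, Syl 2 S ⊤ → (S.map (K.map f).subtype).comap f ⊔ zpowers b ≤ U →
      (U.map f).subgroupOf (K.map f) = S := fun hS e => hS.eq_of_le _ (fun ⟨_, y, hy, rfl⟩ hx =>
    mem_map_of_mem f (e (mem_sup_left (mem_comap.2 (mem_map_of_mem (K.map f).subtype hx))))) le_top (hU.isPGroup.map f).comap_subtype
  exact (h6 hT e').symm.trans (h6 hS e)

theorem str : (∀ T : Subgroup (K.map f), Syl 2 T ⊤ → ∃ a b, Kl a b ∧ T = Subgroup.closure {a, b}) ∧ Nonempty (K ≃* SL2 (ZMod 5)) := by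
  obtain ⟨h1, h2⟩ := comp_simple h.core h.c1 hk
  obtain ⟨z, -, z2, e⟩ := h.exists_z
  refine sl25 h2 (f.subgroupMap_surjective K) ?_ (no2_of_perfect (IsQuasisimple.commutator_eq_top h.c1.2))
    (mt nc_top_iff.1 h.nK) (h.un hk)
  rw [show (f.subgroupMap K).ker = (pCore 2 G).subgroupOf K from ext fun x => by
    rw [← hk]; exact Subtype.ext_iff (a1 := f.subgroupMap K x) (a2 := 1), card_subgroupOf_of_le h.P_le, e, Nat.card_zpowers, z2]

theorem inn (hS : Syl 2 S ⊤) (hy : y ∈ S ⊓ 𝐍(K)) : ∃ s ∈ K, y * s ∈ 𝐂(K) := by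
  haveI := fact_two
  obtain ⟨h1, h2⟩ := comp_simple h.core h.c1 hk
  have hT := (hS.inf_subnormal_top h.c1.1).map f
  obtain ⟨a, b, k, e⟩ := (h.str hk).1 _ hT.subgroupOf_top
  have g : IsMulCommutative (((S ⊓ K).map f).subgroupOf (K.map f)) := e ▸ k.isComm
  have h3 : (S ⊓ K).map f ≤ 𝐂((S ⊓ K).map f) := fun x hx y hy =>
    congrArg Subtype.val (PGrp.isMulCommutative_iff_forall.1 g ⟨y, hT.le hy⟩ hy ⟨x, hT.le hx⟩ hx)
  have hR := (hS.isPGroup.to_le (inf_le_left (b := 𝐍(K)))).map f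
  obtain ⟨u, u1, u2, u3⟩ := exists_cen hR (map_mono (inf_le_inf_left S le_normalizer)) ((map_mono (BS.norm_inf
    (inf_le_left.trans le_normalizer) inf_le_right)).trans (le_normalizer_map f)) fun e' =>
      ne_one_of_two k.ha (Subtype.ext (e'.le (e.ge (Kl.mem_left a b))))
  obtain ⟨_, ⟨s, hs, rfl⟩, h4⟩ := inner_c h1 h2 hT h3 (le_normalizer_map f (mem_map_of_mem f hy.2)) (y := f y)
    (mem_centS.2 fun s hs => by
      by_cases s1 : s = 1
      · simp [s1]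
      have s2 : orderOf (⟨s, hT.le hs⟩ : K.map f) = 2 := by
        rcases (k.mem_iff _).1 (e.le (x := ⟨s, hT.le hs⟩) hs) with e | e | e | e
        exacts [absurd (congrArg Subtype.val e) s1, e ▸ k.ha, e ▸ k.hb, e ▸ k.hab]
      obtain ⟨c, hc, rfl⟩ := conj_sub h1 h2 hT (Or.inl g) (hT.le u1) (hT.le hs) u2 ((orderOf_coe _).trans s2)
      obtain ⟨_, ⟨n, n1, rfl⟩, n2, n3⟩ := burn hT ((map_mono (inf_le_inf_left S le_normalizer)).trans u3) hc
        fun x hx => mem_cent.2 (h3 hs x hx)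
      have n4 := le_normalizer_comap f n2
      rw [comap_map_eq_self (hk.le.trans (le_inf hS.pCore_le h.P_le))] at n4
      have n5 : zpowers n ≤ 𝐍(S) := (BS.norm_sup (zpowers_le.2 n4) (zpowers_le.2 (centralizer_le_normalizer _
        (centralizer_le inf_le_right (h.cent n1))))).trans (h.u4.norm hS (sup_le inf_le_left inf_le_left) (h.nc hS))
      exact n3 ▸ mem_cent.1 (cent_conj u3 (le_normalizer_map f (mem_map_of_mem f (BS.norm_inf n5
        (zpowers_le.2 (le_normalizer (le_normalizer n1))) (mem_zpowers n)))) (mem_map_of_mem f hy)))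
    ((Two.of_mem hS.isPGroup hy.1).map f)
  exact ⟨s, hs.2, cent_lift (IsComponent.commutator_self h.c1) (hk ▸ comp_cent h.c1) (map_mul f y s ▸ h4)⟩

omit hk

theorem le_E (hS : Syl 2 S ⊤) : S ⊓ 𝐍(K) ≤ K ⊔ L := fun y hy => by
  haveI := fact_two
  obtain ⟨s, hs, h1⟩ := h.inn (QuotientGroup.ker_mk' _) hS hy
  obtain ⟨t, ht, h2⟩ := h.symm.inn (QuotientGroup.ker_mk' _) hS ⟨hy.1, h.norm hy.2⟩
  have h3 := centralizer_fstar_le_fit (G := G)
  rw [fstar_eq_of_pPrimeCore_eq_bot h.core, h.layer_eq, sup_eq_left.2 (h.P_le.trans le_sup_left), fit_eq_pCore h.core] at h3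
  have h4 : y * s * t ∈ 𝐂(K ⊔ L) := zpowers_le.1 (le_centralizer_iff.1 (sup_le (le_centralizer_iff.1 (zpowers_le.2
    (mul_mem h1 (h.symm.cent ht)))) (le_centralizer_iff.1 (zpowers_le.2 (by
      rw [mul_assoc, (h.comm hs ht).eq, ← mul_assoc]; exact mul_mem h2 (h.cent hs))))))
  simpa using mul_mem (mul_mem (mem_sup_left (h.P_le (h3 h4))) (mem_sup_right (inv_mem ht))) (mem_sup_left (inv_mem hs))

theorem index : Odd (K ⊔ L).index ∨ ∃ k, Odd k ∧ (K ⊔ L).index = 2 * k := by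
  haveI := fact_two
  obtain ⟨R, hR⟩ := exists_syl 2 𝐍(K)
  obtain ⟨S, hS, e⟩ := exists_syl_ge hR.isPGroup le_top
  have h1 := Nat.not_even_iff_odd.1 (mt Even.two_dvd (hR.not_dvd_relIndex_of_le ((le_inf e hR.le).trans (h.le_E hS))))
  rw [← relIndex_mul_index (sup_le le_normalizer (h.symm.cent.trans (centralizer_le_normalizer _)) : K ⊔ L ≤ 𝐍(K))]
  rcases (Nat.dvd_prime Nat.prime_two).1 h.index_dvd with e | e <;> rw [e]
  exacts [Or.inl (by rwa [mul_one]), Or.inr ⟨_, h1, mul_comm _ _⟩]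

theorem iso : ∃ (Z : Subgroup (SL2 (ZMod 5) × SL2 (ZMod 5))) (_ : Z.Normal), Z = zpowers (-1, -1) ∧
    Nonempty (↥(K ⊔ L) ≃* (SL2 (ZMod 5) × SL2 (ZMod 5)) ⧸ Z) := by
  obtain ⟨e1⟩ := (h.str (QuotientGroup.ker_mk' _)).2
  obtain ⟨e2⟩ := (h.symm.str (QuotientGroup.ker_mk' _)).2
  obtain ⟨z, -, z2, e⟩ := h.exists_z
  have h1 : ∀ {K L : Subgroup G}, TC K L → ∀ e1 : K ≃* SL2 (ZMod 5), (e1.symm (-1) : G) = z := fun h e1 =>
    have h2 : orderOf (e1.symm (-1) : G) = 2 := by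
      rw [orderOf_coe, e1.symm.orderOf_eq]; exact two_of_mul_self (by simp) (by decide)
    eq_of_mem_zpowers (e ▸ inv_mem_P h.core h.c1 h.nK (e1.symm (-1)).2 h2) (mem_zpowers z) h2 z2
  let φ := (K.subtype.comp e1.symm.toMonoidHom).noncommCoprod (L.subtype.comp e2.symm.toMonoidHom)
    fun a b => h.comm (e1.symm a).2 (e2.symm b).2
  refine ⟨φ.ker, inferInstance, le_antisymm ?_ (zpowers_le.2 ?_),
    ⟨(MulEquiv.subgroupCongr ?_).trans (QuotientGroup.quotientKerEquivRange φ).symm⟩⟩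
  · rintro ⟨a, b⟩ hx
    have h2 : (e1.symm a : G) = (e2.symm b : G)⁻¹ := eq_inv_of_mul_eq_one_left hx
    have h3 := e.le (comp_cen_le h.core h.c1 ⟨(e1.symm a).2, h2 ▸ h.symm.cent (inv_mem (e2.symm b).2)⟩)
    by_cases h4 : (e1.symm a : G) = 1
    · rw [(map_eq_one_iff _ e1.symm.injective).1 (Subtype.ext h4), (map_eq_one_iff _ e2.symm.injective).1
        (Subtype.ext (inv_eq_one.1 (h2.symm.trans h4)))]
      exact one_mem _
    obtain ⟨k, hk⟩ := h3
    have h5 := eq_of_mem_zpowers ⟨k, hk⟩ (mem_zpowers z) (two_of_mul_self (by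
      rw [← hk, ← (Commute.refl z).mul_zpow, mul_self_of_two z2, one_zpow]) h4) z2
    rw [e1.symm.injective (Subtype.ext (h5.trans (h1 h e1).symm)), e2.symm.injective (Subtype.ext
      ((inv_eq_iff_eq_inv.1 (h2.symm.trans h5)).trans ((inv_of_two z2).trans (h1 h.symm e2).symm)))]
    exact mem_zpowers _
  · change (e1.symm (-1) : G) * (e2.symm (-1) : G) = 1
    rw [h1 h e1, h1 h.symm e2, mul_self_of_two z2]
  · rw [MonoidHom.noncommCoprod_range, MonoidHom.range_comp, MonoidHom.range_comp, MonoidHom.range_eq_top.2 e1.symm.surjective,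
      MonoidHom.range_eq_top.2 e2.symm.surjective, ← MonoidHom.range_eq_map, ← MonoidHom.range_eq_map, range_subtype, range_subtype]

end TC

theorem U4.layer_ne (h : U4 G) (hO : pPrimeCore 2 G = ⊥) (hn : ¬ Group.IsSolvable G) : layer G ≠ ⊥ := fun e => hn (by
  haveI := fact_two
  have hP := isPGroup_pCore 2 G
  by_cases n : Nc (pCore 2 G)
  · have := h.solv hP n
    rw [normalizer_eq_top] at this
    exact Group.isSolvable_of_surjective (f := (⊤ : Subgroup G).subtype) fun x => ⟨⟨x, trivial⟩, rfl⟩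
  have : Group.IsSolvable (pCore 2 G) := solvable_of_nilpotent hP.isNilpotent
  have : Group.IsSolvable (MulAut (pCore 2 G)) := Inv3.solvable_aut hP (by
    by_cases e : ∃ z : pCore 2 G, orderOf z = 2
    · obtain ⟨z, hz⟩ := e
      refine (Set.ncard_le_ncard (t := {1, z}) fun x hx => ?_).trans ((Set.ncard_insert_le ..).trans (by simp))
      exact or_iff_not_imp_left.2 fun e => (uniq_of n).eq_of_mem (P := ⊤) (hP.to_subgroup ⊤) trivial trivial (two_of_mul_self hx e) hz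
    · refine (Set.ncard_le_ncard (t := {1}) fun x hx => by_contra fun e' => e ⟨x, two_of_mul_self hx e'⟩).trans (by simp))
  refine Group.isSolvable_of_ker_le_range (pCore 2 G).subtype (MulAut.conjNormal (H := pCore 2 G)) fun g hg => ?_
  rw [range_subtype]
  exact centralizer_pCore_le_iff.2 ⟨hO, e⟩ fun p hp => (mul_inv_eq_iff_eq_mul.1 (congrArg Subtype.val
    (MulEquiv.congr_fun hg ⟨p, hp⟩))).symm)

theorem U4.core_map (h : U4 G) (hS : Syl 2 S ⊤) (e : E8 S) {f : G →* G'} (hf : Surjective f) (hk : f.ker = pPrimeCore 2 G) :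
    (pCore 2 G).map f = pCore 2 G' := by
  haveI := fact_two
  have h1 := hS.inf_normal_top ((pCore 2 G').comap f)
  have h2 := h1.map f
  rw [map_comap_eq_self_of_surjective hf] at h2
  have h3 := h2.eq_of_isPGroup (isPGroup_pCore 2 G')
  have h4 : ⁅pPrimeCore 2 G, S⁆ = ⊥ := eq_bot_iff.2 ((le_inf (le_normalizer_iff_commutator_le_right.1
    (h.odd_le hS e (odd_card_oddCore G))) (commutator_le_left _ _)).trans
      (inf_eq_bot_of_isPGroup_of_coprime Nat.prime_two hS.isPGroup (coprime_card_pPrimeCore 2 G)).le)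
  have h5 : (pCore 2 G').comap f ≤ 𝐍(S ⊓ (pCore 2 G').comap f) := by
    nth_rw 1 [← h3]
    rw [comap_map_eq, hk]
    exact sup_le le_normalizer ((comm_eq_bot_iff.1 h4).trans ((centralizer_le inf_le_left).trans (centralizer_le_normalizer _)))
  have : (S ⊓ (pCore 2 G').comap f).Normal := normalizer_eq_top_iff.1 (eq_top_iff.2 fun g _ => mem_normalizer_of_cj_le
    (h1.le_of_normal_syl h5 (isPGroup_cj g h1.isPGroup) ((cj_mono g inf_le_right).trans
      (cj_eq_self_iff.2 (le_normalizer_of_normal (mem_top g))).le)))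
  exact le_antisymm (map_pCore_le_of_surjective hf) (h3.ge.trans (map_mono (le_pCore h1.isPGroup)))

end Cfsg.Lib.JTW
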