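/-
Rank two `p`-groups (`p` odd) that are perfect under a group of automorphisms fixing a central element.
-/
import Cfsg.Agent.Lib.Fus3.Black
import Cfsg.Agent.Lib.Fus3.MaxCl

set_option autoImplicit false
set_option linter.unusedSectionVars false

namespace Cfsg.Lib.JTW.Iso

open Subgroup Cfsg.Lib.PGrp Cfsg.Lib.Fus
open scoped commutatorElement

variable {P : Type*} [Group P] {p : ℕ} [hp : Fact p.Prime]

/-- The configuration produced by a failure of control of transfer does not occur. -/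
def NoWr (p : ℕ) (P : Type*) [Group P] : Prop :=
  ∀ (M : Subgroup P) (z : P), Ip p M ⊤ → z ∉ M → ∀ φ : P → ZMod p,
    (∀ a ∈ M, ∀ b ∈ M, φ (a * b) = φ a + φ b) → ∀ u ∈ _root_.commutator P, φ (dl z u) = 0

/-- The transfer condition. -/
def TD (A : Set (MulAut P)) : Prop :=
  ∀ D : Subgroup P, _root_.commutator P ≤ D → ∀ u : P, (∀ α ∈ A, u⁻¹ * α u ∈ D) → u ∈ D

theorem comm_le_of_ip {M : Subgroup P} (h : Ip p M ⊤) : _root_.commutator P ≤ M :=
  commutator_le.2 fun a _ b _ => by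
    simpa [commutatorElement_def, mul_assoc] using h.comm (x := a⁻¹) (y := b) trivial trivial

/-- The kernel of an additive function. -/
def kerC (M : Subgroup P) (φ : P → ZMod p) (hφ : ∀ a ∈ M, ∀ b ∈ M, φ (a * b) = φ a + φ b) : Subgroup P where
  carrier := {y | y ∈ M ∧ φ y = 0}
  mul_mem' := fun {a b} ha hb => ⟨M.mul_mem ha.1 hb.1, by rw [hφ _ ha.1 _ hb.1, ha.2, hb.2, add_zero]⟩
  one_mem' := ⟨M.one_mem, co_one hφ⟩
  inv_mem' := fun {a} ha => ⟨M.inv_mem ha.1, by rw [co_inv hφ ha.1, ha.2, neg_zero]⟩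

section Co

variable {M : Subgroup P} {φ : P → ZMod p} (hφ : ∀ a ∈ M, ∀ b ∈ M, φ (a * b) = φ a + φ b)
include hφ

theorem mem_kerC {y : P} : y ∈ kerC M φ hφ ↔ y ∈ M ∧ φ y = 0 := Iff.rfl

theorem co_cj {m u : P} (hm : m ∈ M) (hu : u ∈ M) : φ (m * u * m⁻¹) = φ u := by
  rw [hφ _ (M.mul_mem hm hu) _ (M.inv_mem hm), hφ _ hm _ hu, co_inv hφ hm]; ring

theorem comm_mem_kerC {m u : P} (hm : m ∈ M) (hu : u ∈ M) : ⁅u, m⁆ ∈ kerC M φ hφ :=
  ⟨by rw [commutatorElement_def]; exact mul_mem (mul_mem (mul_mem hu hm) (inv_mem hu)) (inv_mem hm), by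
    rw [commutatorElement_def, hφ _ (mul_mem (mul_mem hu hm) (inv_mem hu)) _ (inv_mem hm), co_cj hφ hu hm,
      co_inv hφ hm, add_neg_cancel]⟩

theorem pow_mem_kerC {m : P} (hm : m ∈ M) : m ^ p ∈ kerC M φ hφ :=
  ⟨M.pow_mem hm p, by rw [co_pow hφ hm]; simp⟩

end Co

variable [Finite P]

theorem noWr_of_cyclic (h : IsCyclic (_root_.commutator P)) : NoWr p P := by
  intro M z hM _ φ hφ u hu
  have hn : (zpowers u).Normal := normal_of_le_of_isCyclic h (zpowers_le.2 hu)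
  obtain ⟨k, hk⟩ := exists_pow_eq_of_mem_zpowers (hn.conj_mem _ (mem_zpowers u) z)
  have huM := comm_le_of_ip hM hu
  have key : ∀ j : ℕ, z ^ j * u * (z ^ j)⁻¹ = u ^ k ^ j := fun j => by
    induction j with
    | zero => simp
    | succ j ih =>
      calc z ^ (j + 1) * u * (z ^ (j + 1))⁻¹ = z * (z ^ j * u * (z ^ j)⁻¹) * z⁻¹ := by rw [pow_succ']; group
        _ = u ^ k ^ (j + 1) := by rw [ih, ← conj_pow, ← hk, ← pow_mul, pow_succ']
  have h1 := co_cj hφ (hM.pow z trivial) huM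
  rw [key, co_pow hφ huM, Nat.cast_pow, ZMod.pow_card] at h1
  rw [dl, ← hk, hφ _ (M.inv_mem huM) _ (M.pow_mem huM _), co_inv hφ huM, co_pow hφ huM, h1, neg_add_cancel]

section Bl

variable {M W : Subgroup P} {x a : P} (h : Bl p M W x) (hM : IsMulCommutative M) (ha : W ⊔ zpowers a = M)
  (h1 : dl x a ∈ W)
include h hM ha h1

theorem bl_comm_le : _root_.commutator P ≤ W := by
  have := h.nM
  have haM : a ∈ M := ha ▸ mem_sup_right (Subgroup.mem_zpowers a)
  intro c hc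
  obtain ⟨m, hm, rfl⟩ := exists_commutator_eq hM (sup_zpowers_eq_top_of_index_eq h.hG h.idx h.nx) hc
  have e : ⁅x, m⁆ = dl x m := by
    rw [dl, commutatorElement_def, comm_of_mem hM (h.nM.conj_mem _ hm x) (M.inv_mem hm)]
  obtain ⟨w, hw, k, rfl⟩ := h.mem_iff.1 (ha.ge hm)
  rw [e, h.dl_mul' hM x (h.le hw) (M.pow_mem haM _), h.dl_pow' hM x haM]
  exact mul_mem (Bl.dl_mem h.nW x hw) (Subgroup.pow_mem _ h1 _)

theorem bl_dl (g y : P) : dl g y ∈ W :=
  bl_comm_le h hM ha h1 (dl_eq g y ▸ commutator_mem_commutator trivial trivial)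

theorem bl_conj_pow (g : P) {m : P} (hm : m ∈ M) : (g * m * g⁻¹) ^ p = m ^ p := by
  rw [conj_eq_mul_dl, Commute.mul_pow (comm_of_mem hM hm (h.le (bl_dl h hM ha h1 g m))), h.pow (bl_dl h hM ha h1 g m),
    mul_one]

theorem bl_pow_center {m : P} (hm : m ∈ M) : m ^ p ∈ center P := mem_center_iff.2 fun g => by
  have := bl_conj_pow h hM ha h1 g hm
  rw [conj_pow] at this
  rw [← mul_inv_eq_iff_eq_mul, this]

theorem bl_last (haW : a ∉ W) : ∃ j : ℕ, a ^ p ^ (j + 1) ≠ 1 ∧ a ^ p ^ (j + 1) ∈ W ∧ a ^ p ^ (j + 1) ∈ center P := by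
  classical
  have haM : a ∈ M := ha ▸ mem_sup_right (Subgroup.mem_zpowers a)
  have hex : ∃ k, a ^ p ^ k = 1 := h.hG a
  have h0 : 2 ≤ Nat.find hex := by
    by_contra e
    refine haW ((h.mem _).2 ⟨haM, ?_⟩)
    have := Nat.find_spec hex
    rcases (by omega : Nat.find hex = 0 ∨ Nat.find hex = 1) with e | e <;> rw [e] at this
    · simp only [pow_zero, pow_one] at this; rw [this, one_pow]
    · simpa using this
  obtain ⟨j, hj⟩ : ∃ j, Nat.find hex = j + 2 := ⟨Nat.find hex - 2, by omega⟩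
  refine ⟨j, Nat.find_min hex (by omega), (h.mem _).2 ⟨M.pow_mem haM _, ?_⟩, ?_⟩
  · rw [← pow_mul, ← pow_succ, ← hj]; exact Nat.find_spec hex
  · rw [pow_succ, pow_mul]; exact bl_pow_center h hM ha h1 (M.pow_mem haM _)

theorem noWr_of_bl (haW : a ∉ W) : NoWr p P := by
  intro L z hL hz φ hφ u hu
  have haM : a ∈ M := ha ▸ mem_sup_right (Subgroup.mem_zpowers a)
  have huL := comm_le_of_ip hL hu
  have huW := bl_comm_le h hM ha h1 hu
  by_contra h0
  have key : ∀ c ∈ kerC L φ hφ, c ∈ W → c ∈ center P → c = 1 := fun c hc hW hZ => by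
    by_contra e
    exact h0 (zpowers_le.2 hc (h.mem_zpowers hW hZ e (Bl.dl_mem h.nW z huW) (h.dl_center z huW))).2
  have hLu : L ≤ centralizer {u} := fun m hm => mem_centralizer_singleton_iff.2 (dl_eq_one_iff.1 (key _
    (dl_eq m u ▸ comm_mem_kerC hφ hm (L.inv_mem huL)) (Bl.dl_mem h.nW m huW) (h.dl_center m huW))).eq
  have haL : a ∈ L := by
    by_contra e
    have := hL.le_of_mem trivial e hLu (mem_centralizer_singleton_iff.2 (comm_of_mem hM haM (h.le huW)))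
    rw [dl_eq_one_iff.2 (mem_centralizer_singleton_iff.1 (this (mem_top z))), co_one hφ] at h0
    exact h0 rfl
  obtain ⟨j, e1, e2, e3⟩ := bl_last h hM ha h1 haW
  exact e1 (key _ (by rw [pow_succ, pow_mul]; exact pow_mem_kerC hφ (L.pow_mem haL _)) e2 e3)

theorem bl_mul_pow {m : P} (hm : m ∈ M) (y : P) (n : ℕ) :
    (m * y) ^ n = m ^ n * dl y m ^ n.choose 2 * dl y (dl y m) ^ n.choose 3 * y ^ n := by
  have hv := bl_dl h hM ha h1 y m
  have hw := bl_dl h hM ha h1 y (dl y m)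
  have e : dl y (dl y (dl y m)) = 1 := dl_eq_one_iff.2 (mem_center_iff.1 (h.dl_center y hv) y)
  have c1 : Commute (dl y m) (dl y (dl y m)) := comm_of_mem hM (h.le hv) (h.le hw)
  have c2 : Commute m (dl y m) := comm_of_mem hM hm (h.le hv)
  have c3 : Commute m (dl y (dl y m)) := comm_of_mem hM hm (h.le hw)
  induction n with
  | zero => simp
  | succ n ih =>
    have := conj_pow_three rfl rfl e (by simp [dl]) c1 (Commute.one_right _) n
    rw [one_pow, mul_one] at this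
    have e2 : y ^ n * m = m * (dl y m ^ n * dl y (dl y m) ^ n.choose 2) * y ^ n := by
      rw [← this, ← conj_eq_mul_dl, inv_mul_cancel_right]
    rw [pow_succ, ih, Nat.choose_succ_succ' n 1, Nat.choose_succ_succ' n 2, Nat.choose_one_right, pow_add (dl y m),
      pow_add (dl y (dl y m)), pow_succ m, pow_succ y]
    generalize dl y (dl y m) = w at *
    generalize dl y m = v at *
    calc m ^ n * v ^ n.choose 2 * w ^ n.choose 3 * y ^ n * (m * y)
        = m ^ n * (v ^ n.choose 2 * w ^ n.choose 3 * (m * (v ^ n * w ^ n.choose 2))) * (y ^ n * y) := by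
          rw [mul_assoc _ (y ^ n), ← mul_assoc (y ^ n), e2]; group
      _ = m ^ n * (m * (v ^ n * v ^ n.choose 2) * (w ^ n.choose 2 * w ^ n.choose 3)) * (y ^ n * y) := by
          congr 2
          rw [← mul_assoc _ m, ← ((c2.pow_right _).mul_right (c3.pow_right _)).eq, mul_assoc m, mul_assoc m]
          congr 1
          rw [← pow_add, ← pow_add, add_comm n, add_comm (n.choose 2) (n.choose 3), pow_add, pow_add, mul_assoc, mul_assoc,
            ← mul_assoc (w ^ _), ← (c1.pow_pow _ _).eq, mul_assoc]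
      _ = _ := by simp only [mul_assoc]

theorem bl_mul_pow' {m : P} (hm : m ∈ M) (y : P) {j : ℕ} (hq : p ^ (j + 1) ≠ 3 ∨ dl x a ∈ center P) :
    (m * y) ^ p ^ (j + 1) = m ^ p ^ (j + 1) * y ^ p ^ (j + 1) := by
  have hv := bl_dl h hM ha h1 y m
  have hw := bl_dl h hM ha h1 y (dl y m)
  have k : ∀ w ∈ W, ∀ n, p ∣ n → w ^ n = 1 := fun w hw n ⟨c, hc⟩ => by rw [hc, pow_mul, h.pow hw, one_pow]
  have h2 : 2 ≠ p ^ (j + 1) := fun e => h.two ((Nat.prime_dvd_prime_iff_eq hp.out Nat.prime_two).1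
    (e ▸ dvd_pow_self p (Nat.succ_ne_zero j)))
  rw [bl_mul_pow h hM ha h1 hm, k _ hv _ (hp.out.dvd_choose_pow two_ne_zero h2), mul_one]
  rcases hq with hq | hq
  · rw [k _ hw _ (hp.out.dvd_choose_pow three_ne_zero hq.symm), mul_one]
  · have : dl y m ∈ center P :=
      (h.commutator_le hM ha h1 hq (dl_eq y m ▸ commutator_mem_commutator trivial trivial)).2
    rw [dl_eq_one_iff.2 (mem_center_iff.1 this y), one_pow, mul_one]

omit hM ha h1 in
theorem bl_dec (g : P) : ∃ m ∈ M, ∃ i : ℤ, g = m * x ^ i := by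
  have := h.nM
  exact (mem_sup_zpowers_of_mem_normalizer ((normalizer_eq_top_iff.2 this).ge trivial)).1
    ((sup_zpowers_eq_top_of_index_eq h.hG h.idx h.nx).ge (mem_top g))

theorem bl_exp (hx : x ^ p = 1) (haW : a ∈ W) (g : P) : g ^ p = 1 := by
  obtain ⟨m, hm, i, rfl⟩ := bl_dec h g
  have := bl_mul_pow' h hM ha h1 hm (x ^ i) (j := 0) (Or.inr (h.dl_center x haW))
  rw [zero_add, pow_one] at this
  have hMW : M ≤ W := ha ▸ sup_le le_rfl (zpowers_le.2 haW)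
  rw [this, h.pow (hMW hm), ← zpow_natCast, ← zpow_mul, mul_comm, zpow_mul, zpow_natCast, hx, one_zpow, mul_one]

theorem bl_false (hx : x ^ p = 1) (haW : a ∉ W) (h3 : ¬ (p = 3 ∧ Nat.card (centralizer ({x} : Set P)) ≤ p ^ 2))
    {A : Set (MulAut P)} (hA : TD A) {z : P} (hz : z ≠ 1) (hzc : z ∈ center P) (hf : ∀ α ∈ A, α z = z) : False := by
  have haM : a ∈ M := ha ▸ mem_sup_right (Subgroup.mem_zpowers a)
  obtain ⟨j, e1, e2, e3⟩ := bl_last h hM ha h1 haW
  have hq : p ^ (j + 1) ≠ 3 ∨ dl x a ∈ center P := by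
    by_contra! k
    have hj : p = 3 ∧ j + 1 = 1 := (Nat.Prime.pow_eq_iff Nat.prime_three).1 k.1
    rw [hj.2, pow_one] at e2 e3
    exact h3 ⟨hj.1, h.cent_le haM e2 e3 k.2⟩
  have k1 : ∀ m ∈ M, ∀ i : ℤ, (m * x ^ i) ^ p ^ (j + 1) = m ^ p ^ (j + 1) := fun m hm i => by
    rw [bl_mul_pow' h hM ha h1 hm _ hq, ← zpow_natCast (x ^ i), ← zpow_mul, mul_comm i, zpow_mul, zpow_natCast,
      pow_succ' p j, pow_mul x, hx, one_pow, one_zpow, mul_one]
  let ψ : P →* P := MonoidHom.mk' (fun g => g ^ p ^ (j + 1)) fun g g' => by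
    obtain ⟨m, hm, i, rfl⟩ := bl_dec h g
    obtain ⟨m', hm', i', rfl⟩ := bl_dec h g'
    have hc := h.nM.conj_mem _ hm' (x ^ i)
    have e : m * x ^ i * (m' * x ^ i') = m * (x ^ i * m' * (x ^ i)⁻¹) * x ^ (i + i') := by group
    rw [e, k1 _ (M.mul_mem hm hc), k1 _ hm, k1 _ hm', Commute.mul_pow (comm_of_mem hM hm hc), pow_succ' p j,
      pow_mul (x ^ i * m' * (x ^ i)⁻¹), bl_conj_pow h hM ha h1 _ hm', ← pow_mul]
  have hzW : z ∈ W := hA W (bl_comm_le h hM ha h1) z fun α hα => by rw [hf α hα, inv_mul_cancel]; exact W.one_mem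
  refine e1 (hA ψ.ker (fun c hc => ?_) a fun α hα => ?_)
  · change c ^ p ^ (j + 1) = 1
    rw [pow_succ', pow_mul, h.pow (bl_comm_le h hM ha h1 hc), one_pow]
  · obtain ⟨k, hk⟩ := h.mem_zpowers hzW hzc hz e2 e3
    rw [MonoidHom.mem_ker, map_mul, map_inv, inv_mul_eq_one]
    change a ^ p ^ (j + 1) = α a ^ p ^ (j + 1)
    rw [← map_pow, ← hk]
    simp only [map_zpow, hf α hα]

end Bl

section Mx

variable {n : ℕ} {G : ℕ → Subgroup P} (h : MxC p ⊤ n G) (hp3 : p = 3) (hb : G n = ⊥)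
  (hl : ∀ i, G (i + 2) = (⊤ : Subgroup P).lowerCentralSeries (i + 1))
include h hp3

theorem mx_tw {j : ℕ} (h1 : 1 ≤ j) : G 1 ≤ tw G j := by
  rcases (by have := h.four; omega : p + 2 ≤ n ∨ j = 1 ∨ j = 2 ∨ n ≤ j + 1) with e | rfl | rfl | e
  exacts [h.le_tw_all e h1, h.le_tw_one, h.le_tw_two, le_top.trans (h.le_tw_last e)]

theorem mx_un {s : P} (hs : s ∉ G 1) : Un n G s :=
  ⟨h.zero ▸ mem_top s, fun i h1 h2 => by rwa [h.tw_eq h1 h2 (mx_tw h hp3 h1)]⟩

include hb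

omit hp3 in
theorem mx_down {K : Subgroup P} {l : ℕ} (H : ∀ j, l ≤ j → j < n → G (j + 1) ≤ K → ∃ y ∈ G j, y ∉ G (j + 1) ∧ y ∈ K) :
    G l ≤ K := by
  have key : ∀ d j, l ≤ j → n ≤ j + d → G j ≤ K := fun d => by
    induction d with
    | zero => intro j _ e; rw [h.eq_bot hb (i := j) e]; exact bot_le
    | succ d ih =>
      intro j h1 h2
      by_cases e : j < n
      · have := ih (j + 1) (by omega) (by omega)
        obtain ⟨y, a, b, c⟩ := H j h1 e this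
        exact (h.ip j e).le_of_mem a b this c
      · rw [h.eq_bot hb (by omega)]; exact bot_le
  exact key n l le_rfl (by omega)

include hl

theorem noWr_of_mx (hr : PRankLE p 2 P) : NoWr p P := by
  intro M z hM hz φ hφ u hu
  have e2 : G 2 = _root_.commutator P := hl 0
  have h2 : G 2 ≤ M := e2 ▸ comm_le_of_ip hM
  suffices k : G 3 ≤ kerC M φ hφ from (k (h.dl_mem (mem_top z) (e2 ▸ hu))).2
  by_cases hM1 : M ≤ G 1
  swap
  · obtain ⟨s, hs, hs'⟩ := SetLike.not_le_iff_exists.1 hM1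
    refine mx_down h hb fun j h3 hj _ => ?_
    obtain ⟨j, rfl⟩ : ∃ k, j = k + 1 := ⟨j - 1, by omega⟩
    obtain ⟨y, hy, hy'⟩ := (h.ip j (by omega)).exists_not_mem
    exact ⟨⁅y, s⁆, h.c0 j y hy s trivial, h.comm_not_mem (mx_un h hp3 hs') (by omega) (by omega) hy hy',
      comm_mem_kerC hφ hs (h2 (h.anti (by omega) hy))⟩
  have e1 : M = G 1 := ((hM.eq_or_eq hM1 le_top).resolve_right fun e => h.ip0.ne e.ge).symm
  subst e1
  refine mx_down h hb fun j h3 hj _ => ?_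
  by_cases hn : p + 2 ≤ n
  · obtain ⟨j, rfl⟩ : ∃ k, j = k + 2 := ⟨j - 2, by omega⟩
    obtain ⟨y, hy, hy'⟩ := (h.ip j (by omega)).exists_not_mem
    obtain ⟨a, b⟩ := h.pow_mem' hn (by omega) hy
    refine ⟨y ^ p, by simpa [hp3] using a, by simpa [hp3] using b (by omega) hy', pow_mem_kerC hφ (h.anti (by omega) hy)⟩
  obtain rfl : n = 4 := by have := h.four; omega
  obtain rfl : j = 3 := by omega
  obtain ⟨y, hy, hy'⟩ := (h.ip 1 (by omega)).exists_not_mem
  have c : ∀ u ∈ G 2, ∀ v ∈ G 1, Commute u v := fun u hu v hv =>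
    commutatorElement_eq_one_iff_commute.1 (mem_bot.1 (hb ▸ h.c2 u hu v hv))
  have hc : IsMulCommutative (G 1) := by
    rw [(h.ip 1 (by omega)).eq_sup hy hy']
    exact isMulCommutative_sup_zpowers (le_centralizer_iff_isMulCommutative.1 fun u hu v hv => (c v hv u (h2 hu)).eq)
      fun v hv => (c v hv y hy).eq
  obtain ⟨g, hg, hg'⟩ : ∃ g ∈ G 1, g ^ p ≠ 1 := by
    by_contra! k
    have := hr _ hc k
    rw [h.card_eq hb 3 1 rfl, hp3] at this
    omega
  by_cases k : g ^ p ∈ G 3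
  · exact ⟨g ^ p, k, by rwa [hb, mem_bot], pow_mem_kerC hφ hg⟩
  · obtain ⟨s, -, hs⟩ := h.ip0.exists_not_mem
    have m := (h.ip 1 (by omega)).pow g hg
    refine ⟨⁅g ^ p, s⁆, h.c0 2 _ m s trivial, h.comm_not_mem (mx_un h hp3 hs) (by omega) (by omega) m k, ?_⟩
    have : ⁅g ^ p, s⁆ = g ^ p * (s * g⁻¹ * s⁻¹) ^ p := by rw [conj_pow, inv_pow, commutatorElement_def]; group
    rw [this]
    exact mul_mem (pow_mem_kerC hφ hg) (pow_mem_kerC hφ (h.conj_mem trivial (inv_mem hg)))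

omit hb in
theorem mx_map (α : MulAut P) : ∀ i, ∀ y ∈ G i, α y ∈ G i := by
  have k : ∀ (β : MulAut P) i, ∀ y ∈ G (i + 2), β y ∈ G (i + 2) := fun β i y hy => by
    rw [hl] at hy ⊢
    exact characteristic_iff_le_comap.1 inferInstance β hy
  intro i y hy
  match i with
  | 0 => exact h.zero ▸ mem_top _
  | 1 =>
    have e := h.tw_eq (i := 2) (by omega) h.four h.le_tw_two
    rw [← e, h.mem_tw] at hy ⊢
    refine ⟨trivial, fun w hw => ?_⟩
    have := k α 2 _ (hy.2 _ (k α⁻¹ 0 w hw))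
    simpa [map_commutatorElement] using this
  | i + 2 => exact k α i y hy

omit h hp3 hb hl in
/-- `α` acts on the `i`-th factor with eigenvalue `c`. -/
def Eig (G : ℕ → Subgroup P) (α : MulAut P) (i : ℕ) (c : ZMod p) : Prop :=
  ∀ θ : P → ZMod p, (∀ u ∈ G i, ∀ v ∈ G i, θ (u * v) = θ u + θ v) → (∀ u ∈ G (i + 1), θ u = 0) →
    ∀ y ∈ G i, θ (α y) = c * θ y

omit hb in
theorem eig_of (α : MulAut P) {i : ℕ} (hi : i < n) {w : P} (hw : w ∈ G i) (hw' : w ∉ G (i + 1)) {c : ZMod p}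
    (H : ∀ θ : P → ZMod p, (∀ u ∈ G i, ∀ v ∈ G i, θ (u * v) = θ u + θ v) → (∀ u ∈ G (i + 1), θ u = 0) →
      θ (α w) = c * θ w) : Eig G α i c := by
  intro θ a1 a2 y hy
  obtain ⟨φ, b1, b2, b3⟩ := (h.ip i hi).exists_co hw hw'
  rw [(h.ip i hi).co_eq_mul a1 b1 a2 b2 hw b3 hy, (h.ip i hi).co_eq_mul (θ := fun u => θ (α u))
    (fun u hu v hv => by simp only [map_mul]; exact a1 _ (mx_map h hp3 hl α i u hu) _ (mx_map h hp3 hl α i v hv))
    b1 (fun u hu => a2 _ (mx_map h hp3 hl α _ u hu)) b2 hw b3 hy, H θ a1 a2, mul_assoc]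

omit hb in
theorem exists_eig (α : MulAut P) {i : ℕ} (hi : i < n) : ∃ c : ZMod p, c ≠ 0 ∧ Eig G α i c := by
  obtain ⟨w, hw, hw'⟩ := (h.ip i hi).exists_not_mem
  obtain ⟨φ, b1, b2, b3⟩ := (h.ip i hi).exists_co hw hw'
  have m := mx_map h hp3 hl α i w hw
  refine ⟨φ (α w), fun e => hw' (by simpa using mx_map h hp3 hl α⁻¹ _ _ ((b2 _ m).1 e)),
    eig_of h hp3 hl α hi hw hw' fun θ a1 a2 => ?_⟩
  rw [(h.ip i hi).co_eq_mul a1 b1 a2 b2 hw b3 m, mul_comm]

omit hb in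
theorem eig_succ (α : MulAut P) {i : ℕ} (h1 : 1 ≤ i) (hi : i + 2 ≤ n) {a c : ZMod p} (ha : Eig G α 0 a)
    (hc : Eig G α i c) : Eig G α (i + 1) (c * a) := by
  obtain ⟨s, -, hs⟩ := h.ip0.exists_not_mem
  obtain ⟨y, hy, hy'⟩ := (h.ip i (by omega)).exists_not_mem
  refine eig_of h hp3 hl α (by omega) (h.c0 i y hy s trivial) (h.comm_not_mem (mx_un h hp3 hs) h1 hi hy hy')
    fun θ a1 a2 => ?_
  have cj : ∀ u ∈ G (i + 1), ∀ g, θ (g * u * g⁻¹) = θ u := fun u hu g =>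
    co_conj a1 a2 (h.succ_le _) hu (h.c0 _ _ (inv_mem hu) g trivial)
  have m := mx_map h hp3 hl α i y hy
  rw [map_commutatorElement, ha (fun g => θ ⁅α y, g⁆) (fun u _ v _ => by
      have e : ⁅α y, u * v⁆ = ⁅α y, u⁆ * (u * ⁅α y, v⁆ * u⁻¹) := by simp [commutatorElement_def, mul_assoc]
      simp only [e]
      rw [a1 _ (h.c0 i _ m u trivial) _ (h.conj_mem trivial (h.c0 i _ m v trivial)), cj _ (h.c0 i _ m v trivial)])
      (fun u hu => a2 _ ((h.mem_tw.1 (mx_tw h hp3 h1 hu)).2 _ m)) s (h.zero ▸ mem_top s),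
    hc (fun u => θ ⁅u, s⁆) (fun u hu v hv => by
      have e : ⁅u * v, s⁆ = (u * ⁅v, s⁆ * u⁻¹) * ⁅u, s⁆ := by simp [commutatorElement_def, mul_assoc]
      simp only [e]
      rw [a1 _ (h.conj_mem trivial (h.c0 i _ hv s trivial)) _ (h.c0 i _ hu s trivial), cj _ (h.c0 i _ hv s trivial),
        add_comm]) (fun u hu => a2 _ (h.c0 _ u hu s trivial)) y hy]
  ring

theorem mx_false (he : Even n) {A : Set (MulAut P)} (hA : TD A) {z : P} (hz : z ≠ 1) (hzc : z ∈ center P)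
    (hf : ∀ α ∈ A, α z = z) : False := by
  have h4 := h.four
  have e2 : G 2 = _root_.commutator P := hl 0
  obtain ⟨y, hy, hy'⟩ := (h.ip 1 (by omega)).exists_not_mem
  refine hy' (hA _ e2.ge y fun α hα => ?_)
  obtain ⟨a, ha0, ha⟩ := exists_eig h hp3 hl α (i := 0) (by omega)
  obtain ⟨c, -, hc⟩ := exists_eig h hp3 hl α (i := 1) (by omega)
  have key : ∀ i, i + 2 ≤ n → Eig G α (i + 1) (c * a ^ i) := fun i => by
    induction i with
    | zero => intro _; simpa using hc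
    | succ i ih => intro e; rw [pow_succ, ← mul_assoc]; exact eig_succ h hp3 hl α (by omega) (by omega) ha (ih (by omega))
  obtain ⟨m, rfl⟩ : ∃ m, n = 2 * m + 2 := by obtain ⟨k, hk⟩ := he; exact ⟨k - 1, by omega⟩
  have hzm : z ∈ G (2 * m + 1) := by
    have := h.center_eq hb
    rw [show 2 * m + 2 - 1 = 2 * m + 1 from rfl] at this
    rw [← this]
    exact ⟨trivial, fun g _ => mem_center_iff.1 hzc g⟩
  have hz' : z ∉ G (2 * m + 1 + 1) := by rwa [hb, mem_bot]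
  obtain ⟨θ, b1, b2, b3⟩ := (h.ip _ (by omega)).exists_co hzm hz'
  have e := key (2 * m) le_rfl θ b1 (fun u hu => (b2 u (h.succ_le _ hu)).2 hu) z hzm
  have ha2 : a ^ 2 = 1 := by
    have := ZMod.pow_card_sub_one_eq_one ha0
    rwa [show p - 1 = 2 by omega] at this
  rw [hf α hα, b3, pow_mul, ha2, one_pow, mul_one, mul_one] at e
  obtain ⟨φ, c1, c2, -⟩ := (h.ip 1 (by omega)).exists_co hy hy'
  have m := mx_map h hp3 hl α 1 y hy
  refine (c2 _ (mul_mem (inv_mem hy) m)).1 ?_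
  rw [c1 _ (inv_mem hy) _ m, co_inv c1 hy, hc φ c1 (fun u hu => (c2 u (h.succ_le _ hu)).2 hu) y hy, ← e]
  ring

end Mx

end Cfsg.Lib.JTW.Iso
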