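/-
Sylow `p`-subgroups of rank two (`p` odd) of `p`-perfect groups whose normalizer centralizes an element.
-/
import Cfsg.Agent.Lib.JTW.Iso1
import Cfsg.Agent.Lib.Transfer.HallWielandt
import Cfsg.Agent.Lib.Invol.Transfer2
import Cfsg.Agent.Lib.BG1.Sec4b
import Cfsg.Agent.Lib.Hall.SZConj

set_option autoImplicit false
set_option linter.unusedSectionVars false

namespace Cfsg.Lib.JTW.Iso

open Subgroup Cfsg.Lib.PGrp Cfsg.Lib.Fus Cfsg.Lib.Transfer
open scoped commutatorElement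

variable {p : ℕ} [hp : Fact p.Prime]

/-- The two possible shapes. -/
def Concl (p : ℕ) (P : Type*) [Group P] : Prop :=
  (¬ IsMulCommutative P ∧ Nat.card P = p ^ 3 ∧ ∀ y : P, y ^ p = 1) ∨
    (p = 3 ∧ ∃ k : ℕ, 2 ≤ k ∧ Nat.card P = 3 ^ (2 * k + 1) ∧ Group.nilpotencyClass P = 2 * k)

/-- The other cases. -/
def Bad (p : ℕ) (P : Type*) [Group P] : Prop :=
  NoWr p P ∧ (IsMetacyclic P ∨ ∀ A : Set (MulAut P), TD A → ∀ z : P, z ≠ 1 → z ∈ center P → (∀ α ∈ A, α z = z) → False)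

theorem bad_of_meta {P : Type*} [Group P] [Finite P] (h : IsMetacyclic P) : Bad p P :=
  ⟨noWr_of_cyclic (isCyclic_commutator_of_isMetacyclic h), Or.inl h⟩

theorem trich3 {P : Type*} [Group P] [Finite P] (hP : IsPGroup p P) (hr : PRankLE p 2 P) (hc : ¬ IsMulCommutative P)
    (hp3 : p = 3) {x : P} (hx : Nat.card (centralizer ({x} : Set P)) ≤ p ^ 2) : Concl p P ∨ Bad p P := by
  obtain ⟨n, hn⟩ := IsPGroup.iff_card.1 hP
  have h3 : 3 ≤ n := by
    by_contra e
    have := isMulCommutative_of_card_le_sq (H := ⊤) (hP.to_subgroup ⊤)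
      (by rw [card_top, hn]; exact Nat.pow_le_pow_right hp.out.pos (by omega))
    exact hc ⟨⟨fun a b => comm_of_mem this trivial trivial⟩⟩
  have hcl := maxClass_of_centralizer hn (le_antisymm hx
    (sq_le_card_centralizer hP (hn ▸ Nat.pow_le_pow_right hp.out.pos (by omega)) x))
  rcases h3.eq_or_lt with rfl | h4
  · by_cases he : ∀ y : P, y ^ p = 1
    · exact Or.inl (Or.inl ⟨hc, hn, he⟩)
    push Not at he
    obtain ⟨y, hy⟩ := he
    obtain ⟨k, hk, e⟩ := (Nat.dvd_prime_pow hp.out).1 (hn ▸ orderOf_dvd_natCard y)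
    have h2 : k = 2 := by
      rcases (by omega : k = 0 ∨ k = 1 ∨ k = 2 ∨ k = 3) with rfl | rfl | rfl | rfl
      · rw [pow_zero, orderOf_eq_one_iff] at e; simp [e] at hy
      · exact absurd (by rw [← pow_one p, ← e, pow_orderOf_eq_one]) hy
      · rfl
      · exact absurd (isCyclic_of_orderOf_eq_card y (e.trans hn.symm)).isMulCommutative hc
    subst h2
    have hi : (zpowers y).index = p := by
      have := (zpowers y).card_mul_index
      rw [Nat.card_zpowers, e, hn, pow_succ p 2] at this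
      exact Nat.eq_of_mul_eq_mul_left (pow_pos hp.out.pos 2) this
    have := normal_of_index_eq hP hi
    exact Or.inr (bad_of_meta ⟨zpowers y, this, inferInstance, isCyclic_of_prime_card hi⟩)
  rcases Nat.even_or_odd n with he | ⟨k, rfl⟩
  swap
  · exact Or.inl (Or.inr ⟨hp3, k, by omega, hp3 ▸ hn, hcl⟩)
  have := hP.isNilpotent
  obtain ⟨G, h, hb, hl⟩ := exists_mxc (S := (⊤ : Subgroup P)) (card_top.trans hn) h4 (by
    rw [Ne, Subgroup.lowerCentralSeries_eq_bot_iff_nilpotencyClass_le]; omega)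
  exact Or.inr ⟨noWr_of_mx h hp3 hb hl hr, Or.inr fun A hA z h1 h2 h3 => mx_false h hp3 hb hl he hA h1 h2 h3⟩

theorem trich {P : Type*} [Group P] [Finite P] (hp2 : p ≠ 2) (hP : IsPGroup p P) (hr : PRankLE p 2 P) :
    Concl p P ∨ Bad p P := by
  by_cases hc : IsMulCommutative P
  · have e := (commutator_eq_bot_iff P).2 hc
    exact Or.inr ⟨noWr_of_cyclic (e ▸ inferInstance), Or.inr fun A hA z h1 _ h3 =>
      h1 (mem_bot.1 (hA ⊥ e.le z fun α hα => by rw [h3 α hα, inv_mul_cancel]; exact one_mem _))⟩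
  rcases blackburn_aux hp2 _ P rfl hP hr with h | ⟨h3, x, hx⟩ | ⟨M, W, x, a, h, hM, ha, hx⟩
  · exact Or.inr (bad_of_meta h)
  · exact trich3 hP hr hc h3 hx
  by_cases h3 : p = 3 ∧ Nat.card (centralizer ({x} : Set P)) ≤ p ^ 2
  · exact trich3 hP hr hc h3.1 h3.2
  have h1 := (h.ab hM ha).resolve_right h3
  by_cases haW : a ∈ W
  · refine Or.inl (Or.inl ⟨hc, ?_, bl_exp h hM ha h1 hx haW⟩)
    rw [← M.card_mul_index, h.idx, ← ha, sup_eq_left.2 (zpowers_le.2 haW), h.card, ← pow_succ]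
  · exact Or.inr ⟨noWr_of_bl h hM ha h1 haW, Or.inr fun A hA z a1 a2 a3 => bl_false h hM ha h1 hx haW h3 hA a1 a2 a3⟩

variable {K : Type*} [Group K] [Finite K]

/-- Yoshida's theorem. -/
theorem le_resOf (hp2 : p ≠ 2) (P : Sylow p K) (h : NoWr p P) :
    (P : Subgroup K) ⊓ pResidual p K ≤ resOf p (normalizer ((P : Subgroup K) : Set K)) := by
  by_contra hn
  obtain ⟨M, hMP, z, hz, hzM, hzn, hzp, hs, x, hx, φ, hφ, e⟩ := hw_core' P (W := P)
    ⟨le_rfl, fun g hg => eq_of_le_of_card_ge hg (card_map_of_injective (MulAut.conj g).injective).ge⟩ hn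
  have hI : Ip p (M.subgroupOf (P : Subgroup K)) ⊤ := ip_of_gen (x := ⟨z, hz⟩) le_top trivial hzM
    (mem_normalizer_iff.2 fun y => mem_normalizer_iff.1 hzn y) hzp fun y _ => by
      obtain ⟨a, ha, k, e⟩ := (mem_sup_zpowers_of_mem_normalizer hzn).1 (hs y.2)
      exact ⟨⟨a, hMP ha⟩, ha, k, Subtype.ext e⟩
  obtain ⟨k, hk⟩ : ∃ k, p - 1 = k + 2 := ⟨p - 3, by have := hp.out.two_le; omega⟩
  have hu := hMP (engel_mem hzn hx k)
  rw [hk, Function.iterate_succ_apply', Function.iterate_succ_apply'] at e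
  generalize (engel z)^[k] x = u at hu e
  have := h _ (⟨z, hz⟩ : (P : Subgroup K))⁻¹ hI (fun m => hzM (by simpa [mem_subgroupOf] using m))
    (fun y => Multiplicative.toAdd (φ y)) (fun a ha b hb => congrArg Multiplicative.toAdd (hφ a ha b hb))
    ⁅(⟨u, hu⟩ : (P : Subgroup K))⁻¹, (⟨z, hz⟩ : (P : Subgroup K))⁻¹⁆ (commutator_mem_commutator trivial trivial)
  refine e (Multiplicative.toAdd.injective (Eq.trans ?_ this))
  congr 2
  simp [dl, commutatorElement_def, mul_assoc]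

theorem td_of_le (P : Sylow p K) (h : (P : Subgroup K) ≤ resOf p (normalizer ((P : Subgroup K) : Set K))) :
    TD (Set.range (P : Subgroup K).normalizerMonoidHom) := by
  intro D hD u hu
  have hn : D.Normal := ⟨fun y hy g => by
    simpa [commutatorElement_def, mul_assoc] using
      D.mul_mem (hD (commutator_mem_commutator (mem_top g) (mem_top y))) hy⟩
  have hc := Normal.quotient_commutative_iff_commutator_le.2 hD
  let : CommGroup ((P : Subgroup K) ⧸ D) := { (inferInstance : Group _) with mul_comm := hc.is_comm.comm }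
  let ψ : (P : Subgroup K).subgroupOf (normalizer ((P : Subgroup K) : Set K)) →* (P : Subgroup K) ⧸ D :=
    (QuotientGroup.mk' D).comp (subgroupOfEquivOfLe le_normalizer).toMonoidHom
  have h1 := Invol.transfer_eq_pow_of ψ ⟨u, le_normalizer u.2⟩ (QuotientGroup.mk' D u) fun k g m _ => by
    have e : QuotientGroup.mk' D u = QuotientGroup.mk' D ((P : Subgroup K).normalizerMonoidHom g⁻¹ u) :=
      QuotientGroup.eq.2 (hu _ ⟨_, rfl⟩)
    rw [e, ← map_pow]
    refine congrArg (QuotientGroup.mk' D) (Subtype.ext ?_)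
    change (g : K)⁻¹ * (u : K) ^ k * g = ((g : K)⁻¹ * u * (g : K)⁻¹⁻¹) ^ k
    rw [conj_pow, inv_inv]
  have hQ : IsPGroup p ((P : Subgroup K) ⧸ D) := P.2.to_quotient D
  have h2 : (⟨u, le_normalizer u.2⟩ : normalizer ((P : Subgroup K) : Set K)) ∈ pResidual p _ := by
    have := h u.2
    rw [← map_pResidual] at this
    obtain ⟨v, hv, e⟩ := this
    exact (Subtype.ext e : v = ⟨u, le_normalizer u.2⟩) ▸ hv
  rw [MonoidHom.mem_ker.1 (pResidual_le_ker hQ _ h2)] at h1
  have h3 : ¬ p ∣ ((P : Subgroup K).subgroupOf (normalizer ((P : Subgroup K) : Set K))).index := fun d =>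
    P.not_dvd_index (d.trans (relIndex_dvd_index_of_le le_normalizer))
  refine (QuotientGroup.eq_one_iff u).1 (orderOf_eq_one_iff.1 ?_)
  obtain ⟨k, hk⟩ := hQ (QuotientGroup.mk' D u)
  exact Nat.eq_one_of_dvd_coprimes (((Nat.Prime.coprime_iff_not_dvd hp.out).2 h3).pow_left k)
    (orderOf_dvd_of_pow_eq_one hk) (orderOf_dvd_of_pow_eq_one h1.symm)

theorem concl (hp2 : p ≠ 2) (P : Sylow p K) (hr : PRankLE p 2 P) (hK : pResidual p K = ⊤) {z : K}
    (hz : z ∈ (P : Subgroup K)) (h1 : z ≠ 1) (hN : normalizer ((P : Subgroup K) : Set K) ≤ centralizer {z}) :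
    Concl p P := by
  refine (trich hp2 P.2 hr).resolve_right fun ⟨hw, hb⟩ => ?_
  have hT := td_of_le P (by simpa [hK] using le_resOf hp2 P hw)
  have hf : ∀ α ∈ Set.range (P : Subgroup K).normalizerMonoidHom, α ⟨z, hz⟩ = ⟨z, hz⟩ := by
    rintro _ ⟨g, rfl⟩
    refine Subtype.ext ?_
    change (g : K) * z * (g : K)⁻¹ = z
    rw [mem_centralizer_singleton_iff.1 (hN g.2), mul_inv_cancel_right]
  have h1' : (⟨z, hz⟩ : (P : Subgroup K)) ≠ 1 := fun e => h1 (congrArg Subtype.val e)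
  rcases hb with hm | hb
  swap
  · exact hb _ hT _ h1' (mem_center_iff.2 fun g =>
      Subtype.ext (mem_centralizer_singleton_iff.1 (hN (le_normalizer g.2)))) hf
  have hi : ¬ p ∣ (P : Subgroup K).relIndex (normalizer ((P : Subgroup K) : Set K)) := fun d =>
    P.not_dvd_index (d.trans (relIndex_dvd_index_of_le le_normalizer))
  obtain ⟨n, hn⟩ := IsPGroup.iff_card.1 P.2
  obtain ⟨H, a1, -, a3, a4⟩ := Hall.sz_exists_internal (N := (P : Subgroup K)) le_normalizer le_rfl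
    (by rw [hn]; exact ((Nat.Prime.coprime_iff_not_dvd hp.out).2 hi).pow_left n)
  obtain ⟨-, -, b3, b4⟩ := BG1.coprime_metacyclic hp.out hp2 P.2 hm a1 (a4 ▸ hi)
  have hz' := hT _ le_rfl ⟨z, hz⟩ fun α hα => by rw [hf α hα, inv_mul_cancel]; exact one_mem _
  have hc : ¬ IsMulCommutative (P : Subgroup K) := fun e => h1' (by rwa [(commutator_eq_bot_iff _).2 e, mem_bot] at hz')
  have hH : ¬ H ≤ centralizer ((P : Subgroup K) : Set K) := fun e => by
    have : Nontrivial (P : Subgroup K) := ⟨_, _, h1'⟩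
    have := P.2.isNilpotent
    refine (Group.IsSolvable.commutator_lt_top_of_nontrivial (P : Subgroup K)).not_ge fun y _ => hT _ le_rfl y ?_
    rintro _ ⟨⟨g, hg⟩, rfl⟩
    obtain ⟨u, hu, v, hv, rfl⟩ := (Core.mem_sup_of_le_normalizer_left a1).1 (a3.ge hg)
    have : y⁻¹ * (P : Subgroup K).normalizerMonoidHom ⟨u * v, hg⟩ y = ⁅y⁻¹, (⟨u, hu⟩ : (P : Subgroup K))⁆ := by
      refine Subtype.ext ?_
      change (y : K)⁻¹ * (u * v * y * (u * v)⁻¹) = (y : K)⁻¹ * u * (y : K)⁻¹⁻¹ * u⁻¹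
      rw [mul_assoc u v, ← e hv y y.2]; group
    rw [this]
    exact commutator_mem_commutator trivial trivial
  refine h1 (mem_bot.1 (b3 ▸ mem_inf.2 ⟨(b4 hc hH).2.2.2.2 ?_, hz, fun g hg =>
    mem_centralizer_singleton_iff.1 (hN (a1 hg))⟩))
  rw [← map_subtype_commutator]
  exact ⟨_, hz', rfl⟩

end Cfsg.Lib.JTW.Iso
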