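import Cfsg.Agent.Lib.JTW.Herz3
import Cfsg.Agent.Lib.Hall.SolvCrit

/-! Doubly transitive affine groups over `𝔽₂` without translations whose point stabiliser has odd order and
normalises the multiplications of a field. -/

set_option autoImplicit false
set_option linter.unusedSectionVars false
set_option linter.style.haveILetI false

namespace Cfsg.Lib.JTW
open Subgroup Cfsg.Lib.Core Cfsg.Lib.BG1 Cfsg.Lib.Invol Cfsg.Lib.Layer Cfsg.Lib.Gold Cfsg.Lib.Linear Function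
open Cfsg.Lib.Amalg hiding le_cent_symm op_top
open Cfsg.Lib.GW hiding Ctx
open scoped Cfsg.Lib.Wal

structure Aff (Γ F : Type*) [Group Γ] [Field F] [MulAction Γ F] : Prop where
  two : ∀ x : F, x + x = 0
  big : 2 < Nat.card F
  add : ∀ (g : Γ) (x y : F), g • (x + y) = g • x + g • y + g • (0 : F)
  mul : ∀ a : F, a ≠ 0 → ∃ g : Γ, ∀ x : F, g • x = a * x
  nrm : ∀ g : Γ, g • (0 : F) = 0 → ∀ a : F, ∃ b : F, ∀ x : F, g • (a * x) = b * g • x
  odd : ∀ g : Γ, g • (0 : F) = 0 → Odd (orderOf g)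
  mv : ∃ g : Γ, g • (0 : F) ≠ 0
  ntr : ∀ g : Γ, (∀ x : F, g • x = x + g • (0 : F)) → g = 1

variable {Γ F : Type*} [Group Γ] [Finite Γ] [Field F] [Finite F] [MulAction Γ F] {g u v w φ : Γ} {x y : F} {p l : ℕ}
  {M P : Subgroup Γ}

theorem eq_one_of_inv_odd {G : Type*} [Group G] [Finite G] {g y : G} (h : g * y * g⁻¹ = y⁻¹) (h1 : Odd (orderOf g))
    (h2 : Odd (orderOf y)) : y = 1 := by
  have := conj_odd_pow_of_swap h (show g * y⁻¹ * g⁻¹ = y by rw [← conj_inv, h, inv_inv]) h1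
  rw [pow_orderOf_eq_one, one_mul, inv_one, mul_one] at this
  by_contra e
  rw [two_of_mul_self (mul_eq_one_iff_eq_inv.2 this) e] at h2
  exact absurd h2 (by decide)

namespace Aff
variable (h : Aff Γ F)
include h

theorem faith (e : ∀ x : F, g • x = x) : g = 1 := h.ntr g fun x => by rw [e, e, add_zero]

theorem tr (x : F) : ∃ g : Γ, g • (0 : F) = x := by
  obtain rfl | hx := eq_or_ne x 0
  · exact ⟨1, one_smul _ _⟩
  obtain ⟨g, hg⟩ := h.mv
  obtain ⟨m, hm⟩ := h.mul (x / g • (0 : F)) (div_ne_zero hx hg)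
  exact ⟨m * g, by rw [mul_smul, hm, div_mul_cancel₀ _ hg]⟩

theorem tr2 (e : y ≠ x) : ∃ g : Γ, g • (0 : F) = x ∧ g • (1 : F) = y := by
  obtain ⟨g, rfl⟩ := h.tr x
  obtain ⟨m, hm⟩ := h.mul (g⁻¹ • y) fun k => e (by rw [← k, smul_inv_smul])
  exact ⟨g * m, by rw [mul_smul, hm, mul_zero], by rw [mul_smul, hm, mul_one, smul_inv_smul]⟩

theorem odd' (e : g • x = x) : Odd (orderOf g) := by
  obtain ⟨k, rfl⟩ := h.tr x
  exact Invol.orderOf_conj' k g ▸ h.odd _ (by rw [mul_smul, mul_smul, e, inv_smul_smul])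

theorem fpf (e : orderOf g = 2) (x : F) : g • x ≠ x := fun k => absurd (e ▸ h.odd' k) (by decide)

theorem card : ∃ n, Nat.card F = 2 ^ n := by
  haveI := fact_two
  exact (IsPGroup.iff_card (G := Multiplicative F)).1 fun x => ⟨1, by rw [pow_one, sq]; exact h.two x.toAdd⟩

theorem fix (hp : p.Prime) (h2 : p ≠ 2) (e : orderOf g = p) : ∃ x : F, g • x = x := by
  haveI := Fact.mk hp
  obtain ⟨n, hn⟩ := h.card
  obtain ⟨x, hx⟩ := (Amalg.isPGroup_zpowers_of_orderOf (k := 1) (by rw [e, pow_one])).nonempty_fixed_point_of_prime_not_dvd_card F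
    fun d => h2 ((Nat.prime_dvd_prime_iff_eq hp Nat.prime_two).1 (hp.dvd_of_dvd_pow (hn ▸ d)))
  exact ⟨x, hx ⟨g, mem_zpowers g⟩⟩

theorem hom (h0 : g • (0 : F) = 0) (h1 : g • (1 : F) = 1) (a x : F) : g • (a * x) = g • a * g • x := by
  obtain ⟨b, hb⟩ := h.nrm g h0 a
  rw [hb, ← mul_one a, hb, h1, mul_one]

theorem card_pow (h0 : ∀ g ∈ M, g • (0 : F) = 0 ∧ g • (1 : F) = 1) (h1 : ∀ x : F, (∀ g ∈ M, g • x = x) → x = 0 ∨ x = 1) :
    Nat.card F = 2 ^ Nat.card M := by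
  classical
  letI : MulSemiringAction M F := { (inferInstance : MulAction M F) with
    smul_zero := fun g => (h0 g g.2).1
    smul_add := fun g x y => (h.add g x y).trans (by rw [(h0 g g.2).1, add_zero]; rfl)
    smul_one := fun g => (h0 g g.2).2
    smul_mul := fun g => h.hom (h0 g g.2).1 (h0 g g.2).2 }
  haveI : FaithfulSMul M F := ⟨fun {a b} e => Subtype.ext (inv_mul_eq_one.1 (h.faith fun x => by
    rw [mul_smul, inv_smul_eq_iff]; exact (e x).symm))⟩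
  haveI := Fintype.ofFinite M
  rw [Module.natCard_eq_pow_finrank (K := FixedPoints.subfield M F), FixedPoints.finrank_eq_card, Nat.card_eq_fintype_card (α := M)]
  congr 1
  rw [Nat.card_eq_two_iff]
  refine ⟨0, 1, zero_ne_one, Set.eq_univ_of_forall fun x => ?_⟩
  rcases h1 x fun g hg => x.2 ⟨g, hg⟩ with e | e
  exacts [Or.inl (Subtype.ext e), Or.inr (Subtype.ext e)]

theorem swap (e : v * v = 1) (h0 : v • x = y) : v • y = x := by rw [← h0, smul_smul, e, one_smul]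

theorem exists_two : ∃ u : Γ, orderOf u = 2 := by
  obtain ⟨g, h0, h1⟩ := h.tr2 (zero_ne_one (α := F))
  obtain ⟨t, -, ht⟩ := exists_two_zpowers_of_even (x := g) (Nat.not_odd_iff_even.1 fun ⟨k, hk⟩ => by
    have : ∀ k : ℕ, g ^ (2 * k + 1) • (0 : F) = 1 := fun k => by
      induction k with
      | zero => simpa using h0
      | succ k ih => rw [mul_add, add_right_comm, add_comm, pow_add, mul_smul, ih, mul_one, sq, mul_smul, h1, h0]
    have := this k
    rw [← hk, pow_orderOf_eq_one, one_smul] at this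
    exact zero_ne_one this)
  exact ⟨t, ht⟩

theorem core : pCore 2 Γ = ⊥ := by
  haveI := fact_two
  obtain ⟨n, hn⟩ := h.card
  have hN := pCore_normal (p := 2) (G := Γ)
  have k1 : ∀ (g : Γ) (x y : F), g • (x + y) + g • (0 : F) = g • x + g • y := fun g x y => by
    rw [h.add, add_assoc, h.two, add_zero]
  letI : MulAction (pCore 2 Γ) (Multiplicative F) :=
    { smul := fun g x => Multiplicative.ofAdd ((g : Γ) • x.toAdd + (g : Γ) • (0 : F))
      one_smul := fun x => by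
        show Multiplicative.ofAdd ((1 : Γ) • x.toAdd + (1 : Γ) • (0 : F)) = x
        simp
      mul_smul := fun a b x => congrArg Multiplicative.ofAdd (by
        show ((a : Γ) * b) • _ + ((a : Γ) * b) • _ = (a : Γ) • ((b : Γ) • x.toAdd + (b : Γ) • (0 : F)) + _
        rw [k1, mul_smul, mul_smul]) }
  obtain ⟨a, ha, a0⟩ := (isPGroup_pCore (p := 2) (G := Γ)).exists_fixed_point_of_prime_dvd_card_of_fixed_point
    (Multiplicative F) (by
      rw [show Nat.card (Multiplicative F) = Nat.card F from rfl, hn]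
      exact dvd_pow_self 2 fun e => by have := h.big; rw [hn, e] at this; omega) (a := 1)
    fun g => congrArg Multiplicative.ofAdd (h.two _)
  refine eq_bot_iff.2 fun g hg => h.ntr g fun x => ?_
  obtain rfl | hx := eq_or_ne x 0
  · rw [zero_add]
  have a1 : a.toAdd ≠ 0 := fun e => a0 (congrArg Multiplicative.ofAdd e).symm
  obtain ⟨m, hm⟩ := h.mul (x / a.toAdd) (div_ne_zero hx a1)
  have k2 : (m⁻¹ * g * m) • a.toAdd + (m⁻¹ * g * m) • (0 : F) = a.toAdd :=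
    congrArg Multiplicative.toAdd (ha ⟨_, hN.conj_mem' g hg m⟩)
  have k3 := congrArg (m • ·) k2
  simp only [h.add, mul_smul, smul_inv_smul] at k3
  simp only [hm, mul_zero, div_mul_cancel₀ _ a1, add_zero] at k3
  rw [← eq_sub_iff_add_eq] at k3
  rw [k3, sub_eq_add_neg, neg_eq_of_add_eq_zero_left (h.two _)]

end Aff

structure AffX (F : Type*) [Field F] [MulAction Γ F] (u φ : Γ) (l : ℕ) : Prop extends Aff Γ F where
  pr : l.Prime
  l2 : l ≠ 2
  ord : orderOf φ = l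
  uu : u * u = 1
  u0 : u • (0 : F) = 1
  f0 : φ • (0 : F) = 0
  f1 : φ • (1 : F) = 1
  inv : u * φ * u⁻¹ = φ⁻¹

theorem two_of_prime {G : Type*} [Group G] [Finite G] {H : Subgroup G}
    (h : ∀ y ∈ H, ∀ p : ℕ, p.Prime → p ≠ 2 → orderOf y ≠ p) : IsPGroup 2 H :=
  have := fact_two
  isPGroup_of_forall_pPrime fun A h1 h2 => by_contra fun e => by
    obtain ⟨p, hp, hd⟩ := Nat.exists_prime_and_dvd (mt card_eq_one.1 e)
    haveI := Fact.mk hp
    obtain ⟨y, hy⟩ := exists_prime_orderOf_dvd_card' p hd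
    exact h y (h1 y.2) p hp (fun k => by subst k; exact (Nat.coprime_two_right.1 h2).not_two_dvd_nat hd)
      ((orderOf_coe y).trans hy)

theorem Aff.exists_x (h : Aff Γ F) : ∃ (u φ : Γ) (l : ℕ), AffX F u φ l := by
  by_contra hn
  obtain ⟨u, hu⟩ := h.exists_two
  refine ne_one_of_two hu (mem_bot.1 (h.core ▸ baer_suzuki (A := zpowers u) Nat.prime_two (fun g => ?_) (mem_zpowers u)))
  rw [zpowers_sup_map_conj]
  have u2 := mul_self_of_two hu
  have v2 := mul_self_of_two ((Invol.orderOf_conj g u).trans hu)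
  generalize g * u * g⁻¹ = v at v2
  refine two_of_prime fun y hy p hp p2 e => hn ?_
  obtain ⟨k, rfl | rfl⟩ := (mem_closure_invols_iff u2 v2 y).1 hy
  · obtain ⟨x, hx⟩ := h.fix hp p2 e
    have i := conj_zpow_of_inv (left_inverts u2 v2) k
    generalize (u * v) ^ k = y at *
    obtain ⟨c, c0, c1⟩ := h.tr2 (h.fpf hu x)
    refine ⟨c⁻¹ * u * c, c⁻¹ * y * c, p, h, hp, p2, (Invol.orderOf_conj' c y).trans e, ?_, ?_, ?_, ?_, ?_⟩
    · rw [show c⁻¹ * u * c * (c⁻¹ * u * c) = c⁻¹ * (u * u) * c by group, u2]; group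
    · rw [mul_smul, mul_smul, c0, ← c1, inv_smul_smul]
    · rw [mul_smul, mul_smul, c0, hx, ← c0, inv_smul_smul]
    · rw [mul_smul, mul_smul, c1, smul_smul y, ← inv_inv y, ← i, show (u * y * u⁻¹)⁻¹ * u = u * y⁻¹ by group, mul_smul,
        inv_smul_eq_iff.2 hx.symm, ← c1, inv_smul_smul]
    · rw [show c⁻¹ * u * c * (c⁻¹ * y * c) * (c⁻¹ * u * c)⁻¹ = c⁻¹ * (u * y * u⁻¹) * c by group, i]; group
  · have := orderOf_dvd_of_pow_eq_one ((sq _).trans ((mul_zpow_mul_self (left_inverts u2 v2) k).trans u2))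
    exact absurd ((Nat.prime_dvd_prime_iff_eq hp Nat.prime_two).1 (e ▸ this)) p2

namespace AffX
variable (h : AffX F u φ l)
include h

theorem u1 : u • (1 : F) = 0 := h.swap h.uu h.u0
theorem oddf : Odd (orderOf φ) := h.odd φ h.f0
theorem f_ne : φ ≠ 1 := fun e => h.pr.one_lt.ne (by rw [← h.ord, e, orderOf_one])
theorem u2 : orderOf u = 2 := two_of_mul_self h.uu fun e => by have := h.u0; rw [e, one_smul] at this; exact zero_ne_one this

theorem ne_one (hc : Commute g φ) : g • (0 : F) ≠ 1 := fun e => h.f_ne (eq_one_of_inv_odd (g := g⁻¹ * u) (by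
    rw [show g⁻¹ * u * φ * (g⁻¹ * u)⁻¹ = g⁻¹ * (u * φ * u⁻¹) * g by group, h.inv, mul_assoc, ← hc.inv_right.eq,
      inv_mul_cancel_left]) (h.odd _ (by rw [mul_smul, h.u0, ← e, inv_smul_smul])) h.oddf)

theorem fixf (e : φ • x = x) : x = 0 ∨ x = 1 := by
  by_contra hn
  have k : ∀ a : F, a ≠ 0 → φ • a = a → ∃ m : Γ, Commute m φ ∧ ∀ x : F, m • x = a * x := fun a a0 ha => by
    obtain ⟨m, hm⟩ := h.mul a a0
    refine ⟨m, mul_inv_eq_one.1 (h.faith fun y => ?_), hm⟩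
    obtain ⟨y, rfl⟩ := MulAction.surjective (φ * m) y
    simp only []
    rw [smul_smul, inv_mul_cancel_right, mul_smul, mul_smul, hm, hm, h.hom h.f0 h.f1, ha]
  obtain ⟨m, m1, m2⟩ := k x (fun e => hn (.inl e)) e
  have c1 : Commute (u * m * u⁻¹) φ := by simpa [h.inv] using (commute_conj u m1).inv_right
  have c2 : (u * m * u⁻¹) • (0 : F) = u • x := by rw [inv_of_two h.u2, mul_smul, mul_smul, h.u0, m2, mul_one]
  have c3 : u • x ≠ 0 := fun e => hn (.inr (by rw [← h.u0, h.swap h.uu e]))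
  have c4 : φ • u • x = u • x := by rw [← c2, smul_smul, ← c1.eq, mul_smul, h.f0]
  obtain ⟨n, n1, n2⟩ := k (u • x)⁻¹ (inv_ne_zero c3) (eq_inv_of_mul_eq_one_left (by
    nth_rw 2 [← c4]; rw [← h.hom h.f0 h.f1, inv_mul_cancel₀ c3, h.f1]))
  exact h.ne_one (n1.mul_left c1) (by rw [mul_smul, c2, n2, inv_mul_cancel₀ c3])

theorem cardF : Nat.card F = 2 ^ l := by
  rw [h.card_pow (M := zpowers φ) (fun g hg => ⟨zpowers_le.2 (show φ ∈ MulAction.stabilizer Γ _ from h.f0) hg,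
    zpowers_le.2 (show φ ∈ MulAction.stabilizer Γ _ from h.f1) hg⟩) fun x e => h.fixf (e φ (mem_zpowers φ)), Nat.card_zpowers, h.ord]

theorem stab : MulAction.stabilizer Γ (0 : F) ⊓ MulAction.stabilizer Γ (1 : F) = zpowers φ := by
  have k : zpowers φ ≤ MulAction.stabilizer Γ (0 : F) ⊓ MulAction.stabilizer Γ (1 : F) := zpowers_le.2 ⟨h.f0, h.f1⟩
  refine (eq_of_le_of_card_le' k (Nat.pow_right_injective le_rfl ?_).le).symm
  show 2 ^ _ = 2 ^ _
  rw [Nat.card_zpowers, h.ord, ← h.cardF, h.card_pow (fun g hg => hg) fun x e => h.fixf (e φ (k (mem_zpowers φ)))]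

theorem mem (h0 : g • (0 : F) = 0) (h1 : g • (1 : F) = 1) : g ∈ zpowers φ := h.stab.le ⟨h0, h1⟩

theorem cent (hv : orderOf v = 2) : IsPGroup 2 𝐂[v] := two_of_prime fun y hy p hp p2 e => by
  obtain ⟨x, hx⟩ := h.fix hp p2 e
  obtain ⟨c, c0, c1⟩ := h.tr2 (h.fpf hv x)
  have hc := mem_cent.1 hy
  have k1 : c⁻¹ * y * c ∈ zpowers φ := h.mem (by rw [mul_smul, mul_smul, c0, hx, ← c0, inv_smul_smul])
    (by rw [mul_smul, mul_smul, c1, smul_smul y, hc.eq, mul_smul, hx, ← c1, inv_smul_smul])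
  have k2 : φ ∈ zpowers (c⁻¹ * y * c) := by
    haveI := Fact.mk h.pr
    rw [eq_of_le_of_card_le' (zpowers_le.2 k1) (by
      rw [Nat.card_zpowers, Nat.card_zpowers, Invol.orderOf_conj', e, h.ord,
        (Nat.prime_dvd_prime_iff_eq hp h.pr).1 (e ▸ h.ord ▸ Invol.orderOf_conj' c y ▸ orderOf_dvd_of_mem_zpowers k1)])]
    exact mem_zpowers φ
  obtain ⟨k, hk⟩ := k2
  refine h.ne_one (g := c⁻¹ * v * c) (hk ▸ Commute.zpow_right (by simpa using commute_conj c⁻¹ hc.symm) k) ?_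
  rw [mul_smul, mul_smul, c0, ← c1, inv_smul_smul]

theorem conj (hv : orderOf v = 2) : IsConj v u := by
  obtain ⟨c, c0, c1⟩ := h.tr2 (h.fpf hv 0)
  refine (isConj_conj c⁻¹ v).trans (isConj_of_odd (mul_self_of_two ((Invol.orderOf_conj _ _).trans hv)) h.uu (h.odd' (x := 1) ?_))
  rw [mul_smul, h.u1, inv_inv, mul_smul, mul_smul, c0, ← c1, inv_smul_smul]

theorem card_syl (hP : Syl 2 P ⊤) : Nat.card P = 2 ^ l := by
  haveI := fact_two
  refine Nat.dvd_antisymm ?_ ?_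
  · rw [← h.cardF, ← Set.ncard_univ F]
    exact card_dvd_ncard_of_semiregular P _ (Set.toFinite _) (fun _ _ _ _ => Set.mem_univ _) fun a ha x _ e =>
      eq_one_of_odd_of_mem hP.isPGroup ha (h.odd' e)
  · rw [hP.card_eq_pow, card_top]
    refine pow_dvd_pow 2 ((Nat.prime_two.pow_dvd_iff_le_factorization Nat.card_pos.ne').1 ?_)
    rw [← h.cardF, ← ncard_orbit_mul_card_stabilizer (G := Γ) (0 : F), Set.eq_univ_of_forall (s := MulAction.orbit Γ (0 : F)) h.tr,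
      Set.ncard_univ]
    exact dvd_mul_right _ _

theorem syl_cent (hv : orderOf v = 2) : Syl 2 𝐂[v] ⊤ := by
  haveI := fact_two
  obtain ⟨P, hP, h1⟩ := exists_syl_ge (isPGroup_zpowers_two hv) le_top
  obtain ⟨z, -, z2, z3⟩ := exists_central hP.isPGroup fun e => ne_one_of_two hv (mem_bot.1 (e ▸ h1 (mem_zpowers v)))
  obtain ⟨g, rfl⟩ := isConj_iff.1 ((h.conj z2).trans (h.conj hv).symm)
  rw [← cj_centralizer_singleton, hP.eq_of_le 𝐂[z] (fun x hx => mem_cent.2 (z3 x hx).symm) le_top (h.cent z2)]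
  exact hP.conj_top g

theorem reg (hP : IsPGroup 2 P) (ho : Odd (orderOf g)) : Regular P (zpowers g) := fun r hr r1 => by_contra fun e => by
  haveI := fact_two
  obtain ⟨v, hv, v2⟩ := exists_two_mem_of_even (even_iff_two_dvd.2 (dvd_card_of_isPGroup_ne_bot hP.to_inf_left e))
  exact r1 (eq_one_of_odd_of_mem (h.cent v2) (mem_cent.2 (mem_cent.1 hv.2).symm) (ho.of_dvd_nat (orderOf_dvd_of_mem_zpowers hr)))

theorem uniq (hP : Syl 2 P ⊤) (hv : v ∈ omegaOneCenter 2 P) (hw : w ∈ omegaOneCenter 2 P) (v1 : v ≠ 1) (w1 : w ≠ 1) (e : v ≠ w) :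
    P ≤ 𝐂(P) := by
  haveI := fact_two
  have k : ∀ v ∈ omegaOneCenter 2 P, v ≠ 1 → orderOf v = 2 ∧ 𝐂[v] = P := fun v hv v1 =>
    have v2 := two_of_sq (mem_omZ_iff.1 hv).2.2 v1
    ⟨v2, hP.eq_of_le _ (fun x hx => mem_cent.2 (mem_centS.1 (omZ_le_cent P hv) x hx).symm) le_top (h.cent v2)⟩
  obtain ⟨g, rfl⟩ := isConj_iff.1 ((h.conj (k v hv v1).1).trans (h.conj (k w hw w1).1).symm)
  have k1 : ¬ IsPGroup 2 𝐍(P) := fun k1 => e (by
    rw [(mem_centS.1 (omZ_le_cent P hv) g (hP.le_of_le le_normalizer le_top k1 (cj_eq_self_iff.1 (by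
      rw [← (k v hv v1).2, cj_centralizer_singleton, (k _ hw w1).2, (k v hv v1).2])))).symm.eq, mul_inv_cancel_right])
  have k2 := mt two_of_prime k1
  push Not at k2
  obtain ⟨y, hy, p, hp, p2, rfl⟩ := k2
  have d1 := (h.reg hP.isPGroup (hp.odd_of_ne_two p2)).card_dvd (zpowers_le.2 hy)
  have d2 := (h.reg (isPGroup_omZ P) (hp.odd_of_ne_two p2)).card_dvd (zpowers_le.2 (norm_le_norm_omZ P hy))
  obtain ⟨n, hn⟩ := (isPGroup_omZ (p := 2) P).exists_card_eq
  have d3 := Nat.dvd_gcd d2 d1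
  have c := h.card_syl hP
  rw [hn, c, Nat.pow_sub_one_gcd_pow_sub_one, Nat.card_zpowers] at d3
  have d4 : l ∣ n := by_contra fun d => by
    rw [((Nat.Prime.coprime_iff_not_dvd h.pr).2 d).symm] at d3
    exact hp.one_lt.ne' (Nat.dvd_one.1 d3)
  rw [← eq_of_le_of_card_le' (omZ_le (p := 2) P) (by
    rw [hn, c]
    exact Nat.pow_le_pow_right two_pos (Nat.le_of_dvd (Nat.pos_of_ne_zero fun n0 => v1 (mem_bot.1 (card_eq_one.1 (by
      rw [hn, n0, pow_zero]) ▸ hv))) d4))]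
  exact (omZ_le P).trans (le_cent_omZ P)

theorem eq_bot (hP : IsPGroup 2 P) (hf : φ ∈ 𝐍(P)) (hu : P ≤ 𝐂[u]) : P = ⊥ := by
  refine eq_bot_iff.2 (le_trans (le_inf le_rfl fun x hx => mem_cent.2 ?_) (h.reg hP h.oddf (φ * φ) (mul_mem (mem_zpowers φ) (mem_zpowers φ))
    fun e => h.l2 (h.ord ▸ two_of_mul_self e h.f_ne)).le)
  have := (mem_cent.1 (hu (conj_mem_norm hf hx))).symm.mul_inv_cancel
  rw [← conj_mul, ← conj_mul, h.inv, (mem_cent.1 (hu hx)).symm.mul_inv_cancel, ← conj_inv, h.inv] at this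
  exact (show φ * φ * x = x * (φ * φ) by
    rw [show φ * φ * x = φ * (φ * x * φ⁻¹) * φ by group, ← this]; group).symm

theorem exists_B : ∃ B : Subgroup Γ, u ∈ B ∧ φ ∈ B ∧ Nat.card B = 2 ^ l * l := by
  have k : ∀ g : Γ, g • (1 : F) = g • (0 : F) + 1 → ∀ x : F, g • (x + 1) = g • x + 1 := fun g e x => by
    rw [h.add, e, add_assoc, add_right_comm (g • (0 : F)), h.two, zero_add]
  let B : Subgroup Γ := ⟨⟨⟨{g | g • (1 : F) = g • (0 : F) + 1}, fun {a b} ha hb => by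
    show _ = _
    rw [mul_smul, mul_smul, hb, k a ha]⟩, by simp⟩, fun {a} ha => by
    show _ = _
    rw [inv_smul_eq_iff, k a ha, smul_inv_smul, zero_add]⟩
  refine ⟨B, show _ = _ by rw [h.u0, h.u1, h.two], show _ = _ by rw [h.f0, h.f1, zero_add], ?_⟩
  rw [← ncard_orbit_mul_card_inf_stabilizer B (0 : F), ← h.cardF, ← Set.ncard_univ F, ← h.ord, ← Nat.card_zpowers, ← h.stab]
  refine congrArg₂ _ (congrArg _ ?_) (congrArg (fun H : Subgroup Γ => Nat.card H) ?_)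
  · refine Set.eq_univ_of_forall fun x => ?_
    obtain ⟨g, g0, g1⟩ := h.tr2 (x := x) (y := x + 1) (by simp)
    exact ⟨⟨g, show _ = _ by rw [g0, g1]⟩, g0⟩
  · ext g
    exact ⟨fun e => ⟨e.2, e.1.trans (by rw [e.2, zero_add])⟩, fun e => ⟨show _ = _ by rw [e.1, e.2, zero_add], e.1⟩⟩

theorem norm (hg : g ∈ 𝐍(zpowers φ)) : g ∈ zpowers φ ∨ u * g ∈ zpowers φ := by
  have k : ∀ x : F, x = 0 ∨ x = 1 → g • x = 0 ∨ g • x = 1 := fun x hx => h.fixf (by
    have := h.stab.ge (conj_mem_norm (inv_mem hg) (mem_zpowers φ))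
    rw [smul_smul, show φ * g = g * (g⁻¹ * φ * g⁻¹⁻¹) by group, mul_smul]
    rcases hx with rfl | rfl
    exacts [congrArg _ this.1, congrArg _ this.2])
  rcases k 0 (.inl rfl) with e | e <;> rcases k 1 (.inr rfl) with e' | e'
  · exact absurd (MulAction.injective g (e.trans e'.symm)) zero_ne_one
  · exact .inl (h.mem e e')
  · exact .inr (h.mem (by rw [mul_smul, e, h.u1]) (by rw [mul_smul, e', h.u0]))
  · exact absurd (MulAction.injective g (e.trans e'.symm)) zero_ne_one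

theorem exists_U : ∃ U P : Subgroup Γ, Syl 2 P ⊤ ∧ U ≤ P ∧ u ∈ P ∧ φ ∈ 𝐍(U) ∧ u ∈ 𝐍(U) ∧ ∀ x ∈ P, x ∈ U ∨ x * u ∈ U := by
  haveI := fact_two
  haveI := Fact.mk h.pr
  obtain ⟨B, hu, hf, hB⟩ := h.exists_B
  obtain ⟨P, hP, h1⟩ := exists_syl_ge (isPGroup_zpowers_two h.u2) (zpowers_le.2 hu)
  obtain ⟨S, hS⟩ := exists_syl 2 (⊤ : Subgroup Γ)
  have c2 : ∀ r : ℕ, r.Prime → r ∣ Nat.card B → r = 2 ∨ r = l := fun r hr d => by
    rw [hB, hr.dvd_mul] at d
    exact d.imp (fun d => (Nat.prime_dvd_prime_iff_eq hr Nat.prime_two).1 (hr.dvd_of_dvd_pow d))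
      (Nat.prime_dvd_prime_iff_eq hr h.pr).1
  refine ⟨pCoreOf 2 B, P, hS.of_card_ge hP.isPGroup le_top ?_, hP.op_le, h1 (mem_zpowers u), le_norm_op B hf, le_norm_op B hu,
    fun x hx => ?_⟩
  · rw [h.card_syl hS, hP.card_eq_pow]
    exact Nat.pow_le_pow_right two_pos ((Nat.prime_two.pow_dvd_iff_le_factorization Nat.card_pos.ne').1 (hB ▸ dvd_mul_right _ _))
  haveI := Hall.isSolvable_of_two_primes Nat.prime_two h.pr c2
  haveI := pCore_normal (p := 2) (G := B)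
  have m1 : Syl l (zpowers φ) B := syl_of_not_dvd (zpowers_le.2 hf) (Amalg.isPGroup_zpowers_of_orderOf (k := 1) (by
    rw [h.ord, pow_one])) fun d => h.l2 ((Nat.prime_dvd_prime_iff_eq h.pr Nat.prime_two).1 (h.pr.dvd_of_dvd_pow (n := l) (by
      have := Clifford.card_mul_relIndex (zpowers_le.2 hf)
      rw [hB, Nat.card_zpowers, h.ord, mul_comm] at this
      exact Nat.eq_of_mul_eq_mul_right h.pr.pos this ▸ d)))
  haveI : Nontrivial (B ⧸ pCore 2 B) := QuotientGroup.nontrivial_iff.2 fun e =>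
    h.f_ne (eq_one_of_odd_of_mem (op_eq_self_iff.1 (by rw [op_def, e, map_subtype_top])) hf h.oddf)
  obtain ⟨r, hr, r1⟩ := exists_pCore_ne_bot_of_solvable (G := B ⧸ pCore 2 B)
  haveI := Fact.mk hr
  obtain rfl | rfl := c2 r hr ((dvd_card_of_isPGroup_le (isPGroup_pCore _ _) r1 le_top).trans
    (card_top (G := B ⧸ pCore 2 B) ▸ card_quotient_dvd_card _))
  · exact absurd pCore_quotient_pCore r1
  have m2 := m1.subgroupOf_top.map_top (QuotientGroup.mk'_surjective (pCore 2 B))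
  have m3 : pCore r (B ⧸ pCore 2 B) = _ := eq_of_le_of_card_le' m2.pCore_le ((Nat.le_of_dvd Nat.card_pos (card_map_dvd _ _)).trans (by
    rw [Nat.card_congr (subgroupOfEquivOfLe m1.le).toEquiv, Nat.card_zpowers, h.ord]
    exact Nat.le_of_dvd Nat.card_pos (dvd_card_of_isPGroup_ne_bot (isPGroup_pCore _ _) r1)))
  have m4 : B ≤ 𝐍(pCoreOf 2 B ⊔ zpowers φ) := by
    have := pCore_normal (p := r) (G := B ⧸ pCore 2 B)
    have := le_normalizer_map_of_normal ((pCore r (B ⧸ pCore 2 B)).comap (QuotientGroup.mk' _))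
    rwa [m3, comap_map_eq, QuotientGroup.ker_mk', Subgroup.map_sup, map_subgroupOf_of_le m1.le, sup_comm] at this
  obtain ⟨n, hn, a, ha, rfl⟩ := (m1.of_le le_sup_right (sup_le (op_le B) m1.le)).frattini_mem (m4 (hP.le hx))
  obtain ⟨o, ho, b, hb, rfl⟩ := (mem_sup_of_le_normalizer' (m1.le.trans (le_norm_op B))).1 hn
  rw [mul_assoc] at hx ⊢
  have k := (mul_mem_cancel_left (hP.op_le ho)).1 hx
  have o1 : ∀ y ∈ zpowers φ, y ∈ P → y = 1 := fun y e e' =>
    eq_one_of_odd_of_mem hP.isPGroup e' (h.oddf.of_dvd_nat (orderOf_dvd_of_mem_zpowers e))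
  rcases h.norm (mul_mem (le_normalizer hb) ha) with e | e
  · exact .inl (by rwa [o1 _ e k, mul_one])
  · exact .inr (by rwa [mul_assoc, eq_inv_of_mul_eq_one_right (o1 _ e (mul_mem (h1 (mem_zpowers u)) k)), inv_mul_cancel, mul_one])

theorem dih : ∃ w : Γ, w * w = 1 ∧ (u * w) ^ 4 = 1 ∧ (u * w) ^ 2 ≠ 1 ∧ Syl 2 (closure {u, w}) ⊤ := by
  haveI := fact_two
  obtain ⟨U, P, hP, h1, h2, h3, h4, h5⟩ := h.exists_U
  have l3 : 3 ≤ l := by have := h.pr.two_le; have := h.l2; omega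
  have c := h.card_syl hP
  have U0 : U ≠ ⊥ := fun e => by
    have := card_le_of_le (show P ≤ zpowers u from fun x hx => (h5 x hx).elim (fun k => (e.le.trans bot_le) k) fun k =>
      (mul_mem_cancel_right (mem_zpowers u)).1 ((e.le.trans bot_le) k))
    rw [c, Nat.card_zpowers, h.u2] at this
    have := Nat.pow_le_pow_right two_pos l3
    omega
  have hW := isPGroup_omZ (p := 2) U
  have n1 := norm_le_norm_omZ (p := 2) U h3
  have n2 := norm_le_norm_omZ (p := 2) U h4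
  have k1 : ∀ x ∈ omegaOneCenter 2 U, Commute x u → x ∈ omegaOneCenter 2 P := fun x hx e => mem_omZ_iff.2 ⟨h1 (omZ_le U hx),
    mem_centS.2 fun y hy => (h5 y hy).elim (mem_centS.1 (omZ_le_cent U hx) y) fun k => by
      simpa [mul_assoc, h.uu] using (mem_centS.1 (omZ_le_cent U hx) _ k).mul_right e, (mem_omZ_iff.1 hx).2.2⟩
  have k2 : ∀ x ∈ omegaOneCenter 2 U, ∀ y ∈ omegaOneCenter 2 U, Commute x y := fun x hx y hy =>
    mem_centS.1 (omZ_le_cent U hx) y (omZ_le U hy)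
  have k3 : ∀ x ∈ omegaOneCenter 2 U, x * x = 1 := fun x hx => (sq x).symm.trans (mem_omZ_iff.1 hx).2.2
  have k4 : ∀ x ∈ omegaOneCenter 2 U, x * (u * x * u⁻¹) ∈ omegaOneCenter 2 P := fun x hx =>
    k1 _ (mul_mem hx (conj_mem_norm n2 hx)) (mul_inv_eq_iff_eq_mul.1 (by
      rw [← conj_mul, show u * (u * x * u⁻¹) * u⁻¹ = u * u * x * (u * u)⁻¹ by group, h.uu, (k2 _ hx _ (conj_mem_norm n2 hx)).eq]
      simp)).symm
  have k5 : ∀ x ∈ omegaOneCenter 2 P, ∀ y ∈ omegaOneCenter 2 P, x ≠ 1 → y ≠ 1 → x = y := fun x hx y hy x1 y1 => by_contra fun e =>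
    U0 (h.eq_bot (hP.isPGroup.to_le h1) h3 fun z hz => mem_cent.2 (mem_centS.1 (h.uniq hP hx hy x1 y1 e (h1 hz)) u h2))
  obtain ⟨w, hw, w1⟩ := SetLike.not_le_iff_exists.1 (mt (h.eq_bot hW n1) (omZ_ne_bot (hP.isPGroup.to_le h1) U0))
  have k6 : ∀ x ∈ omegaOneCenter 2 U, x * (u * x * u⁻¹) = 1 → Commute x u := fun x hx e =>
    (mul_inv_eq_iff_eq_mul.1 (mul_left_cancel (e.trans (k3 x hx).symm))).symm
  have z1 := mt (k6 w hw) fun e => w1 (mem_cent.2 e)
  have zW := mul_mem hw (conj_mem_norm n2 hw)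
  have k : Kl w (w * (u * w * u⁻¹)) := ⟨two_of_mul_self (k3 w hw) fun e => w1 (e ▸ one_mem _), two_of_mul_self (k3 _ zW) z1,
    fun e => w1 (mem_cent.2 (mem_centS.1 (omZ_le_cent P (e ▸ k4 w hw)) u h2)), k2 _ zW _ hw⟩
  have k7 : ∀ x ∈ omegaOneCenter 2 U, Commute x u → x ∈ closure {w, w * (u * w * u⁻¹)} := fun x hx e => by
    obtain rfl | x1 := eq_or_ne x 1
    · exact one_mem _
    · exact k5 _ (k4 w hw) _ (k1 x hx e) z1 x1 ▸ Kl.mem_right _ _
  have k8 : omegaOneCenter 2 U = closure {w, w * (u * w * u⁻¹)} := le_antisymm (fun x hx => by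
    by_cases e : x * (u * x * u⁻¹) = 1
    · exact k7 x hx (k6 x hx e)
    · refine (mul_mem_cancel_right (Kl.mem_left _ _)).1 (k7 _ (mul_mem hx hw) (k6 _ (mul_mem hx hw) ?_))
      rw [← conj_mul, (k2 _ hw _ (conj_mem_norm n2 hx)).mul_mul_mul_comm, k5 _ (k4 x hx) _ (k4 w hw) e z1, k3 _ zW])
    (Kl.closure_le hw zW)
  have d := (h.reg hW h.oddf).card_dvd (zpowers_le.2 n1)
  rw [k8, k.card, Nat.card_zpowers, h.ord] at d
  obtain rfl : l = 3 := (Nat.prime_dvd_prime_iff_eq h.pr Nat.prime_three).1 d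
  have e : (u * w) ^ 2 = u * w * u⁻¹ * w := by rw [inv_of_two h.u2, sq, mul_assoc _ u]
  rw [← (k2 _ hw _ (conj_mem_norm n2 hw)).eq] at e
  have le : closure {u, w} ≤ P := Kl.closure_le h2 (h1 (omZ_le U hw))
  refine ⟨w, k3 w hw, by rw [show 4 = 2 + 2 from rfl, pow_add, e, k3 _ zW], e ▸ z1, hP.of_card_ge (hP.isPGroup.to_le le) le_top ?_⟩
  have l1 : closure {w, w * (u * w * u⁻¹)} < closure {u, w} := lt_of_le_of_ne (Kl.closure_le (Kl.mem_right _ _)
    (e ▸ pow_mem (mul_mem (Kl.mem_left _ _) (Kl.mem_right _ _)) 2)) fun e' =>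
      w1 (mem_cent.2 (k2 _ hw _ (k8.ge (e'.ge (Kl.mem_left _ _)))))
  have l2 := card_dvd_of_le l1.le
  have l3 := card_lt_of_lt' l1
  rw [k.card] at l2 l3
  omega

end AffX

theorem Aff.main (h : Aff Γ F) : (∀ v : Γ, orderOf v = 2 → IsPGroup 2 𝐂[v] ∧ Nat.card 𝐂[v] = Nat.card F) ∧
    ∃ u w : Γ, u * u = 1 ∧ w * w = 1 ∧ (u * w) ^ 4 = 1 ∧ (u * w) ^ 2 ≠ 1 ∧ Syl 2 (closure {u, w}) ⊤ :=
  let ⟨u, _, _, k⟩ := h.exists_x
  let ⟨w, e⟩ := k.dih
  ⟨fun _ hv => ⟨k.cent hv, (k.card_syl (k.syl_cent hv)).trans k.cardF.symm⟩, u, w, k.uu, e⟩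

end Cfsg.Lib.JTW
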