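import Cfsg.Agent.Lib.JTW.Std1
import Cfsg.Agent.Lib.BN.SzTori

/-! An involution `t` whose centraliser has an elementary abelian Sylow `2`-subgroup `⟨t⟩ × D` with a Singer cycle on `D`. -/

set_option autoImplicit false
set_option linter.unusedSectionVars false
set_option linter.style.haveILetI false

namespace Cfsg.Lib.JTW
open Subgroup Cfsg.Lib.Core Cfsg.Lib.BG1 Cfsg.Lib.Invol Cfsg.Lib.Layer Cfsg.Lib.Gold Cfsg.Lib.Linear Function
open Cfsg.Lib.Amalg hiding le_cent_symm op_top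
open Cfsg.Lib.GW hiding Ctx
open scoped Cfsg.Lib.Wal

universe u

theorem exists_field {A : Type u} [i : AddCommGroup A] [Finite A] {o : A} (h0 : o ≠ 0) (μ : A → A →+ A) (h1 : ∀ x, μ x o = x)
    (h2 : ∀ x y z, μ x (μ y z) = μ y (μ x z)) (h3 : ∀ x, x ≠ 0 → Injective (μ x)) :
    ∃ (F : Type u) (_ : Field F) (e : F ≃+ A), ∀ x y, e (x * y) = μ (e x) (e y) := by
  have c : ∀ x y, μ x y = μ y x := fun x y => by nth_rw 1 [← h1 y]; rw [h2, h1]
  letI r : CommRing A := { i with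
    mul := fun x y => μ x y
    one := o
    mul_assoc := fun x y z => (c _ z).trans ((h2 _ _ _).trans (congrArg (μ x) (c z y)))
    one_mul := fun x => (c _ _).trans (h1 x)
    mul_one := h1
    zero_mul := fun x => (c _ _).trans (map_zero _)
    mul_zero := fun x => map_zero _
    left_distrib := fun x => map_add (μ x)
    right_distrib := fun x y z => (c _ _).trans ((map_add _ _ _).trans (congrArg₂ _ (c _ _) (c _ _)))
    mul_comm := c }
  have f : IsField A := ⟨⟨o, 0, h0⟩, c, fun {x} hx => Finite.surjective_of_injective (h3 x hx) o⟩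
  exact ⟨A, f.toField, AddEquiv.refl A, fun _ _ => rfl⟩

variable {G : Type u} [Group G] [Finite G] {T D Y Q R P A : Subgroup G} {t s a b c d r n x y : G}
  {F : Type*} [Field F] [Finite F] {e : F → G}

theorem exists_coord (h1 : D ≠ ⊥) (hc : ∀ a ∈ D, ∀ b ∈ D, a * b = b * a) (hY : Y ≤ 𝐍(D))
    (tr : ∀ d ∈ D, ∀ d' ∈ D, d ≠ 1 → d' ≠ 1 → ∃ y ∈ Y, y * d * y⁻¹ = d')
    (cm : ∀ y ∈ Y, ∀ y' ∈ Y, ∀ d ∈ D, y * (y' * d * y'⁻¹) * y⁻¹ = y' * (y * d * y⁻¹) * y'⁻¹) :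
    ∃ (F : Type u) (_ : Field F) (_ : Finite F) (e : F → G), Injective e ∧ (∀ d, d ∈ D ↔ ∃ x, e x = d) ∧
      (∀ x y, e (x + y) = e x * e y) ∧ (∀ a, a ≠ 0 → ∃ y ∈ Y, ∀ x, y * e x * y⁻¹ = e (a * x)) ∧
      ∀ y ∈ Y, ∃ b, ∀ x, y * e x * y⁻¹ = e (b * x) := by
  classical
  letI : CommGroup D := { (inferInstance : Group D) with mul_comm := fun a b => Subtype.ext (hc a a.2 b b.2) }
  obtain ⟨o, o1⟩ := ne_bot_iff_exists_ne_one.1 h1
  have o2 : (o : G) ≠ 1 := fun e => o1 (Subtype.ext e)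
  choose f f1 f2 using fun (d : D) (h : d ≠ 1) => tr o o.2 d d.2 o2 fun e => h (Subtype.ext e)
  let μ : Additive D → Additive D →+ Additive D := fun x => if h : x.toMul = 1 then 0 else
    MonoidHom.toAdditive (normalizerMonoidHom D ⟨f _ h, hY (f1 _ h)⟩).toMonoidHom
  have m0 : μ 0 = 0 := dif_pos rfl
  have m1 : ∀ x (h : x ≠ 0) z, ((μ x z).toMul : G) = f x.toMul h * z.toMul * (f x.toMul h)⁻¹ := fun x h z => by
    simp only [μ, dif_neg (show ¬ x.toMul = 1 from h)]; rfl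
  have ex : ∀ {x y : Additive D}, (x.toMul : G) = y.toMul → x = y := fun h => Subtype.ext h
  have k1 : ∀ x, μ x (.ofMul o) = x := fun x => by
    obtain rfl | h := eq_or_ne x 0
    · rw [m0]; rfl
    · exact ex ((m1 x h _).trans (f2 _ h))
  obtain ⟨F, _, e, he⟩ := exists_field (o := Additive.ofMul o) o1 μ k1 (fun x y z => by
    obtain rfl | h := eq_or_ne x 0
    · simp [m0]
    obtain rfl | h' := eq_or_ne y 0
    · simp [m0]
    exact ex (by rw [m1 x h, m1 y h', m1 y h', m1 x h]; exact cm _ (f1 _ h) _ (f1 _ h') _ (Subtype.property _)))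
    fun x h y z k => ex (by simpa [m1 x h] using congrArg (fun w : Additive D => (w.toMul : G)) k)
  have k2 : ∀ a (h : e a ≠ 0) x, f (e a).toMul h * (e x).toMul * (f (e a).toMul h)⁻¹ = (e (a * x)).toMul := fun a h x => by rw [he, m1 _ h]
  refine ⟨F, inferInstance, .of_equiv _ e.symm.toEquiv, fun x => (e x).toMul, fun x y h => e.injective (ex h),
    fun d => ⟨fun h => ⟨e.symm (.ofMul ⟨d, h⟩), by simp⟩, by rintro ⟨x, rfl⟩; exact Subtype.property _⟩, fun x y => by simp,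
    fun a h => ⟨_, f1 _ ((map_ne_zero_iff e e.injective).2 h), k2 a _⟩, fun y hy => ?_⟩
  refine ⟨e.symm (.ofMul ⟨_, conj_mem_norm (hY hy) o.2⟩), fun x => ?_⟩
  obtain rfl | h := eq_or_ne x 0
  · simp
  have h' := (map_ne_zero_iff e e.injective).2 h
  simp only []
  rw [mul_comm _ x, ← k2 x h', e.apply_symm_apply, ← f2 (e x).toMul h']
  exact cm _ hy _ (f1 _ h') _ o.2

/-- `⟨t⟩ × D` is a Sylow subgroup of `C(t)`, `tD` is its set of conjugates of `t`, and `e` makes `D` a field -/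
structure TF (t : G) (T D : Subgroup G) (e : F → G) : Prop where
  two : orderOf t = 2
  syl : Syl 2 T 𝐂[t]
  le : D ≤ T
  dec : ∀ x ∈ T, x ∈ D ∨ t * x ∈ D
  sq : ∀ d ∈ D, d * d = 1
  big : 2 < Nat.card F
  nX : ∀ d ∈ D, ¬ IsConj t d
  aX : ∀ d ∈ D, IsConj t (t * d)
  inj : Injective e
  mem : ∀ d, d ∈ D ↔ ∃ x, e x = d
  add : ∀ x y, e (x + y) = e x * e y
  mul : ∀ a, a ≠ 0 → ∃ y ∈ 𝐂[t], ∀ x, y * e x * y⁻¹ = e (a * x)
  nrm : ∀ c ∈ 𝐂[t], c ∈ 𝐍(D) → ∀ a, ∃ b, ∀ x y, c * e x * c⁻¹ = e y → c * e (a * x) * c⁻¹ = e (b * y)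

theorem relIndex_two (h1 : t ∈ Q) (h2 : t ∉ R) (h3 : ∀ x ∈ Q, x ∈ R ∨ t * x ∈ R) : R.relIndex Q = 2 := by
  refine index_eq_two_iff'.2 ⟨⟨t, h1⟩, fun x => ?_⟩
  by_cases h : (x : G) ∈ R
  · exact .inr ⟨h, fun k => h2 ((mul_mem_cancel_right h).1 k)⟩
  · exact .inl ⟨(h3 x x.2).resolve_left h, h⟩

theorem card_two (h0 : R ≤ Q) (h1 : t ∈ Q) (h2 : t ∉ R) (h3 : ∀ x ∈ Q, x ∈ R ∨ t * x ∈ R) :
    Nat.card Q = Nat.card R * 2 := by rw [← relIndex_two h1 h2 h3, Clifford.card_mul_relIndex h0]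

namespace TF
variable (w : TF t T D e)
include w

theorem tt : t * t = 1 := mul_self_of_two w.two
theorem tt' (x : G) : t * (t * x) = x := by rw [← mul_assoc, w.tt, one_mul]
theorem tT : t ∈ T := w.syl.mem_of_mem_normalizer (k := 1) (sq_of_two w.two) (mem_cent.2 rfl)
  (centralizer_le_normalizer _ (mem_centS.2 fun _ h => (mem_cent.1 (w.syl.le h)).symm))
theorem eD (x : F) : e x ∈ D := (w.mem _).2 ⟨x, rfl⟩
theorem e0 : e 0 = 1 := by simpa using w.add 0 0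
theorem e_one {x : F} (h : e x = 1) : x = 0 := w.inj (h.trans w.e0.symm)
theorem comm (hx : x ∈ T) : Commute x t := mem_cent.1 (w.syl.le hx)
theorem sqT (hx : x ∈ T) : x * x = 1 := (w.dec x hx).elim (w.sq x) fun h => by
  simpa [(w.comm hx).mul_mul_mul_comm, w.tt] using w.sq _ h
theorem cardD : Nat.card D = Nat.card F :=
  (Nat.card_congr (Equiv.ofBijective (fun x => (⟨e x, w.eD x⟩ : D)) ⟨fun _ _ h => w.inj (congrArg Subtype.val h),
    fun d => let ⟨x, h⟩ := (w.mem d).1 d.2; ⟨x, Subtype.ext h⟩⟩)).symm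
theorem cardT : Nat.card T = Nat.card F * 2 := w.cardD ▸ card_two w.le w.tT (fun h => w.nX t h (IsConj.refl t)) w.dec
theorem ord (h : IsConj t s) : orderOf s = 2 := orderOf_of_isConj h ▸ w.two

theorem into (h : IsConj t s) (hA : IsPGroup 2 A) (h1 : A ≤ 𝐂[s]) : ∃ g, g * s * g⁻¹ = t ∧ cj g A ≤ T := by
  haveI := fact_two
  obtain ⟨g, hg⟩ := isConj_iff.1 h.symm
  obtain ⟨c, hc, k⟩ := w.syl.exists_conj_le (isPGroup_cj g hA) (hg ▸ cj_centralizer_singleton g s ▸ cj_mono g h1)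
  exact ⟨c * g, by rw [← conj_mul', hg, (mem_cent.1 hc).mul_inv_cancel], cj_mul c g A ▸ k⟩

theorem sq2 (h : IsConj t s) (hA : IsPGroup 2 A) (h1 : A ≤ 𝐂[s]) (hx : x ∈ A) : x * x = 1 := by
  obtain ⟨g, -, k⟩ := w.into h hA h1
  simpa using w.sqT (k (conj_mem_cj g hx))

theorem card_le (h : IsConj t s) (hA : IsPGroup 2 A) (h1 : A ≤ 𝐂[s]) : Nat.card A ≤ Nat.card F * 2 :=
  let ⟨g, _, k⟩ := w.into h hA h1; w.cardT ▸ card_cj g A ▸ card_le_of_le k

theorem nsq (x : G) : ¬ IsConj t (x * x) := fun h => ne_one_of_two (w.ord h)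
  (w.sq2 h (Invol.isPGroup_zpowers (k := 2) (x := x) (by rw [show 2 ^ 2 = 2 * 2 from rfl, pow_mul, _root_.sq x, sq_of_two (w.ord h)]))
    (zpowers_le.2 (mem_cent.2 ((Commute.refl x).mul_right (Commute.refl x)))) (mem_zpowers x))

theorem mul3 (ha : IsConj t a) (hb : IsConj t b) : ¬ IsConj t (a * b) := fun h => by
  obtain ⟨g, e1, k⟩ := w.into ha (isPGroup_zpowers_two (w.ord hb)) (zpowers_le.2 (mem_cent.2 (by
    have := inv_of_two (w.ord h)
    rwa [mul_inv_rev, inv_of_two (w.ord ha), inv_of_two (w.ord hb)] at this)))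
  rcases w.dec _ (k (conj_mem_cj g (mem_zpowers b))) with e2 | e2
  · exact w.nX _ e2 (hb.trans (isConj_conj g b))
  · exact w.nX _ e2 (by nth_rw 2 [← e1]; exact conj_mul (b := g) ▸ h.trans (isConj_conj g _))

theorem mem_T (hP : IsPGroup 2 P) (h : T ≤ P) (hx : x ∈ P) (hc : x ∈ 𝐂[t]) : x ∈ T :=
  w.syl.le_of_le (le_inf h w.syl.le) inf_le_right hP.to_inf_left ⟨hx, hc⟩

end TF

/-- a `2`-subgroup `R⟨t⟩` over `T` admitting the Singer cycle -/
structure Gd (t : G) (T D : Subgroup G) (e : F → G) (Q R : Subgroup G) : Prop where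
  w : TF t T D e
  p : IsPGroup 2 Q
  le : T ≤ Q
  rle : R ≤ Q
  dec : ∀ x ∈ Q, x ∈ R ∨ t * x ∈ R
  nX : ∀ x ∈ R, ¬ IsConj t x
  mul : ∀ a, a ≠ 0 → ∃ y ∈ 𝐂[t], y ∈ 𝐍(Q) ∧ ∀ x, y * e x * y⁻¹ = e (a * x)

theorem conj_pow_e {c : F} (h : ∀ x, y * e x * y⁻¹ = e (c * x)) (m : ℕ) (x : F) : y ^ m * e x * (y ^ m)⁻¹ = e (c ^ m * x) := by
  induction m with
  | zero => simp
  | succ m ih => rw [pow_succ', ← conj_mul', ih, h, pow_succ', mul_assoc]

namespace Gd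
variable (g : Gd t T D e Q R)
include g

theorem tQ : t ∈ Q := g.le g.w.tT
theorem tR : t ∉ R := fun h => g.nX t h (IsConj.refl t)
theorem card : Nat.card Q = Nat.card R * 2 := card_two g.rle g.tQ g.tR g.dec
theorem nQ : Q ≤ 𝐍(R) := (normal_subgroupOf_iff_le_normalizer g.rle).1 (normal_of_index_eq_two (relIndex_two g.tQ g.tR g.dec))
theorem DR : D ≤ R := fun d hd => (g.dec d (g.le (g.w.le hd))).resolve_right fun h => g.nX _ h (g.w.aX d hd)
theorem memD (hr : r ∈ R) (hc : Commute r t) : r ∈ D :=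
  (g.w.dec r (g.w.mem_T g.p g.le (g.rle hr) (mem_cent.2 hc))).resolve_right fun h => g.tR ((mul_mem_cancel_right hr).1 (g.DR h))
theorem tX (hs : s ∈ Q) (h : IsConj t s) : t * s ∈ R := (g.dec s hs).resolve_left fun k => g.nX s k h

theorem fix {c : F} (c1 : c ≠ 1) (h1 : y ∈ 𝐂[t]) (h2 : y ∈ 𝐍(Q)) (h3 : ∀ x, y * e x * y⁻¹ = e (c * x)) (hs : s ∈ Q)
    (h4 : IsConj t s) (hx : x ∈ Q) (h5 : y * s * y⁻¹ = x * s * x⁻¹) : ∃ x ∈ Q, x * s * x⁻¹ = t := by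
  haveI := fact_two
  have c0 : c ≠ 0 := by
    rintro rfl
    exact one_ne_zero (g.w.e_one (by simpa [g.w.e0] using h3 1))
  obtain ⟨p, hp, hd⟩ := Nat.exists_prime_and_dvd (mt orderOf_eq_one_iff.1 c1)
  haveI := Fact.mk hp
  obtain ⟨k, m, hm, hk⟩ := Nat.exists_eq_pow_mul_and_not_dvd (orderOf_pos y).ne' p hp.ne_one
  have p2 : p ≠ 2 := by
    rintro rfl
    haveI := Fintype.ofFinite F
    have h6 : orderOf c ∣ Nat.card F - 1 := orderOf_dvd_of_pow_eq_one (Nat.card_eq_fintype_card (α := F) ▸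
      FiniteField.pow_card_sub_one_eq_one c c0)
    have h7 := dvd_card_of_isPGroup_ne_bot (g.p.to_le (g.w.le.trans g.le)) fun h => by
      have := g.w.big; rw [← g.w.cardD, h, card_bot] at this; omega
    have := hd.trans h6
    have := g.w.big
    rw [g.w.cardD] at h7
    omega
  have k1 : ∀ j : ℕ, ∀ z ∈ {z | ∃ x ∈ Q, x * s * x⁻¹ = z}, y ^ j * z * (y ^ j)⁻¹ ∈ {z | ∃ x ∈ Q, x * s * x⁻¹ = z} := fun j => by
    induction j with
    | zero => simp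
    | succ j ih =>
      rintro _ ⟨b, hb, rfl⟩
      rw [pow_succ, ← conj_mul']
      exact ih _ ⟨y * b * y⁻¹ * x, mul_mem (conj_mem_norm h2 hb) hx, by rw [← conj_mul', ← h5]; group⟩
  letI : MulAction (zpowers (y ^ m)) {z | ∃ x ∈ Q, x * s * x⁻¹ = z} :=
    { smul := fun a z => ⟨a * z * (a : G)⁻¹, by
        obtain ⟨j, hj⟩ := mem_powers_iff_mem_zpowers.2 a.2
        rw [← hj]; simp only [← pow_mul]; exact k1 _ _ z.2⟩
      one_smul := fun z => Subtype.ext (show (1 : G) * z * 1⁻¹ = z by simp)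
      mul_smul := fun a b z => Subtype.ext (conj_mul' _ _ _).symm }
  obtain ⟨⟨z, b, hb, e1⟩, hz⟩ := (Invol.isPGroup_zpowers (p := p) (k := k) (x := y ^ m) (by
    rw [← pow_mul, mul_comm, ← hk, pow_orderOf_eq_one])).nonempty_fixed_point_of_prime_not_dvd_card
      {z | ∃ x ∈ Q, x * s * x⁻¹ = z} fun d => by
    obtain ⟨n, hn⟩ := g.p.exists_card_eq
    exact p2 ((Nat.prime_dvd_prime_iff_eq hp Nat.prime_two).1 (hp.dvd_of_dvd_pow (hn ▸ BN.card_eq_ncard_conj_mul Q s ▸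
      d.mul_right _)))
  have z1 : Commute z (y ^ m) := (mul_inv_eq_iff_eq_mul.1 (congrArg Subtype.val (hz ⟨_, mem_zpowers _⟩))).symm
  have zQ : z ∈ Q := e1 ▸ mul_mem (mul_mem hb hs) (inv_mem hb)
  have ht := (mem_cent.1 (pow_mem h1 m)).symm
  refine ⟨b, hb, e1.trans (by_contra fun h => ?_)⟩
  obtain ⟨r, hr, r1⟩ := bot_lt_iff_ne_bot.2 (inf_center_ne_bot (N := R ⊓ 𝐂[y ^ m]) (T := Q ⊓ 𝐂[y ^ m] ⊓ (R ⊓ 𝐂[y ^ m] ⊔ zpowers t))
    (g.p.to_inf_left.to_inf_left) (le_inf (inf_le_inf_right _ g.rle) le_sup_left) (inf_le_left.trans (le_normalizer_inf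
      (inf_le_left.trans g.nQ) (inf_le_right.trans le_normalizer))) fun k => h (by
    have : t * z ∈ R ⊓ 𝐂[y ^ m] := ⟨g.tX zQ (e1 ▸ h4.trans (isConj_conj b s)), mem_cent.2 (ht.mul_left z1)⟩
    rw [k, mem_bot, mul_eq_one_iff_inv_eq, inv_of_two g.w.two] at this
    exact this.symm)) |> SetLike.exists_of_lt
  obtain ⟨a, rfl⟩ := (g.w.mem r).1 (g.memD hr.1.1 (mem_centS.1 hr.2 t ⟨⟨g.tQ, mem_cent.2 ht⟩, mem_sup_right (mem_zpowers t)⟩))
  have := g.w.inj ((conj_pow_e h3 m a).symm.trans (mem_cent.1 hr.1.2).symm.mul_inv_cancel)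
  exact hm (hd.trans (orderOf_dvd_of_pow_eq_one (mul_right_cancel₀ (fun k => r1 (by rw [k, g.w.e0]; exact one_mem _))
    (this.trans (one_mul a).symm))))

theorem all (hP : IsPGroup 2 P) (h1 : Q < P) (h2 : P ≤ 𝐍(Q)) (hr : r ∈ R) : ∃ n ∈ 𝐍(Q), n * t * n⁻¹ = t * r := by
  classical
  obtain ⟨n, hn, n1⟩ : ∃ n ∈ P, ∀ x ∈ Q, x * (n * t * n⁻¹) * x⁻¹ ≠ t := by
    by_contra! h
    refine h1.not_ge fun n hn => ?_
    obtain ⟨x, hx, k⟩ := h n hn
    exact (mul_mem_cancel_left hx).1 (g.le (g.w.mem_T hP (g.le.trans h1.le) (mul_mem (h1.le hx) hn)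
      (mem_cent.2 (mul_inv_eq_iff_eq_mul.1 (conj_mul' x n t ▸ k)))))
  choose f f1 f2 f3 using g.mul
  let m : F → G := fun a => if h : a = 0 then 1 else f a h * n
  have m1 : ∀ a, m a ∈ 𝐍(Q) := fun a => by
    simp only [m]; split_ifs
    exacts [one_mem _, mul_mem (f2 _ _) (h2 hn)]
  have nQ := conj_mem_norm (h2 hn) g.tQ
  have m2 : ∀ a (h : a ≠ 0), ∀ x ∈ Q, m a * t * (m a)⁻¹ ≠ x * t * x⁻¹ := fun a h x hx k => by
    simp only [m, dif_neg h] at k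
    refine n1 ((f a h)⁻¹ * x⁻¹ * (f a h)⁻¹⁻¹) (conj_mem_norm (inv_mem (f2 a h)) (inv_mem hx)) ?_
    rw [show (f a h)⁻¹ * x⁻¹ * (f a h)⁻¹⁻¹ * (n * t * n⁻¹) * ((f a h)⁻¹ * x⁻¹ * (f a h)⁻¹⁻¹)⁻¹ =
      (f a h)⁻¹ * (x⁻¹ * (f a h * n * t * (f a h * n)⁻¹) * x) * f a h by group, k]
    simp [mul_assoc, ← (mem_cent.1 (f1 a h)).eq]
  have m3 : ∀ a b, ∀ x ∈ Q, m a * t * (m a)⁻¹ = x * (m b * t * (m b)⁻¹) * x⁻¹ → a = b := fun a b x hx k => by
    obtain rfl | ha := eq_or_ne a 0 <;> obtain rfl | hb := eq_or_ne b 0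
    · rfl
    · rw [show m 0 = 1 from dif_pos rfl, one_mul, inv_one, mul_one] at k
      exact absurd (by nth_rw 2 [k]; group) (m2 b hb x⁻¹ (inv_mem hx))
    · exact absurd (by simpa [m] using k) (m2 a ha x hx)
    by_contra ab
    simp only [m, dif_neg ha, dif_neg hb] at k
    obtain ⟨z, hz, k'⟩ := g.fix (y := (f b hb)⁻¹ * f a ha) (c := b⁻¹ * a) (fun k => ab (inv_mul_eq_one₀ hb |>.1 k).symm)
      (mul_mem (inv_mem (f1 _ _)) (f1 _ _)) (mul_mem (inv_mem (f2 _ _)) (f2 _ _)) (fun x => by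
        rw [← conj_mul', f3, ← mul_inv_cancel_left₀ hb (a * x), ← f3 b hb, mul_assoc b⁻¹]; group) nQ (isConj_conj n t)
      (conj_mem_norm (inv_mem (f2 b hb)) hx) (by
        rw [← conj_mul', conj_mul' (f a ha), k]; group)
    exact n1 z hz k'
  let φ : F × (Q ⧸ T.subgroupOf Q) → {z // z ∈ Q ∧ z ∉ R} := fun u =>
    ⟨m u.1 * (u.2.out * t * (u.2.out : G)⁻¹) * (m u.1)⁻¹,
      conj_mem_norm (m1 _) (mul_mem (mul_mem u.2.out.2 g.tQ) (inv_mem u.2.out.2)),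
      fun h => g.nX _ h ((isConj_conj _ t).trans (isConj_conj _ _))⟩
  have hφ : Injective φ := by
    rintro ⟨a, x⟩ ⟨b, y⟩ h
    have k := congrArg Subtype.val h
    simp only [φ] at k
    obtain rfl := m3 a b ((m a * x.out * (m a)⁻¹)⁻¹ * (m b * y.out * (m b)⁻¹)) (mul_mem (inv_mem (conj_mem_norm (m1 a) x.out.2))
      (conj_mem_norm (m1 b) y.out.2)) (by
        rw [show m a * t * (m a)⁻¹ = (m a * x.out * (m a)⁻¹)⁻¹ * (m a * (x.out * t * (x.out : G)⁻¹) * (m a)⁻¹) *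
          (m a * x.out * (m a)⁻¹) by group, k]; group)
    rw [← x.out_eq, ← y.out_eq]
    refine congrArg _ (QuotientGroup.eq.2 (g.w.mem_T g.p g.le (mul_mem (inv_mem x.out.2) y.out.2) (mem_cent.2 ?_)))
    have k := mul_left_cancel (mul_right_cancel k)
    exact mul_inv_eq_iff_eq_mul.1 ((conj_mul' (x.out : G)⁻¹ y.out t).symm.trans (by rw [← k]; group))
  obtain ⟨u, hu⟩ := (hφ.bijective_of_nat_card_le (by
    have c1 := card_split (· ∈ Q) (· ∈ R)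
    have c2 := card_eq_card_quotient_mul_card_subgroup (T.subgroupOf Q)
    rw [card_congr_iff (p := fun a => a ∈ Q ∧ a ∈ R) (q := (· ∈ R)) fun a => and_iff_right_of_imp fun h => g.rle h] at c1
    rw [Nat.card_congr (subgroupOfEquivOfLe g.le).toEquiv, g.w.cardT] at c2
    have c3 := g.card
    rw [Nat.card_prod]
    change Nat.card Q = Nat.card R + _ at c1
    nlinarith)).2 ⟨t * r, mul_mem g.tQ (g.rle hr), fun h => g.tR ((mul_mem_cancel_right hr).1 h)⟩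
  exact ⟨m u.1 * u.2.out, mul_mem (m1 _) (le_normalizer u.2.out.2), (conj_mul' _ _ _).symm.trans (congrArg Subtype.val hu)⟩

end Gd

end Cfsg.Lib.JTW
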