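import Cfsg.Agent.Lib.JTW.Std2

/-! The homocyclic tower over `⟨t⟩ × D`: such an involution is not in `O²(G)`. -/

set_option autoImplicit false
set_option linter.unusedSectionVars false
set_option linter.style.haveILetI false

namespace Cfsg.Lib.JTW
open Subgroup Cfsg.Lib.Core Cfsg.Lib.BG1 Cfsg.Lib.Invol Cfsg.Lib.Layer Cfsg.Lib.Gold Cfsg.Lib.Linear Function
open Cfsg.Lib.Amalg hiding le_cent_symm op_top
open Cfsg.Lib.GW hiding Ctx
open scoped Cfsg.Lib.Wal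

universe u

variable {G : Type u} [Group G] [Finite G] {T D Y Q R P A : Subgroup G} {t s a b c d r n x y : G}
  {F : Type*} [Field F] [Finite F] {e : F → G} {k : ℕ} {π : 𝐍(Q) →* Equiv.Perm F}

structure Up (t : G) (T D : Subgroup G) (e : F → G) (Q R : Subgroup G) : Prop extends Gd t T D e Q R where
  all : ∀ r ∈ R, ∃ n ∈ 𝐍(Q), n * t * n⁻¹ = t * r

namespace Up
variable (g : Up t T D e Q R)
include g

theorem aX (hr : r ∈ R) : IsConj t (t * r) := let ⟨n, _, h⟩ := g.all r hr; h ▸ isConj_conj n t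
theorem inv (hr : r ∈ R) : t * r * t⁻¹ = r⁻¹ :=
  eq_inv_of_mul_eq_one_left (by rw [inv_of_two g.w.two, mul_assoc, mul_self_of_two (g.w.ord (g.aX hr))])
theorem comm (ha : a ∈ R) (hb : b ∈ R) : Commute a b := inv_injective (by
  rw [← g.inv (mul_mem ha hb), ← conj_mul, g.inv ha, g.inv hb, mul_inv_rev])
theorem memR (hx : x ∈ Q) (h : ¬ IsConj t x) : x ∈ R := (g.dec x hx).resolve_right fun k => h (g.w.tt' x ▸ g.aX k)
theorem nR : 𝐍(Q) ≤ 𝐍(R) := le_normalizer_of_cj_le fun n hn => cj_le_iff'.2 fun x hx =>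
  g.memR (conj_mem_norm hn (g.rle hx)) fun h => g.nX x hx (h.trans (isConj_conj n x).symm)
theorem sqD (hr : r ∈ R) (h : r * r = 1) : r ∈ D :=
  g.memD hr (mul_inv_eq_iff_eq_mul.1 ((g.inv hr).trans (inv_eq_of_mul_eq_one_left h))).symm
theorem nD : 𝐍(Q) ≤ 𝐍(D) := le_normalizer_of_cj_le fun n hn => cj_le_iff'.2 fun x hx =>
  g.sqD (conj_mem_norm (g.nR hn) (g.DR hx)) (by rw [conj_mul, g.w.sq x hx, mul_one, mul_inv_cancel])
theorem rn (hn : n ∈ 𝐍(Q)) : t * (n * t * n⁻¹) ∈ R := g.tX (conj_mem_norm hn g.tQ) (isConj_conj n t)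
theorem QC (hx : x ∈ Q) (hd : d ∈ D) : Commute x d := (g.dec x hx).elim (g.comm · (g.DR hd)) fun h =>
  g.w.tt' x ▸ (g.w.comm (g.w.le hd)).symm.mul_left (g.comm h (g.DR hd))

theorem exists_k : ∃ k : ℕ, (∀ r ∈ R, r ^ 2 ^ k ∈ D) ∧ (∀ d ∈ D, ∃ r ∈ R, r ^ 2 ^ k = d) ∧
    ∀ r ∈ R, r ^ 2 ^ k = 1 → ∃ a ∈ R, a * a = r := by
  classical
  haveI := fact_two
  have ex : ∃ k : ℕ, ∀ r ∈ R, r ^ 2 ^ (k + 1) = 1 := by
    obtain ⟨n, hn⟩ := (g.p.to_le g.rle).exists_card_eq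
    exact ⟨n, fun r hr => by rw [pow_succ, pow_mul, ← hn, show r ^ Nat.card R = 1 from
      congrArg Subtype.val (pow_card_eq_one' (x := (⟨r, hr⟩ : R))), one_pow]⟩
  have h1 : ∀ r ∈ R, r ^ 2 ^ Nat.find ex ∈ D := fun r hr => g.sqD (pow_mem hr _) (by
    rw [← sq, ← pow_mul, ← pow_succ, Nat.find_spec ex r hr])
  obtain ⟨r, hr, r1⟩ : ∃ r ∈ R, r ^ 2 ^ Nat.find ex ≠ 1 := by
    by_contra! h
    rcases e1 : Nat.find ex with _ | j
    · exact one_ne_zero (g.w.e_one (by simpa [e1] using h _ (g.DR (g.w.eD 1))))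
    · exact Nat.find_min ex (e1 ▸ j.lt_succ_self) (e1 ▸ h)
  generalize Nat.find ex = k at *
  have h2 : ∀ d ∈ D, ∃ r ∈ R, r ^ 2 ^ k = d := fun d hd => by
    obtain ⟨a, rfl⟩ := (g.w.mem d).1 hd
    obtain ⟨b, hb⟩ := (g.w.mem _).1 (h1 r hr)
    have b0 : b ≠ 0 := fun h => r1 (by rw [← hb, h, g.w.e0])
    obtain rfl | a0 := eq_or_ne a 0
    · exact ⟨1, one_mem _, by rw [one_pow, g.w.e0]⟩
    obtain ⟨y, -, y1, y2⟩ := g.mul (a / b) (div_ne_zero a0 b0)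
    exact ⟨_, conj_mem_norm (g.nR y1) hr, by rw [conj_pow, ← hb, y2, div_mul_cancel₀ _ b0]⟩
  refine ⟨k, h1, h2, fun r hr h => ?_⟩
  letI : CommGroup R := { (inferInstance : Group R) with mul_comm := fun a b => Subtype.ext (g.comm a.2 b.2) }
  have c1 := card_mul_index (powMonoidHom (2 ^ k) : R →* R).ker
  have c2 := card_mul_index (powMonoidHom 2 : R →* R).ker
  rw [index_ker, show (powMonoidHom (2 ^ k) : R →* R).range = D.subgroupOf R from le_antisymm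
    (by rintro _ ⟨x, rfl⟩; exact h1 x x.2) (fun d hd => by obtain ⟨r, hr, h⟩ := h2 d hd; exact ⟨⟨r, hr⟩, Subtype.ext h⟩)] at c1
  rw [index_ker, show (powMonoidHom 2 : R →* R).ker = D.subgroupOf R from le_antisymm
    (fun x hx => g.sqD x.2 ((sq _).symm.trans (congrArg Subtype.val hx))) fun d hd => Subtype.ext ((sq _).trans (g.w.sq _ hd)),
    ← c1, mul_comm] at c2
  obtain ⟨a, ha⟩ := (eq_of_le_of_card_le' (H := (powMonoidHom 2 : R →* R).range) (K := (powMonoidHom (2 ^ k) : R →* R).ker) (by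
    rintro _ ⟨x, rfl⟩
    exact Subtype.ext (show ((x : G) ^ 2) ^ 2 ^ k = 1 by rw [← pow_mul, mul_comm, pow_mul, sq, g.w.sq _ (h1 x x.2)]))
    (Nat.eq_of_mul_eq_mul_right Nat.card_pos c2).ge).ge (show (⟨r, hr⟩ : R) ∈ _ from Subtype.ext h)
  exact ⟨a, a.2, (sq _).symm.trans (congrArg Subtype.val ha)⟩

end Up

/-- the action of `N(Q)` on the `Q`-classes in `tR` -/
structure Ac (t : G) (T D : Subgroup G) (e : F → G) (Q R : Subgroup G) (k : ℕ) (π : 𝐍(Q) →* Equiv.Perm F) : Prop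
    extends Up t T D e Q R where
  pw : ∀ r ∈ R, r ^ 2 ^ k ∈ D
  sur : ∀ d ∈ D, ∃ r ∈ R, r ^ 2 ^ k = d
  ker : ∀ r ∈ R, r ^ 2 ^ k = 1 → ∃ a ∈ R, a * a = r
  act : ∀ (n : 𝐍(Q)) (x : F), e (π n x) = (t * (n * t * (n : G)⁻¹)) ^ 2 ^ k * (n * e x * (n : G)⁻¹)

theorem Up.exists_ac (g : Up t T D e Q R) : ∃ k π, Ac t T D e Q R k π := by
  obtain ⟨k, h1, h2, h3⟩ := g.exists_k
  choose f hf using fun (n : 𝐍(Q)) (x : F) =>
    (g.w.mem _).1 (mul_mem (h1 _ (g.rn n.2)) (conj_mem_norm (g.nD n.2) (g.w.eD x)))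
  letI : MulAction 𝐍(Q) F :=
    { smul := f
      one_smul := fun x => g.w.inj ((hf 1 x).trans (by simp [g.w.tt]))
      mul_smul := fun a b x => g.w.inj (by
        show e (f _ x) = e (f a (f b x))
        rw [hf, hf, hf, ← conj_mul (b := (a : G)), ← conj_pow, ← mul_assoc (_ ^ _) (_ ^ _),
          ← (g.comm (g.rn a.2) (conj_mem_norm (g.nR a.2) (g.rn b.2))).mul_pow]
        simp [mul_assoc, g.w.tt']) }
  exact ⟨k, MulAction.toPermHom 𝐍(Q) F, g, h1, h2, h3, hf⟩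

namespace Ac
variable (g : Ac t T D e Q R k π)
include g

theorem act0 (n : 𝐍(Q)) : e (π n 0) = (t * (n * t * (n : G)⁻¹)) ^ 2 ^ k := by simp [g.act, g.w.e0]
theorem act' (n : 𝐍(Q)) (x : F) : e (π n x) = e (π n 0) * (n * e x * (n : G)⁻¹) := by rw [g.act0, g.act]
theorem actc (n : 𝐍(Q)) (h : (n : G) ∈ 𝐂[t]) (x : F) : e (π n x) = n * e x * (n : G)⁻¹ := by
  rw [g.act, (mem_cent.1 h).mul_inv_cancel, g.w.tt, one_pow, one_mul]
theorem two (x : F) : x + x = 0 := g.w.e_one ((g.w.add x x).trans (g.w.sq _ (g.w.eD x)))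
theorem trans (n : 𝐍(Q)) : (∀ x, π n x = x + π n 0) ↔ (n : G) ∈ 𝐂(D) := by
  refine ⟨fun h => mem_centS.2 fun d hd => ?_, fun h x => g.w.inj (by
    rw [g.act', (mem_centS.1 h _ (g.w.eD x)).mul_inv_cancel, add_comm, g.w.add])⟩
  obtain ⟨x, rfl⟩ := (g.w.mem d).1 hd
  exact mul_inv_eq_iff_eq_mul.1 (mul_left_cancel (by rw [← g.act', h, add_comm, g.w.add]))

theorem kerR (n : 𝐍(Q)) (h : (n : G) ∈ Q) : π n = 1 := Equiv.ext fun x => by
  have k : ∀ r ∈ R, (r * r) ^ 2 ^ k = 1 := fun r hr => by rw [(Commute.refl r).mul_pow, g.w.sq _ (g.pw r hr)]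
  rw [(g.trans n).2 (mem_centS.2 fun d => g.QC h), g.w.e_one (x := π n 0), add_zero, Equiv.Perm.one_apply]
  rw [g.act0]
  rcases g.dec _ h with h | h
  · rw [← k _ (inv_mem h)]
    nth_rw 2 [← g.inv h]
    simp [mul_assoc, inv_of_two g.w.two]
  · rw [← k _ h]
    nth_rw 2 [← inv_inv (t * (n : G))]
    rw [← g.inv h]
    simp [mul_assoc, inv_of_two g.w.two, g.w.tt']

theorem stab (n : 𝐍(Q)) (h : π n 0 = 0) : ∃ r ∈ R, r * n ∈ 𝐂[t] := by
  obtain ⟨a, ha, k⟩ := g.ker _ (g.rn n.2) (by rw [← g.act0, h, g.w.e0])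
  refine ⟨a, ha, mem_cent.2 (mul_inv_eq_iff_eq_mul.1 ?_)⟩
  rw [← conj_mul', ← g.w.tt' (n * t * _), ← k, show a * (t * (a * a)) * a⁻¹ = a * (t * a * t⁻¹) * t by group, g.inv ha]
  group

theorem memQ (hP : IsPGroup 2 P) (h1 : Q ≤ P) (n : 𝐍(Q)) (hn : (n : G) ∈ P) (h : π n 0 = 0) : (n : G) ∈ Q :=
  let ⟨_, hr, k⟩ := g.stab n h
  (mul_mem_cancel_left (g.rle hr)).1 (g.le (g.w.mem_T hP (g.le.trans h1) (mul_mem (h1 (g.rle hr)) hn) k))

theorem stab' (n : 𝐍(Q)) (h : π n 0 = 0) : ∃ c : 𝐍(Q), (c : G) ∈ 𝐂[t] ∧ π c = π n :=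
  let ⟨r, hr, k⟩ := g.stab n h
  ⟨⟨r, le_normalizer (g.rle hr)⟩ * n, k, by rw [map_mul, g.kerR _ (g.rle hr), one_mul]⟩

theorem mul' (a : F) (h : a ≠ 0) : ∃ y : 𝐍(Q), (y : G) ∈ 𝐂[t] ∧ ∀ x, π y x = a * x :=
  let ⟨y, h1, h2, h3⟩ := g.mul a h
  ⟨⟨y, h2⟩, h1, fun x => g.w.inj ((g.actc _ h1 x).trans (h3 x))⟩

theorem aff (h : ∀ n : 𝐍(Q), (n : G) ∈ 𝐂(D) → π n 0 = 0) : Aff π.range F where
  two := g.two
  big := g.w.big
  add := by
    rintro ⟨_, n, rfl⟩ x y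
    refine g.w.inj ?_
    show e (π n _) = e (π n x + π n y + π n 0)
    rw [add_comm _ (π n 0), ← add_assoc, g.w.add, g.w.add, g.act' n x, g.act' n y, g.act', g.w.add, ← mul_assoc (e _) (e _),
      g.w.sq _ (g.w.eD _), one_mul, ← conj_mul, ← mul_assoc (e _), (g.comm (g.DR (g.w.eD _))
        (g.DR (conj_mem_norm (g.nD n.2) (g.w.eD x)))).eq, mul_assoc _ (e _)]
  mul a h := let ⟨y, _, k⟩ := g.mul' a h; ⟨⟨_, y, rfl⟩, k⟩
  nrm := by
    rintro ⟨_, n, rfl⟩ h a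
    obtain ⟨c, hc, k⟩ := g.stab' n h
    obtain ⟨b, hb⟩ := g.w.nrm c hc (g.nD c.2) a
    exact ⟨b, fun x => g.w.inj (show e (π n _) = e (b * π n x) by rw [← k, g.actc c hc, hb _ _ (g.actc c hc x).symm])⟩
  odd := by
    rintro ⟨_, n, rfl⟩ h
    obtain ⟨c, hc, k⟩ := g.stab' n h
    obtain ⟨a, ha, b, hb, a2, b2, k'⟩ := exists_two_odd c
    obtain ⟨j, hj⟩ := a2
    have : (a : G) ∈ Q := g.memQ (isPGroup_sup_zpowers g.p (congrArg Subtype.val hj) a.2) le_sup_left a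
      (mem_sup_right (mem_zpowers _)) (zpowers_le.2 (show c ∈ (MulAction.stabilizer _ (0 : F)).comap π from
        show π c 0 = 0 from k ▸ h) ha)
    rw [← orderOf_coe]
    show Odd (orderOf (π n))
    rw [← k, k', map_mul, g.kerR a this, one_mul]
    exact b2.of_dvd_nat (orderOf_map_dvd π b)
  mv := by
    obtain ⟨r, hr, k⟩ := g.sur _ (g.w.eD 1)
    obtain ⟨n, hn, k'⟩ := g.all r hr
    exact ⟨⟨_, ⟨n, hn⟩, rfl⟩, fun h => one_ne_zero (g.w.inj (by rw [← k, ← show π ⟨n, hn⟩ 0 = 0 from h, g.act0, k', g.w.tt']))⟩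
  ntr := by
    rintro ⟨_, n, rfl⟩ k
    exact Subtype.ext (Equiv.ext fun x => (k x).trans (by rw [show _ • (0 : F) = 0 from h n ((g.trans n).1 k), add_zero]; rfl))

/-- no translations: every conjugate of `t` normalising `Q` lies in `Q` -/
theorem mem_exc (h : Aff π.range F) (s : 𝐍(Q)) (hs : IsConj t s) : (s : G) ∈ Q := by
  haveI := fact_two
  by_contra hn
  have s2 := g.w.ord hs
  have p1 := isPGroup_sup_zpowers (k := 1) g.p (sq_of_two s2) s.2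
  have s0 : π s 0 ≠ 0 := mt (g.memQ p1 le_sup_left s (mem_sup_right (mem_zpowers _))) hn
  have sD : (s : G) ∉ 𝐂(D) := fun k => s0 (by
    rw [show π s = 1 from congrArg Subtype.val (h.ntr ⟨_, s, rfl⟩ ((g.trans s).2 k))]; rfl)
  have c1 : ∀ x ∈ R, Commute x s → x ∈ D := fun x hx k =>
    g.sqD hx (g.w.sq2 hs (A := R ⊓ 𝐂[(s : G)]) (g.p.to_le g.rle).to_inf_left inf_le_right ⟨hx, mem_cent.2 k⟩)
  have RD : R ≤ D := by
    obtain ⟨d, hd, k0⟩ : ∃ d ∈ D, ¬ Commute (s : G) d := by simpa [mem_centS] using sD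
    obtain ⟨r, hr, rfl⟩ := g.sur d hd
    have r' := conj_mem_norm (g.nR s.2) hr
    have k1 := g.w.sq _ (c1 _ (mul_mem hr r') (mul_inv_eq_iff_eq_mul.1 (by
      rw [← conj_mul, conj_mul', mul_self_of_two s2, (g.comm hr r').eq]; simp)).symm)
    rcases k' : k with _ | j
    · exact fun x hx => by simpa [k'] using g.pw x hx
    · refine absurd (mul_inv_eq_iff_eq_mul.1 (mul_left_cancel (a := r ^ 2 ^ k) ?_)) k0
      rw [g.w.sq _ hd, ← conj_pow, ← (g.comm hr r').mul_pow, k', pow_succ', pow_mul, sq, k1, one_pow]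
  have v2 : orderOf (π.rangeRestrict s) = 2 := two_of_mul_self (by
    rw [← map_mul, show s * s = 1 from Subtype.ext (mul_self_of_two s2), map_one]) fun k => s0 (by
      rw [show π s = 1 from congrArg Subtype.val k]; rfl)
  obtain ⟨v3, v4⟩ := h.main.1 _ v2
  obtain ⟨P, hP, h1⟩ := exists_syl_ge (H := (𝐂[π.rangeRestrict s]).comap π.rangeRestrict)
    (Amalg.isPGroup_subgroupOf p1 𝐍(Q)) fun x hx => mem_cent.2 (by
      obtain ⟨a, ha, b, hb, k⟩ := (mem_sup_of_le_normalizer' (zpowers_le.2 s.2)).1 hx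
      obtain ⟨j, rfl⟩ := hb
      rw [show x = ⟨a, le_normalizer ha⟩ * s ^ j from Subtype.ext k.symm, map_mul,
        show π.rangeRestrict ⟨a, _⟩ = 1 from Subtype.ext (g.kerR _ ha), one_mul, map_zpow]
      exact (Commute.refl _).zpow_left j)
  have c2 := card_map_mul_card_inf_ker π.rangeRestrict P
  have c3 := (hP.map π.rangeRestrict).eq_of_isPGroup (by rwa [map_comap_eq_self_of_surjective π.rangeRestrict_surjective])
  rw [map_comap_eq_self_of_surjective π.rangeRestrict_surjective] at c3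
  have c4 : Nat.card Q ≤ Nat.card ↥(P ⊓ π.rangeRestrict.ker) := (Nat.card_congr (subgroupOfEquivOfLe le_normalizer).toEquiv).ge.trans
    (card_le_of_le fun x hx => ⟨h1 (mem_sup_left hx), Subtype.ext (g.kerR x hx)⟩)
  have c5 := BN.card_eq_ncard_conj_mul P s
  have pP := hP.isPGroup.map (𝐍(Q)).subtype
  have c6 : Nat.card ↥(P ⊓ 𝐂[s]) ≤ Nat.card F * 2 := (card_subtype _ _).ge.trans (g.w.card_le hs (hP.isPGroup.to_inf_left.map _) (by
    rintro _ ⟨x, hx, rfl⟩; exact mem_cent.2 (congrArg Subtype.val (mem_cent.1 hx.2))))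
  have c7 : {y | ∃ k ∈ P, k * s * k⁻¹ = y}.ncard < Nat.card F := by
    refine (card_le_of_inj (p := (· ∈ {y | ∃ k ∈ P, k * s * k⁻¹ = y})) (q := (· ∈ D ⊓ 𝐂[(s : G)])) (fun y => (y : G) * s) ?_
      fun a b _ _ k => Subtype.ext (mul_right_cancel k)).trans_lt (g.w.cardD ▸ card_lt_of_lt' (lt_of_le_of_ne inf_le_left fun k =>
        sD (mem_centS.2 fun d hd => (mem_cent.1 (k.ge hd).2).symm)))
    rintro _ ⟨x, hx, rfl⟩
    have x1 : π (x * s * x⁻¹ * s) = 1 := congrArg Subtype.val (show π.rangeRestrict (x * s * x⁻¹ * s) = 1 by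
      rw [map_mul, map_mul, map_mul, map_inv, (mem_cent.1 (hP.le hx)).mul_inv_cancel, mul_self_of_two v2])
    have sP := h1 (show s ∈ (Q ⊔ zpowers (s : G)).subgroupOf _ from mem_sup_right (mem_zpowers _))
    have x2 : (x * s * x⁻¹ * s : G) ∈ Q := g.memQ pP (fun a ha => ⟨⟨a, le_normalizer ha⟩, h1 (mem_sup_left ha), rfl⟩) (x * s * x⁻¹ * s)
      (mem_map_of_mem _ (mul_mem (mul_mem (mul_mem hx sP) (inv_mem hx)) sP)) (by rw [x1]; rfl)
    have x3 := RD (g.memR x2 (g.w.mul3 (hs.trans (isConj_conj (x : G) s)) hs))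
    refine ⟨x3, mem_cent.2 (Commute.mul_left ?_ (Commute.refl _))⟩
    have := inv_eq_of_mul_eq_one_left (g.w.sq _ x3)
    rwa [mul_inv_rev, inv_of_two s2, inv_of_two (x := (x : G) * s * (x⁻¹ : 𝐍(Q))) ((Invol.orderOf_conj _ _).trans s2), eq_comm] at this
  have c8 := g.card
  have c9 := card_le_of_le g.DR
  rw [c3, v4, inf_comm] at c2
  rw [g.w.cardD] at c9
  have := g.w.big
  have := Nat.mul_le_mul_left (Nat.card F) (c4.trans' (c8.ge.trans' (Nat.mul_le_mul_right 2 c9)))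
  have := (Nat.mul_le_mul_left _ c6).trans_lt (Nat.mul_lt_mul_of_pos_right c7 (by omega : 0 < Nat.card F * 2))
  omega

theorem exc (no2 : ∀ K : Subgroup G, K.index ≠ 2) (h : Aff π.range F) : False := by
  haveI := fact_two
  obtain ⟨u, w, u2, w2, h4, h2, hS⟩ := h.main.2
  obtain ⟨P, hP, h1⟩ := exists_syl_ge (H := (closure {u, w}).comap π.rangeRestrict) (Amalg.isPGroup_subgroupOf g.p 𝐍(Q))
    fun x hx => mem_comap.2 ((show π.rangeRestrict x = 1 from Subtype.ext (g.kerR x hx)) ▸ one_mem _)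
  have c3 := (hP.map π.rangeRestrict).eq_of_isPGroup (by
    rw [map_comap_eq_self_of_surjective π.rangeRestrict_surjective]; exact hS.isPGroup)
  rw [map_comap_eq_self_of_surjective π.rangeRestrict_surjective] at c3
  obtain ⟨a, ha, rfl⟩ := c3.ge (Kl.mem_left u w)
  obtain ⟨b, hb, rfl⟩ := c3.ge (Kl.mem_right _ w)
  have pP := hP.isPGroup.map (𝐍(Q)).subtype
  have QP : Q ≤ P.map (𝐍(Q)).subtype := fun a ha => ⟨⟨a, le_normalizer ha⟩, h1 ha, rfl⟩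
  have k0 : ∀ x ∈ P, π.rangeRestrict x = 1 → (x : G) ∈ Q := fun x hx k =>
    g.memQ pP QP x (mem_map_of_mem _ hx) (by rw [show π x = 1 from congrArg Subtype.val k]; rfl)
  have k1 : ∀ x ∈ P, π.rangeRestrict (x * x) = 1 → (x * x : G) ∈ R := fun x hx k => g.memR (k0 _ (mul_mem hx hx) k) (g.w.nsq x)
  have hN : 𝐍(P.map (𝐍(Q)).subtype) ≤ 𝐍(Q) := le_normalizer_of_cj_le fun n hn => cj_le_iff'.2 (by
    have k : ∀ x ∈ Q, IsConj t x → n * x * n⁻¹ ∈ Q := fun x hx k => by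
      obtain ⟨y, -, e1⟩ := conj_mem_norm hn (QP hx)
      exact e1 ▸ g.mem_exc h y (k.trans (isConj_iff.2 ⟨n, e1.symm⟩))
    intro x hx
    rcases g.dec x hx with e1 | e1
    · simpa [g.w.tt'] using mul_mem (k t g.tQ (IsConj.refl t)) (k _ (mul_mem g.tQ hx) (g.aX e1))
    · exact k x hx (g.w.tt' x ▸ g.aX e1))
  have hP' : Syl 2 (P.map (𝐍(Q)).subtype) ⊤ := syl_of_syl_normalizer ⟨le_inf le_top le_normalizer, pP, fun U u1 u2 u3 => by
    have u4 := (u2.trans inf_le_right).trans hN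
    have u5 : P ≤ U.subgroupOf 𝐍(Q) := map_le_iff_le_comap.1 u1
    rw [← hP.eq_of_le _ u5 (map_le_iff_le_comap.1 (hS.le_of_le (c3 ▸ map_mono u5) le_top ((Amalg.isPGroup_subgroupOf u3 _).map _)))
      (Amalg.isPGroup_subgroupOf u3 _), map_subgroupOf_of_le u4]⟩
  haveI : (R.subgroupOf 𝐍(Q)).Normal := (normal_subgroupOf_iff_le_normalizer (g.rle.trans le_normalizer)).2 g.nR
  let f := QuotientGroup.mk' (R.subgroupOf 𝐍(Q))
  have f1 : ∀ x, f x = 1 ↔ (x : G) ∈ R := fun x => QuotientGroup.eq_one_iff x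
  let M := ((closure {f a, f b}).comap f).map (𝐍(Q)).subtype
  have RM : R ≤ M := fun r hr => ⟨⟨r, le_normalizer (g.rle hr)⟩, mem_comap.2 ((f1 ⟨r, _⟩).2 hr ▸ one_mem _), rfl⟩
  have tM : t ∉ M := by
    rintro ⟨x, hx, e1 : (x : G) = t⟩
    have k2 : ∀ y, f x = f y → π.rangeRestrict y = 1 := fun y k => by
      have := (f1 (x⁻¹ * y)).1 (by rw [map_mul, map_inv, k, inv_mul_cancel])
      exact Subtype.ext (g.kerR y ((mul_mem_cancel_left (inv_mem (e1 ▸ g.tQ))).1 (g.rle this)))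
    obtain ⟨j, k | k⟩ := (mem_closure_invols_iff (by rw [← map_mul, f1]; exact k1 a ha ((map_mul _ _ _).trans u2))
      (by rw [← map_mul, f1]; exact k1 b hb ((map_mul _ _ _).trans w2)) _).1 hx
    · have k3 := k2 ((a * b) ^ j) (by simpa using k)
      obtain ⟨i, rfl⟩ : (4 : ℤ) ∣ j := by
        rw [map_zpow, map_mul, ← orderOf_dvd_iff_zpow_eq_one, orderOf_eq_prime_pow (p := 2) (n := 1) h2 h4] at k3
        exact k3
      refine g.tR (e1 ▸ (f1 x).1 ?_)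
      rw [k, zpow_mul, ← map_mul, ← map_zpow, (f1 _).2, one_zpow]
      rw [show (a * b) ^ (4 : ℤ) = (a * b) ^ 2 * (a * b) ^ 2 by group]
      exact k1 ((a * b) ^ 2) (P.pow_mem (P.mul_mem ha hb) 2) (by rwa [← pow_add, map_pow, map_mul])
    · have k3 := k2 (a * (a * b) ^ j) (by simpa using k)
      rw [map_mul, map_zpow, map_mul, mul_eq_one_iff_eq_inv] at k3
      have k4 : Commute (π.rangeRestrict a) (π.rangeRestrict a * π.rangeRestrict b) := by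
        nth_rw 1 [k3]; exact ((Commute.refl _).zpow_left j).inv_left
      exact h2 (by rw [sq, ← mul_assoc, ← k4.eq, ← mul_assoc, u2, one_mul, w2])
  obtain ⟨y, hy⟩ := thompson_transfer' no2 (Nat.not_even_iff_odd.1 fun e => hP'.not_dvd_index e.two_dvd)
    (M := M ⊓ P.map (𝐍(Q)).subtype) (relIndex_two (QP g.tQ) (fun k => tM k.1) (by
      rintro _ ⟨x, hx, rfl⟩
      obtain ⟨y, hy, k⟩ := (MonoidHom.map_closure π.rangeRestrict {a, b}).ge (by rw [Set.image_pair]; exact hP.le hx)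
      have yM : (y : G) ∈ M := mem_map_of_mem _ (by simpa [MonoidHom.map_closure, Set.image_pair] using mem_map_of_mem f hy)
      have k' := k0 (x * y⁻¹) (mul_mem hx (inv_mem (Kl.closure_le ha hb hy))) (by rw [map_mul, map_inv, k, mul_inv_cancel])
      exact (g.dec _ k').imp (fun k => ⟨by simpa using mul_mem (RM k) yM, mem_map_of_mem _ hx⟩)
        fun k => ⟨by simpa [mul_assoc] using mul_mem (RM k) yM, mul_mem (QP g.tQ) (mem_map_of_mem _ hx)⟩)) g.w.two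
  obtain ⟨x, -, e1⟩ := hy.2
  exact tM ((M.mul_mem_cancel_right hy.1).1 (RM (g.tX (e1 ▸ g.mem_exc h x (isConj_iff.2 ⟨y, e1.symm⟩))
    (isConj_conj y t))))

section
variable (hP : Syl 2 P (𝐍(Q) ⊓ 𝐂(D))) (h1 : Q ≤ P)
include hP h1

theorem frat (hn : n ∈ 𝐍(Q) ⊓ 𝐂(D)) : ∃ x ∈ P, x * n ∈ 𝐂[t] := by
  haveI := fact_two
  obtain ⟨a, ha, x, hx, k⟩ := hP.mem_res_mul (inv_mem hn)
  have : a ∈ ((MulAction.stabilizer _ (0 : F)).comap π).map (𝐍(Q)).subtype := res_le_of_pow_mem (p := 2) (fun y hy => ⟨1, mem_map.2 ⟨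
    ⟨y, hy.1⟩ * ⟨y, hy.1⟩, show π _ 0 = 0 by rw [map_mul, Equiv.Perm.mul_apply, (g.trans _).2 hy.2, g.two], by simp [sq]⟩⟩) ha
  obtain ⟨b, hb, rfl⟩ := this
  obtain ⟨r, hr, k'⟩ := g.stab b⁻¹ (inv_mem hb :)
  exact ⟨r * x, mul_mem (h1 (g.rle hr)) hx, by rwa [← inv_inv n, ← k, mul_inv_rev, mul_assoc, mul_inv_cancel_left]⟩

theorem mulP (a : F) (h : a ≠ 0) : ∃ y ∈ 𝐂[t], y ∈ 𝐍(Q) ∧ y ∈ 𝐍(P) ∧ ∀ x, y * e x * y⁻¹ = e (a * x) := by
  haveI := fact_two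
  obtain ⟨y, y1, y2, y3⟩ := g.mul a h
  obtain ⟨n, hn, b, hb, k⟩ := hP.frattini_mem (le_normalizer_inf le_normalizer (g.nD.trans (normalizer_le_normalizer_centralizer _)) y2)
  obtain ⟨x, hx, k'⟩ := g.frat hP h1 (conj_mem_norm (inv_mem (le_normalizer_inf le_normalizer
    (g.nD.trans (normalizer_le_normalizer_centralizer _)) y2)) hn)
  have x1 := hP.le hx
  refine ⟨b * x⁻¹, ?_, mul_mem (((𝐍(Q)).mul_mem_cancel_left hn.1).1 (k ▸ y2)) (inv_mem x1.1), mul_mem hb (le_normalizer (inv_mem hx)),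
    fun z => ?_⟩
  · convert mul_mem y1 (inv_mem k') using 1
    rw [k]; group
  · rw [← conj_mul', (mem_centS.1 (inv_mem x1.2) _ (g.w.eD z)).mul_inv_cancel, ← (mem_centS.1 (inv_mem hn.2) _
      (g.w.eD (a * z))).mul_inv_cancel, ← y3, k]
    group

theorem sqP (hx : x ∈ P) : x * x ∈ R :=
  g.memR (g.memQ hP.isPGroup h1 (⟨x, (hP.le hx).1⟩ * ⟨x, (hP.le hx).1⟩) (mul_mem hx hx)
    (by rw [map_mul, Equiv.Perm.mul_apply, (g.trans _).2 (hP.le hx).2, g.two])) (g.w.nsq x)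

theorem cmP (hx : x ∈ P) (hy : y ∈ P) : x * y * x⁻¹ * y⁻¹ ∈ R := by
  convert mul_mem (mul_mem (g.sqP hP h1 hx) (g.sqP hP h1 (mul_mem (inv_mem hx) hy))) (inv_mem (g.sqP hP h1 hy)) using 1
  group

theorem trP (m : 𝐍(Q)) (hm : (m : G) ∈ P) (h0 : π m 0 ≠ 0) {a : F} (ha : a ≠ 0) :
    ∃ y : 𝐍(Q), ((y * m * y⁻¹ : 𝐍(Q)) : G) ∈ P ∧ π (y * m * y⁻¹) 0 = a := by
  obtain ⟨y, y1, y2, y3, y4⟩ := g.mulP hP h1 (a / π m 0) (div_ne_zero ha h0)
  have k : ∀ x, π ⟨y, y2⟩ x = a / π m 0 * x := fun x => g.w.inj ((g.actc _ y1 x).trans (y4 x))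
  refine ⟨⟨y, y2⟩, conj_mem_norm y3 hm, ?_⟩
  rw [map_mul, map_mul, map_inv, Equiv.Perm.mul_apply, Equiv.Perm.mul_apply, Equiv.Perm.inv_eq_iff_eq.2 (by rw [k, mul_zero]), k,
    div_mul_cancel₀ _ h0]

variable (h0 : ∃ m : 𝐍(Q), (m : G) ∈ P ∧ π m 0 ≠ 0)
include h0

theorem XP (hs : s ∈ P) (h : IsConj t s) (hr : r ∈ R) : IsConj t (r * s) := by
  have c1 := BN.card_eq_ncard_conj_mul P t
  have c2 := BN.card_eq_ncard_conj_mul P s
  have c3 := g.w.card_le h hP.isPGroup.to_inf_left (inf_le_right (a := P))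
  have c4 := g.w.cardT ▸ card_le_of_le (le_inf (g.le.trans h1) g.w.syl.le)
  have c5 : Nat.card R ≤ {y | ∃ k ∈ P, k * t * k⁻¹ = y}.ncard :=
    card_le_of_inj (p := (· ∈ R)) (q := (· ∈ {y | ∃ k ∈ P, k * t * k⁻¹ = y})) (t * ·) (fun r hr => by
      obtain ⟨a, ha⟩ := (g.w.mem _).1 (g.pw r hr)
      obtain ⟨x, x1, x2⟩ : ∃ x : 𝐍(Q), (x : G) ∈ P ∧ π x 0 = a := by
        obtain rfl | a0 := eq_or_ne a 0
        · exact ⟨1, one_mem _, by simp⟩
        · obtain ⟨m, m1, m2⟩ := h0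
          exact let ⟨y, k⟩ := g.trP hP h1 m m1 m2 a0; ⟨_, k⟩
      obtain ⟨b, hb, k⟩ := g.ker _ (mul_mem (inv_mem hr) (g.rn x.2)) (by
        rw [(g.comm (inv_mem hr) (g.rn x.2)).mul_pow, ← g.act0, x2, ha, inv_pow, inv_mul_cancel])
      refine ⟨b * x, mul_mem (h1 (g.rle hb)) x1, ?_⟩
      rw [← conj_mul', ← g.w.tt' (x * t * _), ← mul_inv_cancel_left r (t * (x * t * _)), ← k, (g.comm hr (mul_mem hb hb)).eq,
        mul_assoc, mul_assoc, mul_assoc, (g.comm hr (inv_mem hb)).eq,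
        show b * (t * (b * b * (b⁻¹ * r))) = b * (t * b * t⁻¹) * (t * r) by group, g.inv hb, mul_inv_cancel, one_mul]) fun _ _ _ _ => mul_left_cancel
  obtain ⟨_, ⟨x, -, rfl⟩, k⟩ := surj_of_inj_of_card_le (p := (· ∈ {y | ∃ k ∈ P, k * s * k⁻¹ = y})) (q := (· ∈ R)) (· * s⁻¹)
    (by rintro _ ⟨x, hx, rfl⟩; exact g.cmP hP h1 hx hs) (fun _ _ _ _ => mul_right_cancel) (by
      have := g.w.big
      refine Nat.le_of_mul_le_mul_right ((Nat.mul_le_mul c5 c4).trans (c1.ge.trans (c2.le.trans (Nat.mul_le_mul_left _ c3))))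
        (by omega)) r hr
  exact mul_inv_eq_iff_eq_mul.1 k ▸ h.trans (isConj_conj x s)

theorem exists_R : ∃ R' ≤ P, (∀ x ∈ P, x ∈ R' ∨ t * x ∈ R') ∧ ∀ x ∈ R', ¬ IsConj t x := by
  have tP := h1 g.tQ
  by_cases h : ∀ s ∈ P, IsConj t s → s ∈ Q
  · obtain ⟨M, ⟨m1, m2, m3⟩, hM⟩ := Finite.exists_le_maximal (p := fun M => R ≤ M ∧ M ≤ P ∧ t ∉ M)
      (a := R) ⟨le_rfl, g.rle.trans h1, g.tR⟩ |>.imp fun _ h => h.2
    refine ⟨M, m2, fun x hx => or_iff_not_imp_left.2 fun k => ?_, fun x hx k =>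
      m3 ((mul_mem_cancel_right hx).1 (m1 (g.tX (h x (m2 hx) k) k)))⟩
    have n1 : zpowers x ≤ 𝐍(M) := zpowers_le.2 (mem_normalizer_of_cj_le (cj_le_iff'.2 fun y hy => by
      simpa using mul_mem (m1 (g.cmP hP h1 hx (m2 hy))) hy))
    obtain ⟨a, ha, _, ⟨j, rfl⟩, k'⟩ := (mem_sup_of_le_normalizer' n1).1 (show t ∈ M ⊔ zpowers x from by_contra fun k' =>
      k (hM ⟨m1.trans le_sup_left, sup_le m2 (zpowers_le.2 hx), k'⟩ le_sup_left (mem_sup_right (mem_zpowers x))))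
    have x2 : ∀ i : ℤ, x ^ (2 * i) ∈ M := fun i => by rw [zpow_mul]; exact zpow_mem (zpow_two x ▸ m1 (g.sqP hP h1 hx)) i
    obtain ⟨i, rfl | rfl⟩ := j.even_or_odd'
    · exact absurd (k' ▸ mul_mem ha (x2 i)) m3
    · rw [← k', mul_assoc]
      exact mul_mem ha (by simpa only [← zpow_add_one, add_assoc, mul_add, one_add_one_eq_two, mul_one] using x2 (i + 1))
  push Not at h
  obtain ⟨s, s1, s2, s3⟩ := h
  have k1 : ∀ x ∈ P, ¬ IsConj t x → IsConj t (t * x) := fun x hx k => by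
    by_cases xQ : x ∈ Q
    · exact g.aX (g.memR xQ k)
    obtain ⟨y, y1, y2⟩ := g.trP hP h1 ⟨s, (hP.le s1).1⟩ s1 (mt (g.memQ hP.isPGroup h1 _ s1) s3)
      (mt (g.memQ hP.isPGroup h1 ⟨x, (hP.le hx).1⟩ hx) xQ)
    have y3 : IsConj t (y * ⟨s, (hP.le s1).1⟩ * y⁻¹ : 𝐍(Q)) := s2.trans (isConj_conj (y : G) s)
    generalize y * ⟨s, (hP.le s1).1⟩ * y⁻¹ = z at *
    have y4 : x * z ∈ Q := g.memQ hP.isPGroup h1 (⟨x, (hP.le hx).1⟩ * z) (mul_mem hx y1) (by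
      rw [map_mul, Equiv.Perm.mul_apply, (g.trans _).2 (hP.le hx).2, y2, g.two])
    have y5 : ∀ a : G, a * z * z = a := fun a => by rw [mul_assoc, mul_self_of_two (g.w.ord y3), mul_one]
    rcases g.dec _ y4 with e1 | e1
    · exact absurd (y5 x ▸ g.XP hP h1 h0 y1 y3 e1) k
    · simpa only [← mul_assoc, y5] using g.XP hP h1 h0 y1 y3 e1
  refine ⟨⟨⟨⟨{x | x ∈ P ∧ ¬ IsConj t x}, fun {a b} ha hb => ⟨mul_mem ha.1 hb.1, fun k => ?_⟩⟩, one_mem _, g.nX 1 (one_mem _)⟩,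
    fun {a} ha => ⟨inv_mem ha.1, fun k => ha.2 (inv_inv a ▸ (inv_of_two (g.w.ord k)).symm ▸ k)⟩⟩, fun _ h => h.1, fun x hx => ?_,
    fun _ h => h.2⟩
  · refine g.w.mul3 (k1 a ha.1 ha.2) (k1 b hb.1 hb.2) ?_
    convert g.XP hP h1 h0 (mul_mem ha.1 hb.1) k (g.cmP hP h1 tP ha.1) using 1
    simp [mul_assoc, inv_of_two g.w.two]
  · exact or_iff_not_imp_left.2 fun k => ⟨mul_mem tP hx, g.w.mul3 (IsConj.refl t) (by_contra fun k' => k ⟨hx, k'⟩)⟩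

end

theorem step (no2 : ∀ K : Subgroup G, K.index ≠ 2) : ∃ Q' R', Gd t T D e Q' R' ∧ Q < Q' := by
  haveI := fact_two
  obtain ⟨n, n1, n2⟩ := not_forall.1 (mt g.aff (g.exc no2)) |>.imp fun _ => Classical.not_imp.1
  obtain ⟨P, hP, h1⟩ := exists_syl_ge (H := 𝐍(Q) ⊓ 𝐂(D)) g.p (le_inf le_normalizer fun x hx => mem_centS.2 fun d => g.QC hx)
  obtain ⟨x, hx, k⟩ := g.frat hP h1 ⟨n.2, n1⟩
  have x0 : π ⟨x, (hP.le hx).1⟩ 0 ≠ 0 := fun h => n2 (by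
    have := g.w.e_one ((g.actc (⟨x, (hP.le hx).1⟩ * n) k 0).trans (by simp [g.w.e0]))
    rwa [map_mul, Equiv.Perm.mul_apply, (g.trans _).2 (hP.le hx).2, h, add_zero] at this)
  obtain ⟨R', r1, r2, r3⟩ := g.exists_R hP h1 ⟨_, hx, x0⟩
  exact ⟨P, R', ⟨g.w, hP.isPGroup, g.le.trans h1, r1, r2, r3, fun a h => let ⟨y, y1, _, y2⟩ := g.mulP hP h1 a h; ⟨y, y1, y2⟩⟩,
    lt_of_le_of_ne h1 fun e1 => x0 (by rw [g.kerR _ (e1.ge hx)]; rfl)⟩

end Ac

theorem TF.false (w : TF t T D e) (no2 : ∀ K : Subgroup G, K.index ≠ 2) : False := by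
  haveI := fact_two
  obtain ⟨Q, ⟨R, g⟩, hQ⟩ := Finite.exists_le_maximal (p := fun Q => ∃ R, Gd t T D e Q R) (a := T)
    ⟨D, w, w.syl.isPGroup, le_rfl, w.le, w.dec, w.nX, fun a h => let ⟨y, y1, y2⟩ := w.mul a h; ⟨y, y1,
      mem_normalizer_of_cj_le (cj_le_iff'.2 fun x hx => by
        have k : ∀ d ∈ D, y * d * y⁻¹ ∈ T := fun d hd => let ⟨z, hz⟩ := (w.mem d).1 hd; hz ▸ y2 z ▸ w.le (w.eD _)
        exact (w.dec x hx).elim (k x) fun h => (mul_mem_cancel_left w.tT).1 (by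
          simpa only [← conj_mul, (mem_cent.1 y1).mul_inv_cancel] using k _ h)), y2⟩⟩
    |>.imp fun _ h => h.2
  obtain ⟨P, hP, h1⟩ := exists_syl_ge (H := ⊤ ⊓ 𝐍(Q)) g.p (le_inf le_top le_normalizer)
  rcases h1.eq_or_lt with rfl | h2
  · obtain ⟨y, hy⟩ := thompson_transfer' no2 (Nat.not_even_iff_odd.1 fun e => (syl_of_syl_normalizer hP).not_dvd_index e.two_dvd)
      (relIndex_two g.tQ g.tR g.dec) w.two
    exact g.nX _ hy (isConj_conj y t)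
  · obtain ⟨k, π, a⟩ := Up.exists_ac ⟨g, fun r => g.all hP.isPGroup h2 (hP.le.trans inf_le_right)⟩
    obtain ⟨Q', R', g', h⟩ := a.step no2
    exact h.not_ge (hQ ⟨R', g'⟩ h.le)

end Cfsg.Lib.JTW
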