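import Cfsg.Agent.Lib.JTW.Std3
import Cfsg.Agent.Lib.Amalg.Extremal

/-! An involution `t` whose centraliser has a Sylow `2`-subgroup `⟨t⟩ × D` with `D` dihedral. -/

set_option autoImplicit false
set_option linter.unusedSectionVars false
set_option linter.style.haveILetI false

namespace Cfsg.Lib.JTW
open Subgroup Cfsg.Lib.Core Cfsg.Lib.BG1 Cfsg.Lib.Invol Cfsg.Lib.Layer Cfsg.Lib.Gold Cfsg.Lib.Linear Function
open Cfsg.Lib.Amalg hiding le_cent_symm op_top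
open Cfsg.Lib.GW hiding Ctx
open Cfsg.Lib.Exc (DS)
open scoped Cfsg.Lib.Wal

universe u

variable {G : Type u} [Group G] [Finite G] {S T D H P : Subgroup G} {t s a b c d r n u x y z : G}

/-- the sign of `t` on the set of its conjugates in a Sylow subgroup -/
theorem sign_trick (no2 : ∀ K : Subgroup G, K.index ≠ 2) (ht : orderOf t = 2) (hT : Syl 2 T 𝐂[t]) (hS : Syl 2 S ⊤) (h : T ≤ S)
    (h4 : 4 ∣ T.relIndex S) : Nat.card {x // x ∈ T ∧ IsConj t x} % 4 ≠ 2 := fun h2 => by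
  classical
  haveI := fact_two
  let Ω := {x // x ∈ S ∧ IsConj t x}
  haveI := Fintype.ofFinite Ω
  letI : MulAction S Ω :=
    { smul := fun a x => ⟨a * x * (a : G)⁻¹, mul_mem (mul_mem a.2 x.2.1) (inv_mem a.2), x.2.2.trans (isConj_conj _ _)⟩
      one_smul := fun z => Subtype.ext (show (1 : G) * z * 1⁻¹ = z by simp)
      mul_smul := fun a b z => Subtype.ext (conj_mul' _ _ _).symm }
  have k : ∀ (a : S) (x : Ω), a • x = x ↔ Commute (a : G) x := fun a x => Subtype.ext_iff.trans mul_inv_eq_iff_eq_mul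
  have c1 : 4 ∣ Nat.card Ω := by
    haveI := Fintype.ofFinite (MulAction.orbitRel.Quotient S Ω)
    rw [Nat.card_congr (MulAction.selfEquivSigmaOrbits S Ω), Nat.card_sigma]
    refine Finset.dvd_sum fun ω _ => (h4.trans ?_).trans (MulAction.index_stabilizer S ω.out).dvd
    obtain ⟨g, hg⟩ := isConj_iff.1 ω.out.2.2
    obtain ⟨m, hm⟩ := (hT.conj g).card_dvd (P := (MulAction.stabilizer S ω.out).map S.subtype) (hS.isPGroup.to_le (map_subtype_le _))
      (by rintro _ ⟨a, ha, rfl⟩; rw [cj_centralizer_singleton, hg]; exact mem_cent.2 ((k _ _).1 ha))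
    have e1 := card_mul_index (MulAction.stabilizer S ω.out)
    rw [← Clifford.card_mul_relIndex h, ← card_cj g T, hm, card_subtype, mul_assoc] at e1
    exact Dvd.intro_left _ (Nat.eq_of_mul_eq_mul_left Nat.card_pos e1).symm
  let χ := Equiv.Perm.sign.comp (MulAction.toPermHom S Ω)
  have c2 : ∀ (g : G) (h1 : g⁻¹ * t * g ∈ S), (∀ x ∈ T, g⁻¹ * x * g ∈ S) → χ ⟨_, h1⟩ = -1 := fun g h1 h3 => by
    have e1 : Nat.card (fixedPoints (MulAction.toPermHom S Ω ⟨_, h1⟩)) = Nat.card {x // x ∈ T ∧ IsConj t x} := by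
      refine (card_eq_of_bij (fun x : Ω => g * x * g⁻¹) (fun x hx => ⟨?_, x.2.2.trans (isConj_conj _ _)⟩)
        (fun x y _ _ e => Subtype.ext (mul_left_cancel (mul_right_cancel e))) fun x hx =>
          ⟨⟨g⁻¹ * x * g, h3 x hx.1, by simpa using hx.2.trans (isConj_conj g⁻¹ x)⟩, (k _ _).2 (by
            simpa using commute_conj g⁻¹ (mem_cent.1 (hT.le hx.1)).symm), by simp [mul_assoc]⟩)
      exact hT.le_of_le (le_inf (fun y hy => mem_cj.2 (h3 y hy)) hT.le) inf_le_right (isPGroup_cj g hS.isPGroup).to_inf_left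
        ⟨conj_mem_cj g x.2.1, mem_cent.2 (by simpa [mul_assoc] using (commute_conj g ((k _ _).1 hx)).symm)⟩
    have e2 := Finite.card_subtype_le (· ∈ fixedPoints (MulAction.toPermHom S Ω ⟨_, h1⟩))
    show Equiv.Perm.sign _ = _
    rw [Equiv.Perm.sign_of_pow_two_eq_one (by
      rw [← map_pow, show (⟨_, h1⟩ : S) ^ 2 = 1 from Subtype.ext (sq_of_two ((Invol.orderOf_conj' g t).trans ht)), map_one]),
      ← Nat.card_eq_fintype_card, ← Nat.card_eq_fintype_card, e1]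
    refine Odd.neg_one_pow (Nat.odd_iff.2 ?_)
    change Nat.card (fixedPoints _) ≤ _ at e2
    omega
  have tS : t ∈ S := h (hT.mem_of_mem_normalizer (k := 1) (sq_of_two ht) (mem_cent.2 rfl)
    (centralizer_le_normalizer _ (mem_centS.2 fun _ h => (mem_cent.1 (hT.le h)).symm)))
  have c3 : χ ⟨t, tS⟩ = -1 := by simpa using c2 1 (by simpa) (by simpa)
  obtain ⟨g, ⟨y, h1, e1⟩, h3⟩ := thompson_transfer_extremal no2 (Nat.not_even_iff_odd.1 fun e => hS.not_dvd_index e.two_dvd)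
    (M := χ.ker.map S.subtype) (relIndex_two tS (fun ⟨y, h1, e1⟩ => by
      rw [← show y = ⟨t, tS⟩ from Subtype.ext e1, MonoidHom.mem_ker.1 h1] at c3; exact absurd c3 (by decide))
      fun x hx => (Int.units_eq_one_or (χ ⟨x, hx⟩)).imp (fun e => ⟨_, e, rfl⟩) fun e =>
        ⟨⟨t, tS⟩ * ⟨x, hx⟩, show χ _ = 1 by rw [map_mul, c3, e]; simp, rfl⟩) ht hT.isPGroup hT.le
  have := c2 g (e1 ▸ y.2) h3
  rw [← show y = ⟨_, _⟩ from Subtype.ext e1, MonoidHom.mem_ker.1 h1] at this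
  exact absurd this (by decide)

theorem syl_trans (hP : Syl 2 P H) {k : ℕ} (h : {y | ∃ k ∈ H, k * t * k⁻¹ = y}.ncard = 2 ^ k) (hn : n ∈ H) :
    ∃ x ∈ P, x * t * x⁻¹ = n * t * n⁻¹ := by
  haveI := fact_two
  obtain ⟨U, hU⟩ := exists_syl 2 (H ⊓ 𝐂[t])
  obtain ⟨j, hj⟩ := hU.isPGroup.exists_card_eq
  have c1 := BN.card_eq_ncard_conj_mul P t
  have c2 : 2 ^ k * Nat.card U ≤ Nat.card P := by
    rw [hP.card_eq_pow, hj, ← pow_add]
    refine Nat.pow_le_pow_right two_pos ((Nat.prime_two.pow_dvd_iff_le_factorization Nat.card_pos.ne').1 ?_)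
    rw [BN.card_eq_ncard_conj_mul H t, h, pow_add, ← hj]
    exact mul_dvd_mul_left _ (card_dvd_of_le hU.le)
  refine (Set.eq_of_subset_of_ncard_le (s := {y | ∃ k ∈ P, k * t * k⁻¹ = y}) (t := {y | ∃ k ∈ H, k * t * k⁻¹ = y})
    (fun _ ⟨x, hx, e⟩ => ⟨x, hP.le hx, e⟩) (h ▸ Nat.le_of_mul_le_mul_right (c2.trans (c1.le.trans (Nat.mul_le_mul_left _
      (hU.card_le hP.isPGroup.to_inf_left (inf_le_inf_right _ hP.le))))) Nat.card_pos)).ge ⟨n, hn, rfl⟩

structure TD (t : G) (T D : Subgroup G) (r b z : G) : Prop where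
  two : orderOf t = 2
  syl : Syl 2 T 𝐂[t]
  le : D ≤ T
  nm : t ∉ D
  dec : ∀ x ∈ T, x ∈ D ∨ t * x ∈ D
  ds : DS D r b
  r2 : orderOf r ≠ 2
  z2 : orderOf z = 2
  zr : z ∈ zpowers r
  cyc : ∀ a ∈ D, ∀ b ∈ D, Kl a b → ∃ n ∈ 𝐂[t], n * a * n⁻¹ = b ∧ n * b * n⁻¹ = a * b

namespace TD
variable (w : TD t T D r b z)
include w

theorem tt : t * t = 1 := mul_self_of_two w.two
theorem tt' (x : G) : t * (t * x) = x := by rw [← mul_assoc, w.tt, one_mul]
theorem tT : t ∈ T := w.syl.mem_of_mem_normalizer (k := 1) (sq_of_two w.two) (mem_cent.2 rfl)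
  (centralizer_le_normalizer _ (mem_centS.2 fun _ h => (mem_cent.1 (w.syl.le h)).symm))
theorem comm (hx : x ∈ T) : Commute x t := mem_cent.1 (w.syl.le hx)
theorem pD : IsPGroup 2 D := w.syl.isPGroup.to_le w.le
theorem zD : z ∈ D := w.ds.le w.zr
theorem eq_z (hd : d ∈ zpowers r) (h : orderOf d = 2) : d = z := eq_of_mem_zpowers hd w.zr h w.z2
theorem kl (hd : d ∈ D) (h : d ∉ zpowers r) : Kl z d :=
  ⟨w.z2, two_of_mul_self (w.ds.mul_self hd h) fun e => h (e ▸ one_mem _), fun e => h (e ▸ w.zr), w.ds.commute w.z2 w.zr hd⟩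
theorem one (hd : d ∈ D) (h : orderOf d = 2) : ∃ c ∈ 𝐂[t], c * z * c⁻¹ = d := by
  by_cases k : d ∈ zpowers r
  · exact ⟨1, one_mem _, by simp [w.eq_z k h]⟩
  · exact let ⟨n, h1, h2, _⟩ := w.cyc z w.zD d hd (w.kl hd k); ⟨n, h1, h2⟩

theorem nsq (x : G) : ¬ IsConj t (x * x) := fun h => by
  haveI := fact_two
  obtain ⟨g, hg⟩ := isConj_iff.1 h.symm
  rw [← conj_mul] at hg
  generalize g * x * g⁻¹ = y at hg
  obtain ⟨c, hc, k⟩ := w.syl.exists_conj_le (Invol.isPGroup_zpowers (k := 2) (x := y) (by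
    rw [show 2 ^ 2 = 2 * 2 from rfl, pow_mul, sq y, hg, sq_of_two w.two]))
    (zpowers_le.2 (mem_cent.2 (hg ▸ (Commute.refl y).mul_right (Commute.refl y))))
  have k1 := k (conj_mem_cj c (mem_zpowers y))
  have k2 : c * y * c⁻¹ * (c * y * c⁻¹) = t := by rw [conj_mul, hg, (mem_cent.1 hc).mul_inv_cancel]
  refine w.nm ((w.dec _ k1).elim (fun e => k2 ▸ mul_mem e e) fun e => ?_)
  simpa only [(w.comm k1).mul_mul_mul_comm, w.tt, one_mul, k2] using mul_mem e e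

theorem nX (hd : d ∈ D) : ¬ IsConj t d := fun h => by
  obtain ⟨c, -, rfl⟩ := w.one hd (orderOf_of_isConj h ▸ w.two)
  obtain ⟨y, -, e, -⟩ := ds_swap w.ds w.pD w.r2 w.z2 w.zr w.ds.x_mem w.ds.notMem
  exact w.nsq y (e ▸ h.trans (isConj_conj c z).symm)

theorem r4 : 4 ∣ orderOf r := by
  haveI := fact_two
  obtain ⟨k, hk⟩ := (w.pD.to_le w.ds.le).exists_card_eq
  have := w.r2
  have := w.z2 ▸ orderOf_dvd_of_mem_zpowers w.zr
  rw [Nat.card_zpowers] at hk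
  rcases k with _ | _ | k
  · omega
  · omega
  · exact hk ▸ Dvd.intro_left (2 ^ k) (by ring)

theorem sq_ne : r * r ≠ 1 := fun e => by
  have := w.r4.trans (orderOf_dvd_of_pow_eq_one ((sq r).trans e))
  omega

theorem swap (hn : n ∈ 𝐍(T)) : n * t * n⁻¹ = t ∨ n * t * n⁻¹ = t * z := by
  have h1 := (w.dec _ (conj_mem_norm hn w.tT)).resolve_left fun e => w.nX e (isConj_conj n t)
  have h2 : ∀ x ∈ T, Commute x (t * (n * t * n⁻¹)) := fun x hx => (w.comm hx).mul_right (by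
    simpa [mul_assoc] using commute_conj n (w.comm (conj_mem_norm (inv_mem hn) hx)))
  rw [← w.tt' (n * t * n⁻¹)]
  refine or_iff_not_imp_left.2 fun e => congrArg _ (w.eq_z (by_contra fun k => w.sq_ne ?_) (two_of_mul_self ?_ fun k => e (by
    rw [k, mul_one])))
  · exact mul_eq_one_iff_eq_inv.2 ((h2 r (w.le (w.ds.le (mem_zpowers r)))).symm.mul_inv_cancel.symm.trans
      (ds_inv w.ds h1 k (mem_zpowers r)))
  · rw [(w.comm (conj_mem_norm hn w.tT)).mul_mul_mul_comm, w.tt, conj_mul, w.tt]; simp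

section
variable (hu : IsConj t (t * z))
include hu

theorem aX (hd : d ∈ D) (h : d * d = 1) : IsConj t (t * d) := by
  obtain rfl | d1 := eq_or_ne d 1
  · rw [mul_one]
  obtain ⟨c, hc, rfl⟩ := w.one hd (two_of_mul_self h d1)
  simpa only [← conj_mul, (mem_cent.1 hc).mul_inv_cancel] using hu.trans (isConj_conj c _)

theorem count : Nat.card {x // x ∈ T ∧ IsConj t x} % 4 = 2 := by
  rw [← card_eq_of_bij (p := fun d => d ∈ D ∧ d * d = 1) (t * ·) (fun d hd => ⟨mul_mem w.tT (w.le hd.1), w.aX hu hd.1 hd.2⟩)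
    (fun _ _ _ _ => mul_left_cancel) fun x hx => ⟨t * x, ⟨(w.dec x hx.1).resolve_left fun e => w.nX e hx.2, by
      rw [(w.comm hx.1).mul_mul_mul_comm, w.tt, mul_self_of_two (orderOf_of_isConj hx.2 ▸ w.two), one_mul]⟩, w.tt' x⟩,
    card_split _ (· ∈ zpowers r), card_congr_iff (q := fun x => x = 1 ∨ x = z) fun x => ⟨fun h => or_iff_not_imp_left.2 fun e =>
      w.eq_z h.2 (two_of_mul_self h.1.2 e), by
        rintro (rfl | rfl)
        exacts [⟨⟨one_mem _, one_mul 1⟩, one_mem _⟩, ⟨⟨w.zD, mul_self_of_two w.z2⟩, w.zr⟩]⟩,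
    card_or_of_disjoint _ _ fun a h1 h2 => ne_one_of_two w.z2 (h2.symm.trans h1), card_eq_self, card_eq_self,
    card_congr_iff (q := fun x => x ∈ D ∧ x ∉ zpowers r) fun x => ⟨fun h => ⟨h.1.1, h.2⟩, fun h => ⟨⟨h.1, w.ds.mul_self h.1 h.2⟩, h.2⟩⟩]
  have c1 := card_split (· ∈ D) (· ∈ zpowers r)
  rw [card_congr_iff (p := fun x => x ∈ D ∧ x ∈ zpowers r) (q := (· ∈ zpowers r)) fun x => and_iff_right_of_imp fun h => w.ds.le h] at c1
  change Nat.card D = Nat.card (zpowers r) + _ at c1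
  rw [w.ds.card, Nat.card_zpowers] at c1
  have := w.r4
  omega

theorem nD (hn : n ∈ 𝐍(T)) : n ∈ 𝐍(D) := mem_normalizer_of_cj_le (cj_le_iff'.2 (by
  have k : ∀ d ∈ D, d ∉ zpowers r → n * d * n⁻¹ ∈ D := fun d hd e =>
    have h1 := conj_mem_norm hn (w.le hd)
    (w.dec _ h1).resolve_right fun h => w.nX hd ((w.tt' _ ▸ w.aX hu h (by
      rw [(w.comm h1).mul_mul_mul_comm, w.tt, conj_mul, w.ds.mul_self hd e]; simp)).trans (isConj_conj n d).symm)
  intro d hd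
  by_cases e : d ∈ zpowers r
  · simpa only [conj_mul, ← mul_assoc b, w.ds.hx, one_mul] using mul_mem (k b w.ds.x_mem w.ds.notMem) (k (b * d) (mul_mem w.ds.x_mem hd)
      fun h => w.ds.notMem ((mul_mem_cancel_right e).1 h))
  · exact k d hd e))

theorem nA (hn : n ∈ 𝐍(T)) : n ∈ 𝐍(zpowers r) := mem_normalizer_of_cj_le (by
  rw [cj_zpowers, zpowers_le]
  exact by_contra fun e => w.sq_ne (by simpa using w.ds.mul_self (conj_mem_norm (w.nD hu hn) (w.ds.le (mem_zpowers r))) e))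

theorem cm1 (hn : n ∈ 𝐍(T)) (hx : x ∈ T) : n * x * n⁻¹ * x⁻¹ ∈ zpowers r := by
  have k : ∀ d ∈ D, n * d * n⁻¹ * d⁻¹ ∈ zpowers r := fun d hd => by
    by_cases e : d ∈ zpowers r
    · exact mul_mem (conj_mem_norm (w.nA hu hn) e) (inv_mem e)
    · simpa using w.ds.mul_mem (inv_mem (conj_mem_norm (w.nD hu hn) hd)) (fun h => e (by
        simpa [mul_assoc] using conj_mem_norm (inv_mem (w.nA hu hn)) (inv_mem h))) (inv_mem hd) fun h => e (inv_mem_iff.1 h)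
  refine (w.dec x hx).elim (k x) fun h => ?_
  have k1 : n * t * n⁻¹ * t ∈ zpowers r := by
    rcases w.swap hn with e | e <;> rw [e]
    · exact w.tt ▸ one_mem _
    · rw [mul_assoc, (w.comm (w.le w.zD)).eq, w.tt']; exact w.zr
  convert mul_mem k1 ((w.comm (w.le (w.ds.le (k _ h)))).symm.mul_inv_cancel ▸ k _ h) using 1
  simp [mul_assoc, w.tt', w.tt, inv_of_two w.two]

end

theorem false (no2 : ∀ K : Subgroup G, K.index ≠ 2) : False := by
  haveI := fact_two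
  obtain ⟨S, hS, h1⟩ := exists_syl_ge w.syl.isPGroup le_top
  rcases h1.eq_or_lt with rfl | h2
  · obtain ⟨y, hy⟩ := thompson_transfer' no2 (Nat.not_even_iff_odd.1 fun e => hS.not_dvd_index e.two_dvd)
      (relIndex_two w.tT w.nm w.dec) w.two
    exact w.nX hy (isConj_conj y t)
  obtain ⟨u, ⟨u1, u2⟩, u3⟩ := SetLike.exists_of_lt (lt_inf_normalizer_of_lt hS.isPGroup h2)
  have u4 := (w.swap u2).resolve_left fun e => u3 (w.syl.le_of_le (le_inf h1 w.syl.le) inf_le_right hS.isPGroup.to_inf_left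
    ⟨u1, mem_cent.2 (mul_inv_eq_iff_eq_mul.1 e)⟩)
  have hu : IsConj t (t * z) := u4 ▸ isConj_conj u t
  obtain ⟨j, hj⟩ := hS.isPGroup.index (T.subgroupOf S)
  rcases j with _ | _ | j
  · exact h2.not_ge (relIndex_eq_one.1 hj)
  swap
  · exact sign_trick no2 w.two w.syl hS h1 (Dvd.intro_left (2 ^ j) (hj.trans (by ring)).symm) (w.count hu)
  have n1 : S ≤ 𝐍(T) := (normal_subgroupOf_iff_le_normalizer h1).1 (normal_of_index_eq_two hj)
  have cm : ∀ x ∈ S, ∀ y ∈ S, x * y * x⁻¹ * y⁻¹ ∈ zpowers r := fun x hx y hy => by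
    by_cases e : y ∈ T
    · exact w.cm1 hu (n1 hx) e
    by_cases e' : x ∈ T
    · simpa [mul_assoc] using inv_mem (w.cm1 hu (n1 hy) e')
    have : x⁻¹ * y ∈ T := (mul_mem_iff_of_index_two hj (a := ⟨x, hx⟩⁻¹) (b := ⟨y, hy⟩)).2 (iff_of_false (fun h => e' (inv_mem_iff.1 h)) e)
    simpa [mul_assoc] using conj_mem_norm (w.nA hu (n1 hx)) (w.cm1 hu (n1 hx) this)
  obtain ⟨k0, k1, k2, k3⟩ := w.cyc z w.zD b w.ds.x_mem (w.kl w.ds.x_mem w.ds.notMem)
  have uz : u * z * u⁻¹ = z := w.eq_z (conj_mem_norm (w.nA hu u2) w.zr) ((Invol.orderOf_conj u z).trans w.z2)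
  have kl := uz ▸ (w.kl w.ds.x_mem w.ds.notMem).conj u
  have cD := conj_mem_norm (w.nD hu u2) w.ds.x_mem
  have m1 : u * k0 * u⁻¹ * (t * z) * (u * k0 * u⁻¹)⁻¹ = t * z := by
    rw [← u4, conj_inv, conj_mul, conj_mul, (mem_cent.1 k1).mul_inv_cancel]
  have m2 : u * k0 * u⁻¹ * z * (u * k0 * u⁻¹)⁻¹ = u * b * u⁻¹ := by rw [← uz, conj_inv, conj_mul, conj_mul, k2]
  have m3 : u * k0 * u⁻¹ * (u * b * u⁻¹) * (u * k0 * u⁻¹)⁻¹ = z * (u * b * u⁻¹) := by
    rw [conj_inv, conj_mul, conj_mul, k3, ← conj_mul, uz]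
  generalize u * k0 * u⁻¹ = m, u * b * u⁻¹ = c at *
  obtain ⟨n, n0, n2, n3⟩ := w.cyc z w.zD c cD kl
  have n4 := (mem_cent.1 n0).mul_inv_cancel
  have zz := mul_self_of_two w.z2
  have m4 : m * t * m⁻¹ = t * (z * c) := by rw [← mul_assoc t, ← m1, ← m2, conj_mul, mul_assoc t, zz, mul_one]
  have n5 : n * (t * (z * c)) * n⁻¹ = t * z := by rw [← conj_mul, ← conj_mul, n4, n2, n3, kl.b_ab]
  have n6 : n * (t * z) * n⁻¹ = t * c := by rw [← conj_mul, n4, n2]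
  let Ω : Set G := {t, t * z, t * c, t * (z * c)}
  have hn : n ∈ normalizer Ω := mem_normalizer_fintype (by
    rintro _ (rfl | rfl | rfl | rfl)
    exacts [by simp [Ω, n4], by simp [Ω, n6], by rw [← conj_mul, n4, n3]; simp [Ω], by simp [Ω, n5]])
  have hm : m ∈ normalizer Ω := mem_normalizer_fintype (by
    rintro _ (rfl | rfl | rfl | rfl)
    exacts [by simp [Ω, m4], by simp [Ω, m1], by rw [← conj_mul, m4, m3, mul_assoc, mul_self_of_two kl.hab]; simp [Ω],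
      by rw [← mul_assoc t, ← conj_mul, m1, m3, mul_assoc, kl.a_ab]; simp [Ω]])
  have ht : t ∈ normalizer Ω := mem_normalizer_fintype fun x hx => by
    rwa [(w.comm (by
      rcases hx with rfl | rfl | rfl | rfl
      exacts [w.tT, mul_mem w.tT (w.le w.zD), mul_mem w.tT (w.le cD), mul_mem w.tT (w.le (mul_mem w.zD cD))])).symm.mul_inv_cancel]
  have e1 : n * m * t * (n * m)⁻¹ = t * z := by rw [← conj_mul', m4, n5]
  have e2 : n * (n * m) * t * (n * (n * m))⁻¹ = t * c := by rw [← conj_mul', e1, n6]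
  have e3 : {y | ∃ k ∈ normalizer Ω, k * t * k⁻¹ = y}.ncard = 2 ^ 2 := by
    rw [show {y | ∃ k ∈ normalizer Ω, k * t * k⁻¹ = y} = Ω from Set.Subset.antisymm (by
      rintro _ ⟨k, hk, rfl⟩; exact (hk t).1 (.inl rfl)) (by
      rintro _ (rfl | rfl | rfl | rfl)
      exacts [⟨1, one_mem _, by simp⟩, ⟨_, mul_mem hn hm, e1⟩, ⟨_, mul_mem hn (mul_mem hn hm), e2⟩, ⟨_, hm, m4⟩])]
    refine Set.ncard_eq_four.2 ⟨_, _, _, _, ?_, ?_, ?_, ?_, ?_, ?_, rfl⟩ <;>
      simp [ne_one_of_two w.z2, ne_one_of_two kl.hb, ne_one_of_two kl.hab, kl.ne.symm]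
  obtain ⟨P, hP, p1⟩ := exists_syl_ge (isPGroup_zpowers_two w.two) (zpowers_le.2 ht)
  obtain ⟨g, -, hg⟩ := hS.exists_conj_le hP.isPGroup le_top
  have f : ∀ k ∈ normalizer Ω, ∀ d ∈ D, orderOf d = 2 → k * t * k⁻¹ = t * d → g * d * g⁻¹ = z := fun k hk d hd d2 e => by
    obtain ⟨x, hx, e'⟩ := syl_trans hP e3 hk
    refine w.eq_z ?_ ((Invol.orderOf_conj g d).trans d2)
    have := cm _ (hg (conj_mem_cj g hx)) _ (hg (conj_mem_cj g (p1 (mem_zpowers t))))
    rwa [conj_inv, conj_inv, conj_mul, conj_mul, conj_mul, e', e, (w.comm (w.le hd)).symm.mul_inv_cancel] at this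
  exact kl.ne (mul_left_cancel (mul_right_cancel ((f _ (mul_mem hn (mul_mem hn hm)) c cD kl.hb e2).trans
    (f _ (mul_mem hn hm) z w.zD w.z2 e1).symm)))

end TD

end Cfsg.Lib.JTW
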