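import Cfsg.Agent.Lib.JTW.Std4
import Cfsg.Agent.Lib.Small.AbS
import Cfsg.Agent.Lib.Hall.Sh2c

/-! An involution `t` with `O^{2'}(C(t)/O(C(t))) = ⟨t⟩ × PSL₂(q)`: Sylow `2`-subgroups are abelian. -/

set_option autoImplicit false
set_option linter.unusedSectionVars false
set_option linter.style.haveILetI false

namespace Cfsg.Lib.JTW
open Subgroup Cfsg.Lib.Core Cfsg.Lib.BG1 Cfsg.Lib.Invol Cfsg.Lib.Layer Cfsg.Lib.Gold Cfsg.Lib.Linear Function
open Cfsg.Lib.Amalg hiding le_cent_symm op_top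
open Cfsg.Lib.GW hiding Ctx
open Cfsg.Lib.Exc (DS)
open scoped Cfsg.Lib.Wal

universe u

variable {G : Type u} [Group G] [Finite G] {S T D K Y : Subgroup G} {t s a b c d r n u x y z : G}

theorem ea (no2 : ∀ K : Subgroup G, K.index ≠ 2) (ht : orderOf t = 2) (hT : Syl 2 T 𝐂[t]) (hD : D ≤ T) (nm : t ∉ D)
    (dec : ∀ x ∈ T, x ∈ D ∨ t * x ∈ D) (sq : ∀ d ∈ D, d * d = 1) (big : 2 < Nat.card D) (hY : Y ≤ 𝐂[t] ⊓ 𝐍(D))
    (hn : 𝐂[t] ⊓ 𝐍(D) ≤ 𝐍(Y)) (tr : ∀ d ∈ D, ∀ d' ∈ D, d ≠ 1 → d' ≠ 1 → ∃ y ∈ Y, y * d * y⁻¹ = d')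
    (cm : ∀ y ∈ Y, ∀ y' ∈ Y, ∀ d ∈ D, y * (y' * d * y'⁻¹) * y⁻¹ = y' * (y * d * y⁻¹) * y'⁻¹) : Syl 2 T ⊤ := by
  haveI := fact_two
  obtain ⟨S, hS, h1⟩ := exists_syl_ge hT.isPGroup le_top
  obtain rfl | h2 := h1.eq_or_lt
  · exact hS
  exfalso
  have mT : ∀ x ∈ S, Commute x t → x ∈ T := fun x hx e =>
    hT.le_of_le (le_inf h1 hT.le) inf_le_right hS.isPGroup.to_inf_left ⟨hx, mem_cent.2 e⟩
  have tT : t ∈ T := hT.mem_of_mem_normalizer (k := 1) (sq_of_two ht) (mem_cent.2 rfl)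
    (centralizer_le_normalizer _ (mem_centS.2 fun _ h => (mem_cent.1 (hT.le h)).symm))
  have tt : ∀ x, t * (t * x) = x := fun x => by rw [← mul_assoc, mul_self_of_two ht, one_mul]
  obtain ⟨u, ⟨u1, u2⟩, u3⟩ := SetLike.exists_of_lt (lt_inf_normalizer_of_lt hS.isPGroup h2)
  have u4 : t * (u * t * u⁻¹) ≠ 1 := fun e => u3 (mT u u1 (mul_inv_eq_iff_eq_mul.1 (by rw [← tt (u * t * u⁻¹), e, mul_one])))
  have u5 := conj_mem_norm u2 tT
  obtain ⟨z, z1, z2, z3⟩ := Invol.exists_central hS.isPGroup (ne_bot_of_gt h2)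
  have z4 : ¬ IsConj t z := fun h => by
    obtain ⟨g, hg⟩ := isConj_iff.1 h.symm
    have := hT.card_le (isPGroup_cj g hS.isPGroup) (hg ▸ cj_centralizer_singleton g z ▸ cj_mono g fun x hx => mem_cent.2 (z3 x hx).symm)
    rw [card_cj] at this
    exact h2.ne (eq_of_le_of_card_ge h1 this)
  have c1 : ∀ d ∈ D, ∀ d' ∈ D, d ≠ 1 → d' ≠ 1 → IsConj d d' ∧ IsConj (t * d) (t * d') := fun d hd d' hd' e e' => by
    obtain ⟨y, y1, rfl⟩ := tr d hd d' hd' e e'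
    exact ⟨isConj_conj y d, by simpa only [← conj_mul, (mem_cent.1 (hY y1).1).mul_inv_cancel] using isConj_conj y (t * d)⟩
  rcases dec z (mT z z1 (z3 t (h1 tT))) with z5 | z5
  · have nX : ∀ d ∈ D, ¬ IsConj t d := fun d hd h => z4 (h.trans (c1 d hd z z5
      (ne_one_of_two (orderOf_of_isConj h ▸ ht)) (ne_one_of_two z2)).1)
    obtain ⟨F, _, _, e, e1, e2, e3, e4, e5⟩ := exists_coord (by rintro rfl; simp at big)
      (fun a ha b hb => PGrp.comm_of_mem (R2.comm_of_sq sq) ha hb) (hY.trans inf_le_right) tr cm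
    have e0 : e 0 = 1 := by simpa using e3 0 0
    refine TF.false ⟨ht, hT, hD, dec, sq, ?_, nX, fun d hd => ?_, e1, e2, e3, fun a h => let ⟨y, y1, y2⟩ := e4 a h; ⟨y, (hY y1).1, y2⟩,
      fun c h3 h4 a => ?_⟩ no2
    · exact big.trans_le (Nat.card_le_card_of_surjective (fun x => (⟨e x, (e2 _).2 ⟨x, rfl⟩⟩ : D)) fun d =>
        let ⟨x, h⟩ := (e2 d).1 d.2; ⟨x, Subtype.ext h⟩)
    · obtain rfl | d1 := eq_or_ne d 1
      · rw [mul_one]
      · exact (isConj_conj u t).trans (tt (u * t * u⁻¹) ▸ (c1 _ ((dec _ u5).resolve_left fun h => nX _ h (isConj_conj u t)) d hd u4 d1).2)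
    · obtain rfl | a0 := eq_or_ne a 0
      · exact ⟨0, fun x y _ => by simp [e0]⟩
      obtain ⟨y, y1, y2⟩ := e4 a a0
      obtain ⟨b, hb⟩ := e5 _ (conj_mem_norm (hn ⟨h3, h4⟩) y1)
      exact ⟨b, fun x y h => by rw [← hb, ← h, ← y2]; group⟩
  · have nX : ∀ d ∈ D, d ≠ 1 → ¬ IsConj t (t * d) := fun d hd e h => z4 (h.trans (tt z ▸ (c1 d hd _ z5 e fun e =>
      z4 (by rw [← tt z, e, mul_one])).2))
    have k : ∀ x ∈ T, IsConj t x → x ∈ D ∨ x = t := fun x hx h => (dec x hx).imp_right fun e => by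
      rw [← tt x, not_imp_not.1 (nX _ e) (by rwa [tt]), mul_one]
    have u6 := (k _ u5 (isConj_conj u t)).resolve_right fun e => u4 (by rw [e, mul_self_of_two ht])
    have aX : ∀ d ∈ D, d ≠ 1 → IsConj t d := fun d hd e => (isConj_conj u t).trans (c1 _ u6 d hd (by
      simpa using ne_one_of_two ht) e).1
    have : D ≤ zpowers (u⁻¹ * t * u) := fun d hd => by
      obtain rfl | d1 := eq_or_ne d 1
      · exact one_mem _
      rw [← (k _ (conj_mem_norm u2 (hD hd)) ((aX d hd d1).trans (isConj_conj u d))).resolve_left fun e => nX d hd d1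
        ((aX _ (mul_mem u6 e) (by
          rw [conj_mul, Ne, conj_eq_one_iff, mul_eq_one_iff_inv_eq, inv_of_two ht]; rintro rfl; exact nm hd)).trans
          (conj_mul (b := u) ▸ (isConj_conj u _).symm))]
      simp [mul_assoc]
    have := card_le_of_le this
    rw [Nat.card_zpowers, Invol.orderOf_conj', ht] at this
    omega

theorem four_cm (hD : Syl 2 D ⊤) (k : Kl a b) (e : D = closure {a, b}) (hn : n * a * n⁻¹ = b) (hn' : n * b * n⁻¹ = a * b)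
    (hy : y ∈ 𝐍(D)) : ∃ i : ℕ, ∀ d ∈ D, y * d * y⁻¹ = n ^ i * d * (n ^ i)⁻¹ := by
  have c4 : Nat.card D = 4 := e ▸ k.card
  have sq : ∀ d ∈ D, d * d = 1 := fun d hd => by
    rcases (k.mem_iff d).1 (e ▸ hd) with rfl | rfl | rfl | rfl
    exacts [one_mul 1, mul_self_of_two k.ha, mul_self_of_two k.hb, mul_self_of_two k.hab]
  have aD : a ∈ D := e ▸ Kl.mem_left a b
  have fix : ∀ y ∈ 𝐍(D), y * a * y⁻¹ = a → ∀ x ∈ D, y * x * y⁻¹ = x := fun y hy h x hx => by_contra fun h1 => by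
    have k' : Kl a x := ⟨k.ha, two_of_mul_self (sq x hx) (by rintro rfl; simp at h1), by rintro rfl; exact h1 h,
      PGrp.comm_of_mem (R2.comm_of_sq sq) hx aD⟩
    have h2 : y * x * y⁻¹ = a * x := by
      rcases (k'.mem_iff _).1 ((eq_of_le_of_card_ge (Kl.closure_le aD hx) (c4.trans k'.card.symm).le).ge (conj_mem_norm hy hx))
        with h2 | h2 | h2 | h2
      exacts [absurd (conj_eq_one_iff.1 h2) (ne_one_of_two k'.hb), absurd (mul_left_cancel (mul_right_cancel (h2.trans h.symm))) k'.ne,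
        absurd h2 h1, h2]
    obtain ⟨m, m1, m2⟩ := exists_odd_pow_mem hD.toSylowTop hy
    have := conj_odd_pow_of_swap h2 (by rw [← conj_mul, h, h2, k'.a_ab]) m1
    rw [PGrp.comm_of_mem (R2.comm_of_sq sq) m2 hx, mul_inv_cancel_right] at this
    exact ne_one_of_two k.ha (by simpa using this)
  have nD : n ∈ 𝐍(D) := mem_normalizer_of_cj_le (cj_le_iff'.2 fun d hd => e ▸ (k.mem_iff _).2 (by
    rcases (k.mem_iff d).1 (e ▸ hd) with rfl | rfl | rfl | rfl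
    exacts [by simp, by simp [hn], by simp [hn'], by rw [← conj_mul, hn, hn', k.b_ab]; simp]))
  obtain ⟨i, hi⟩ : ∃ i : ℕ, y * a * y⁻¹ = n ^ i * a * (n ^ i)⁻¹ := by
    rcases (k.mem_iff _).1 (e ▸ conj_mem_norm hy aD) with h | h | h | h
    exacts [absurd (conj_eq_one_iff.1 h) (ne_one_of_two k.ha), ⟨0, by simpa using h⟩, ⟨1, by rw [h, pow_one, hn]⟩,
      ⟨2, by rw [h, pow_two, ← conj_mul', hn, hn']⟩]
  refine ⟨i, fun d hd => ?_⟩
  nth_rw 2 [← fix _ (mul_mem (inv_mem (pow_mem nD i)) hy) (by rw [← conj_mul', hi]; group) d hd]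
  group

theorem psl_comm {F : Type*} [Field F] [Finite F] [CharP F 2] {P : Subgroup (PSL2 F)} (hP : Syl 2 P ⊤) {a b : PSL2 F}
    (ha : a ∈ 𝐍(P)) (hb : b ∈ 𝐍(P)) : (b * a)⁻¹ * (a * b) ∈ P := by
  haveI := fact_two
  obtain ⟨x, hx⟩ := exists_fix_of_le_normalizer hP.toSylowTop
  obtain ⟨χ, hχ⟩ := exists_slope x
  refine hP.mem_of_mem_normalizer (k := 1) (Matrix.ProjectiveSpecialLinearGroup.toPGL_injective ?_) (mem_top _)
    (mul_mem (inv_mem (mul_mem hb ha)) (mul_mem ha hb))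
  rw [map_pow, map_mul, map_inv, map_mul, map_mul, map_one]
  exact pow_char_eq_one_of_mem_unip 2 ((hχ ((⟨_, (hx _).1 hb⟩ * ⟨_, (hx _).1 ha⟩)⁻¹ * (⟨_, (hx _).1 ha⟩ * ⟨_, (hx _).1 hb⟩))).1 (by
    rw [map_mul, map_inv, map_mul, map_mul, mul_comm (χ _), inv_mul_cancel]))

theorem l2_syl {F : Type*} [Field F] [Finite F] (h4 : 4 ≤ Nat.card F) (ψ : G →* PSL2 F) (hs : Surjective ψ)
    (ho : Odd (Nat.card ψ.ker)) (hD : Syl 2 D ⊤) : 2 < Nat.card D ∧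
    (((∀ d ∈ D, d * d = 1) ∧ (∀ d ∈ D, ∀ d' ∈ D, d ≠ 1 → d' ≠ 1 → ∃ y ∈ 𝐍(D), y * d * y⁻¹ = d') ∧
      ∀ y ∈ 𝐍(D), ∀ y' ∈ 𝐍(D), ∀ d ∈ D, y * (y' * d * y'⁻¹) * y⁻¹ = y' * (y * d * y⁻¹) * y'⁻¹) ∨
    ∃ r b z, DS D r b ∧ orderOf r ≠ 2 ∧ orderOf z = 2 ∧ z ∈ zpowers r ∧
      ∀ a b : G, Kl a b → ∃ n, n * a * n⁻¹ = b ∧ n * b * n⁻¹ = a * b) := by
  haveI := fact_two
  haveI := isSimpleGroup_PSL2 h4
  have hP := hD.map_top hs
  have k0 : ∀ x, ψ x = 1 → Odd (orderOf x) := fun x h => ho.of_dvd_nat (orderOf_dvd_natCard ψ.ker h)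
  have k1 : ∀ x, Two x → ψ x = 1 → x = 1 := fun x h e => h.eq_one (k0 x e)
  have no2 : ∀ M : Subgroup G, M.index ≠ 2 := fun M h => Exc.index_ne_two psl_not_isMulCommutative (M.map ψ) (by
    rw [index_map_eq M hs fun x hx => ?_, h]
    obtain ⟨m, hm⟩ := k0 x hx
    have := pow_mem (sq_mem_of_index_two h x) (m + 1)
    rwa [← pow_mul, show 2 * (m + 1) = orderOf x + 1 by omega, pow_succ, pow_orderOf_eq_one, one_mul] at this)
  have nc : ¬ IsCyclic D := fun h => (Hall.Lin.exists_index_two_of_isCyclic ((FT.even_card_of_simple (PSL2 F) fun h =>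
    psl_not_isMulCommutative ⟨⟨h⟩⟩).two_dvd.trans (card_dvd_of_surjective ψ hs) |> even_iff_two_dvd.2) hD.toSylowTop h).elim no2
  have tr : (∀ d ∈ D, d * d = 1) → (∀ s t : G, orderOf s = 2 → orderOf t = 2 → IsConj s t) →
      ∀ d ∈ D, ∀ d' ∈ D, d ≠ 1 → d' ≠ 1 → ∃ y ∈ 𝐍(D), y * d * y⁻¹ = d' := fun sq h d hd d' hd' e e' => by
    obtain ⟨g, rfl⟩ := isConj_iff.1 (h d d' (two_of_mul_self (sq d hd) e) (two_of_mul_self (sq d' hd') e'))
    exact let ⟨n, h1, h2⟩ := exists_norm_conj hD (R2.comm_of_sq sq) hd (mem_top g) hd'; ⟨n, h1.2, h2⟩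
  refine ⟨not_le.1 fun h => nc ?_, ?_⟩
  · rcases h.eq_or_lt with h | h
    · exact isCyclic_of_prime_card h
    · exact haveI := Finite.card_le_one_iff_subsingleton.1 (Nat.le_of_lt_succ h); inferInstance
  by_cases h2 : (2 : F) = 0
  · haveI : CharP F 2 := (CharP.charP_iff_prime_eq_zero Nat.prime_two).2 h2
    haveI := Fintype.ofFinite F
    obtain ⟨m, -, hm⟩ := FiniteField.card F 2
    haveI := Fintype.ofFinite (GaloisField 2 m)
    have c1 := GaloisField.card 2 m m.2.ne'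
    rw [← Nat.card_eq_fintype_card] at hm
    have l : IsL2e (PSL2 F) := ⟨GaloisField 2 m, _, _, ⟨m, (Nat.pow_le_pow_iff_right one_lt_two).1 (h4.trans hm.le),
      Nat.card_eq_fintype_card.symm.trans c1⟩, nonempty_psl_equiv_of_card_eq (hm.trans c1.symm)⟩
    obtain ⟨l1, l2, -, l3⟩ := AbS.l2e_syl l hP
    have sq : ∀ d ∈ D, d * d = 1 := fun d hd => k1 _ (.of_mem hD.isPGroup (mul_mem hd hd)) (map_mul ψ d d ▸ l1 _ (mem_map_of_mem ψ hd))
    have k2 : ∀ s, orderOf s = 2 → orderOf (ψ s) = 2 := fun s h => two_of_mul_self (by rw [← map_mul, mul_self_of_two h, map_one])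
      fun e => ne_one_of_two h (k1 s (.of_two h) e)
    refine .inl ⟨sq, tr sq fun s t h h' => ?_, fun y hy y' hy' d hd => ?_⟩
    · obtain ⟨g, hg⟩ := isConj_iff.1 (se_isConj l3 (k2 s h) (k2 t h'))
      obtain ⟨g, rfl⟩ := hs g
      exact (isConj_conj g s).trans (isConj_of_odd (by rw [conj_mul, mul_self_of_two h]; simp) (mul_self_of_two h') (k0 _ (by
        rw [map_mul, map_mul, map_mul, map_inv, hg, ← map_mul, mul_self_of_two h', map_one])))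
    · have k3 : ∀ y ∈ 𝐍(D), ψ y ∈ 𝐍(D.map ψ) := fun y hy => le_normalizer_map ψ (mem_map_of_mem ψ hy)
      have k5 := psl_comm hP (k3 y hy) (k3 y' hy')
      rw [← map_mul, ← map_mul, ← map_inv, ← map_mul] at k5
      have := k1 _ (.of_mem hD.isPGroup (mul_mem (conj_mem_norm (mul_mem (inv_mem (mul_mem hy' hy)) (mul_mem hy hy')) hd) (inv_mem hd))) (by
        rw [map_mul, map_mul, map_mul, PGrp.comm_of_mem l2 k5 (mem_map_of_mem ψ hd), map_inv, map_inv, mul_inv_cancel_right, mul_inv_cancel])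
      nth_rw 2 [← mul_inv_eq_one.1 this]
      group
  have dc : DC2 G := fun P hP => (((dc2_psl2 h2).of_injective (ψ.comp P.subtype) ((injective_iff_map_eq_one _).2 fun x h =>
    Subtype.ext (k1 _ (.of_mem hP x.2) h))) ⊤ (hP.to_subgroup ⊤)).elim (fun h => .inl (topEquiv.isCyclic.1 h)) fun ⟨r, x, h⟩ => by
      have := ds_map h P.subtype
      rw [← MonoidHom.range_eq_map, range_subtype] at this
      exact this.imp_right fun h => ⟨_, _, h⟩
  have cyc : ∀ a b : G, Kl a b → ∃ n, n * a * n⁻¹ = b ∧ n * b * n⁻¹ = a * b := fun a b h =>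
    let ⟨n, _, e⟩ := dc.exists_cyc3 (L := ⊤) (fun s _ t _ h h' => let ⟨g, e⟩ := isConj_iff.1 (dc.isConj no2 h h'); ⟨g, trivial, e⟩)
      h trivial trivial; ⟨n, e⟩
  obtain ⟨r, b, h⟩ := (dc D hD.isPGroup).resolve_left nc
  by_cases r2 : orderOf r = 2
  · have k := ds_nc h r2 (mem_zpowers r)
    have e := ds_eq_klein k h (mem_zpowers r) r2
    have sq : ∀ d ∈ D, d * d = 1 := fun d hd => by
      rcases (k.mem_iff d).1 (e ▸ hd) with rfl | rfl | rfl | rfl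
      exacts [one_mul 1, mul_self_of_two k.ha, mul_self_of_two k.hb, mul_self_of_two k.hab]
    obtain ⟨n, n1, n2⟩ := cyc r b k
    refine .inl ⟨sq, tr sq fun _ _ => dc.isConj no2, fun y hy y' hy' d hd => ?_⟩
    obtain ⟨i, hi⟩ := four_cm hD k e n1 n2 hy
    obtain ⟨j, hj⟩ := four_cm hD k e n1 n2 hy'
    rw [hi _ (conj_mem_norm hy' hd), hj _ (conj_mem_norm hy hd), hi d hd, hj d hd]
    group
  · obtain ⟨z, z1, z2⟩ := exists_two_mem_of_even (H := zpowers r) (Nat.not_odd_iff_even.1 fun e => nc (isCyclic_of_prime_card (p := 2) (by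
      rw [h.card, (Two.of_mem hD.isPGroup (h.le (mem_zpowers r))).eq_one (Nat.card_zpowers r ▸ e), orderOf_one])))
    exact .inr ⟨r, b, z, h, r2, z2, z1, cyc⟩

theorem std_abel (no2 : ∀ K : Subgroup G, K.index ≠ 2) (ht : orderOf t = 2) (h1 : K ≤ 𝐂[t]) (h2 : 𝐂[t] ≤ 𝐍(K)) (h3 : t ∉ K)
    (dec : ∀ x ∈ 𝐂[t], Two x → x ∈ K ∨ t * x ∈ K) {F : Type*} [Field F] [Finite F] (h4 : 4 ≤ Nat.card F) (ψ : K →* PSL2 F)
    (hs : Surjective ψ) (ho : Odd (Nat.card ψ.ker)) : ∃ T : Subgroup G, Syl 2 T ⊤ ∧ IsMulCommutative T ∧ 4 < Nat.card T := by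
  haveI := fact_two
  obtain ⟨T, hT⟩ := exists_syl 2 𝐂[t]
  have hD := hT.inf_normal h1 h2
  have tT : t ∈ T := hT.mem_of_mem_normalizer (k := 1) (sq_of_two ht) (mem_cent.2 rfl)
    (centralizer_le_normalizer _ (mem_centS.2 fun _ h => (mem_cent.1 (hT.le h)).symm))
  have nm : t ∉ T ⊓ K := fun h => h3 h.2
  have dec' : ∀ x ∈ T, x ∈ T ⊓ K ∨ t * x ∈ T ⊓ K := fun x hx =>
    (dec x (hT.le hx) (.of_mem hT.isPGroup hx)).imp (⟨hx, ·⟩) (⟨mul_mem tT hx, ·⟩)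
  have le : T ⊓ K ≤ T := inf_le_left
  generalize T ⊓ K = D at *
  obtain ⟨c1, ⟨sq, tr, cm⟩ | ⟨r, b, z, k1, k2, k3, k4, k5⟩⟩ := l2_syl h4 ψ hs ho hD.subgroupOf_top
  · rw [← subgroupOf_normalizer_eq hD.le] at tr cm
    rw [Nat.card_congr (subgroupOfEquivOfLe hD.le).toEquiv] at c1
    have sq' : ∀ d ∈ D, d * d = 1 := fun d hd => congrArg Subtype.val (sq ⟨d, hD.le hd⟩ hd)
    refine ⟨T, ea (Y := K ⊓ 𝐍(D)) no2 ht hT le nm dec' sq' c1 (inf_le_inf_right _ h1) (fun c hc => mem_normalizer_of_cj_le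
      (cj_le_iff'.2 fun y hy => ⟨conj_mem_norm (h2 hc.1) hy.1, conj_mem_norm (le_normalizer hc.2) hy.2⟩)) (fun d hd d' hd' e e' => ?_)
      fun y hy y' hy' d hd => congrArg Subtype.val (cm ⟨y, hy.1⟩ hy.2 ⟨y', hy'.1⟩ hy'.2 ⟨d, hD.le hd⟩ hd),
      R2.comm_of_sq fun x hx => (dec' x hx).elim (sq' x) fun h => ?_, by rw [card_two le tT nm dec']; omega⟩
    · obtain ⟨y, y1, y2⟩ := tr ⟨d, hD.le hd⟩ hd ⟨d', hD.le hd'⟩ hd' (fun h => e (congrArg Subtype.val h)) fun h => e' (congrArg Subtype.val h)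
      exact ⟨y, ⟨y.2, y1⟩, congrArg Subtype.val y2⟩
    · simpa [(mem_cent.1 (hT.le hx)).mul_mul_mul_comm, mul_self_of_two ht] using sq' _ h
  · refine (TD.false (G := G) (r := r) (b := b) (z := z) ⟨ht, hT, le, nm, dec', ⟨congrArg Subtype.val k1.hx, congrArg Subtype.val k1.inv,
      fun ⟨i, h⟩ => k1.notMem ⟨i, Subtype.ext h⟩, fun y => ⟨fun hy => ((k1.mem ⟨y, hD.le hy⟩).1 hy).imp (fun ⟨i, h⟩ => ⟨i, congrArg Subtype.val h⟩)
        fun ⟨i, h⟩ => ⟨i, congrArg Subtype.val h⟩, fun h => ?_⟩⟩, by rwa [orderOf_coe], by rwa [orderOf_coe],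
      let ⟨i, h⟩ := k4; ⟨i, congrArg Subtype.val h⟩, fun a ha b hb k => ?_⟩ no2).elim
    · have : zpowers (r : G) ≤ D := zpowers_le.2 (k1.le (mem_zpowers r))
      exact h.elim (@this _) fun h => (D.mul_mem_cancel_left k1.x_mem).1 (this h)
    · obtain ⟨n, n1, n2⟩ := k5 ⟨a, hD.le ha⟩ ⟨b, hD.le hb⟩ ⟨(orderOf_coe _).symm.trans k.ha, (orderOf_coe _).symm.trans k.hb,
        fun h => k.ne (congrArg Subtype.val h), Subtype.ext k.comm⟩
      exact ⟨n, h1 n.2, congrArg Subtype.val n1, congrArg Subtype.val n2⟩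

theorem std_eight [hG : IsSimpleGroup G] (nc : ¬ IsMulCommutative G) (ht : orderOf t = 2) (h1 : K ≤ 𝐂[t]) (h2 : 𝐂[t] ≤ 𝐍(K)) (h3 : t ∉ K)
    (dec : ∀ x ∈ 𝐂[t], Two x → x ∈ K ∨ t * x ∈ K) {F : Type*} [Field F] [Finite F] (h4 : 4 ≤ Nat.card F) (ψ : K →* PSL2 F)
    (hs : Surjective ψ) (ho : Odd (Nat.card ψ.ker)) (hS : Syl 2 S ⊤) : Nat.card S = 8 ∧ ∀ x ∈ S, x * x = 1 := by
  haveI := fact_two
  obtain ⟨T, hT, hc, c4⟩ := std_abel (Exc.index_ne_two nc) ht h1 h2 h3 dec h4 ψ hs ho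
  obtain ⟨g, -, rfl⟩ := hT.exists_conj hS
  rcases (Wal.walter_aux G hG nc T hT hc).2 with h | ⟨-, h⟩ | ⟨_, _, _, h⟩
  · omega
  · obtain ⟨P, hP, p1⟩ := exists_syl_ge (isPGroup_zpowers_two ht) le_top
    haveI := ((hP.isPGroup.to_le (h1.trans ((AbS.l2e_syl h hP).2.2.1 t (p1 (mem_zpowers t)) (ne_one_of_two ht)).le)).of_surjective
      ψ hs).isNilpotent
    exact (not_isSolvable_PSL2 h4 inferInstance).elim
  · exact ⟨(card_cj g T).trans h.card, by rintro _ ⟨x, hx, rfl⟩; rw [← map_mul, h.sq x hx, map_one]⟩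

theorem std_quot [IsSimpleGroup G] (nc : ¬ IsMulCommutative G) (ht : orderOf t = 2) {Q : Type*} [Group Q] [Finite Q] (π : 𝐂[t] →* Q)
    (π1 : ∀ x, π x = 1 → Odd (orderOf x)) {L : Subgroup Q} [n : L.Normal] (h1 : ∀ x, Two x → x ∈ L) (h0 : L ≤ π.range)
    {F : Type*} [Field F] [Finite F] (h4 : 4 ≤ Nat.card F) (e : L ≃* Multiplicative (ZMod 2) × PSL2 F) (hS : Syl 2 S ⊤) :
    Nat.card S = 8 ∧ ∀ x ∈ S, x * x = 1 := by
  haveI := isSimpleGroup_PSL2 h4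
  let t' : 𝐂[t] := ⟨t, mem_cent.2 rfl⟩
  have t2 : orderOf t' = 2 := (orderOf_coe _).symm.trans ht
  have tW := h1 _ ((Two.of_two t2).map π)
  let φ := L.subtype.comp (e.symm.toMonoidHom.comp (MonoidHom.inr _ _))
  have hφ : Injective φ := L.subtype_injective.comp (e.symm.injective.comp fun a b h => congrArg Prod.snd h)
  have k1 : ∀ w : L, (w : Q) ∈ φ.range ↔ (e w).1 = 1 := fun w => ⟨fun ⟨a, h⟩ => by
    rw [← show e.symm (1, a) = w from Subtype.ext h, e.apply_symm_apply], fun h => ⟨(e w).2, congrArg Subtype.val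
      (e.symm_apply_eq.2 (Prod.ext h.symm rfl))⟩⟩
  have k0 : ∀ w ∈ L, w * π t' = π t' * w := by
    intro w hw
    obtain ⟨c, rfl⟩ := h0 hw
    rw [← map_mul, ← map_mul, show c * t' = t' * c from Subtype.ext (mem_cent.1 c.2)]
  have k2 : (e ⟨_, tW⟩).1 ≠ 1 := fun h => Nat.not_odd_iff_even.2 even_two (t2 ▸ π1 t' (congrArg Subtype.val ((map_eq_one_iff _ e.injective).1
    (Prod.ext h ((center_of_simple psl_not_isMulCommutative).le (mem_center_iff.2 fun b => by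
      simpa using congrArg (fun x => (e x).2) (Subtype.ext (k0 _ (e.symm (1, b)).2) :
        e.symm (1, b) * ⟨_, tW⟩ = ⟨_, tW⟩ * e.symm (1, b))))))))
  have k3 : ∀ w ∈ L, w ∈ φ.range ∨ π t' * w ∈ φ.range := fun w hw => by
    erw [k1 ⟨w, hw⟩, k1 (⟨_, tW⟩ * ⟨w, hw⟩)]
    rw [map_mul, Prod.fst_mul]
    exact (by decide : ∀ x y : Multiplicative (ZMod 2), y ≠ 1 → x = 1 ∨ y * x = 1) _ _ k2
  have k4 : φ.range ≤ L := by rintro _ ⟨a, rfl⟩; exact Subtype.property _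
  have k5 : ⁅L, L⁆ = φ.range := le_antisymm (commutator_le.2 fun a ha b hb =>
    (k1 (⟨a, ha⟩ * ⟨b, hb⟩ * (⟨a, ha⟩ : L)⁻¹ * (⟨b, hb⟩ : L)⁻¹)).2 (by simp only [map_mul]; simp)) (by
      rw [MonoidHom.range_eq_map, ← IsQuasisimple.commutator_eq_top (isQuasisimple_of_isSimpleGroup psl_not_isMulCommutative), _root_.commutator_def,
        map_commutator, ← MonoidHom.range_eq_map]
      exact commutator_mono k4 k4)
  haveI : φ.range.Normal := k5 ▸ inferInstance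
  let f := ((φ.range.comap π).equivMapOfInjective _ (𝐂[t]).subtype_injective).symm
  exact std_eight (K := (φ.range.comap π).map (𝐂[t]).subtype) nc ht (map_subtype_le _) (by
      nth_rw 1 [← range_subtype 𝐂[t], MonoidHom.range_eq_map]
      exact (map_mono (normalizer_eq_top _).ge).trans (le_normalizer_map _))
    (fun ⟨y, h, e⟩ => k2 ((k1 ⟨_, tW⟩).1 (by rwa [show y = t' from Subtype.ext e] at h)))
    (fun x hx ⟨k, h⟩ => (k3 _ (h1 _ (Two.map (x := (⟨x, hx⟩ : 𝐂[t])) ⟨k, Subtype.ext h⟩ π))).imp (fun h => ⟨_, h, rfl⟩)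
      fun h => ⟨t' * ⟨x, hx⟩, by rwa [← map_mul] at h, rfl⟩) h4
    ((MonoidHom.ofInjective hφ).symm.toMonoidHom.comp ((π.subgroupComap φ.range).comp f.toMonoidHom))
    ((MonoidHom.ofInjective hφ).symm.surjective.comp (Surjective.comp (g := π.subgroupComap φ.range)
      (fun ⟨y, hy⟩ => let ⟨c, hc⟩ := h0 (k4 hy); ⟨⟨c, by rwa [mem_comap, hc]⟩, Subtype.ext hc⟩) f.surjective)) (Nat.not_even_iff_odd.1 fun h => by
      obtain ⟨x, x1, x2⟩ := exists_two_mem_of_even h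
      have := π1 (f x) (congrArg Subtype.val ((map_eq_one_iff _ (MonoidHom.ofInjective hφ).symm.injective).1 x1))
      rw [orderOf_coe, f.orderOf_eq, x2] at this
      exact absurd this (by decide)) hS

end Cfsg.Lib.JTW
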